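import Mathlib
import Cfsg.Prelude.Def_Characters
import Cfsg.Agent.Lead.CharClifford
import Cfsg.Agent.Lead.CharCore6

namespace Cfsg.Agent.Helper2.CharN

open Cfsg.Agent.Lead
open scoped ComplexConjugate

universe u

section
variable {G : Type u} [Group G] [Fintype G] (N : Subgroup G) [hN : N.Normal] [Fintype N]

/-- an invariant irreducible constituent: the restriction is a multiple of it -/
theorem res_eq_smul_of_invariant {χ : G → ℂ} (hχ : Cfsg.IsIrrCharacter G χ) {ϑ : N → ℂ}
    (hϑ : Cfsg.IsIrrCharacter N ϑ) (hcon : Cfsg.classInner (fun n : N => χ n) ϑ ≠ 0)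
    (hinv : ∀ (g : G) (n : N), ϑ ⟨g * n * g⁻¹, hN.conj_mem (n : G) n.2 g⟩ = ϑ n) :
    (fun n : N => χ n) = Cfsg.classInner (fun n : N => χ n) ϑ • ϑ := by
  have h := clifford N hχ hϑ hcon
  have hr : Set.range (conjFun N ϑ) = {ϑ} := by
    ext ψ
    simp only [Set.mem_range, Set.mem_singleton_iff]
    constructor
    · rintro ⟨g, rfl⟩
      funext n
      exact hinv g n
    · rintro rfl
      exact ⟨1, by funext n; exact hinv 1 n⟩
  rw [hr, finsum_mem_singleton] at h
  exact h

/-- the multiplicity is a natural number -/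
theorem res_inner_nat {χ : G → ℂ} (hχ : Cfsg.IsCharacter G χ) {ϑ : N → ℂ}
    (hϑ : Cfsg.IsCharacter N ϑ) : ∃ k : ℕ, Cfsg.classInner (fun n : N => χ n) ϑ = (k : ℂ) :=
  classInner_isCharacter_nat (isCharacter_res N hχ) hϑ

omit hN in
open Classical in
/-- splitting a sum over the group along a subgroup -/
theorem sum_split (f : G → ℂ) :
    ∑ g : G, f g = ∑ n : N, f n + ∑ g : G, (if g ∈ N then 0 else f g) := by
  rw [← Finset.sum_filter_add_sum_filter_not Finset.univ (fun g : G => g ∈ N) f]
  congr 1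
  · exact Finset.sum_subtype (Finset.univ.filter (fun g : G => g ∈ N)) (by simp) f
  · rw [Finset.sum_filter]
    refine Finset.sum_congr rfl (fun g _ => ?_)
    by_cases h : g ∈ N <;> simp [h]

omit hN [Fintype N] in
/-- the norm sum of an irreducible character -/
theorem sum_mul_conj_irr {χ : G → ℂ} (hχ : Cfsg.IsIrrCharacter G χ) :
    ∑ g : G, χ g * conj (χ g) = (Nat.card G : ℂ) := by
  have h := classInner_self_of_isIrrCharacter hχ
  unfold Cfsg.classInner at h
  have hG : (Nat.card G : ℂ) ≠ 0 := natCard_ne_zero_complex G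
  field_simp at h
  exact h

end

end Cfsg.Agent.Helper2.CharN
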