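import Mathlib
import Cfsg.Prelude.Def_Characters
import Cfsg.Agent.Helper2.CharN
import Cfsg.Agent.S0193
import Cfsg.Agent.S0148

namespace Cfsg.Agent.Helper2.CharN

open Cfsg.Agent.Lead
open scoped ComplexConjugate

universe u

section
variable {G : Type u} [Group G] [Fintype G]

/-- a function with `f 1 ≠ 0` has nonzero norm -/
theorem classInner_self_ne_zero {f : G → ℂ} (h1 : f 1 ≠ 0) : Cfsg.classInner f f ≠ 0 := by
  intro h0
  unfold Cfsg.classInner at h0
  have hG : (Nat.card G : ℂ) ≠ 0 := natCard_ne_zero_complex G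
  rcases mul_eq_zero.mp h0 with h | h
  · exact hG (inv_eq_zero.mp h)
  · have h2 : ∀ x : G, f x * conj (f x) = ((Complex.normSq (f x) : ℝ) : ℂ) :=
      fun x => Complex.mul_conj _
    rw [Finset.sum_congr rfl (fun x _ => h2 x), ← Complex.ofReal_sum] at h
    have h3 : ∑ x : G, Complex.normSq (f x) = 0 := by exact_mod_cast h
    have h4 := (Finset.sum_eq_zero_iff_of_nonneg
      (fun x _ => Complex.normSq_nonneg (f x))).mp h3 1 (Finset.mem_univ _)
    exact h1 (Complex.normSq_eq_zero.mp h4)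

variable (N : Subgroup G) [hN : N.Normal]

omit hN in
/-- induction of a product with a restricted class function -/
theorem indFun_mul_res (φ ϑ : N → ℂ) {χ : G → ℂ} (hχ : Cfsg.IsClassFunction G χ)
    (hext : ∀ n : N, χ n = ϑ n) :
    Cfsg.indFun N (φ * ϑ) = Cfsg.indFun N φ * χ := by
  funext g
  rw [Pi.mul_apply, indFun_apply, indFun_apply, mul_assoc, Finset.sum_mul]
  congr 1
  refine Finset.sum_congr rfl (fun x _ => ?_)
  by_cases hx : x⁻¹ * g * x ∈ N
  · rw [extendByZero_mem N _ hx, extendByZero_mem N _ hx, Pi.mul_apply, ← hext ⟨_, hx⟩]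
    have h : χ (x⁻¹ * g * x) = χ g := by
      have := hχ g x⁻¹
      simpa using this
    show φ ⟨_, hx⟩ * χ (x⁻¹ * g * x) = φ ⟨_, hx⟩ * χ g
    rw [h]
  · rw [extendByZero_not_mem N _ hx, extendByZero_not_mem N _ hx, zero_mul]

/-- the norm of the function induced from an invariant irreducible character -/
theorem inner_ind_invariant {θ : N → ℂ} (hθ : Cfsg.IsIrrCharacter N θ)
    (hinv : ∀ (g : G) (n : N), θ ⟨g * n * g⁻¹, hN.conj_mem (n : G) n.2 g⟩ = θ n) :
    Cfsg.classInner (Cfsg.indFun N θ) (Cfsg.indFun N θ) = (N.index : ℂ) := by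
  have h := Cfsg.Agent.S0193.result N θ hθ
  have hcard : Nat.card {g : G // ∀ h : N, θ ⟨g * h * g⁻¹, hN.conj_mem h h.2 g⟩ = θ h}
      = Nat.card G :=
    Nat.card_congr (Equiv.subtypeUnivEquiv (fun g => hinv g))
  rw [hcard] at h
  have hidx : (N.index : ℂ) * (Nat.card N : ℂ) = (Nat.card G : ℂ) := by
    exact_mod_cast Subgroup.index_mul_card N
  have hNne : (Nat.card N : ℂ) ≠ 0 := natCard_ne_zero_complex N
  rw [← hidx] at h
  exact mul_left_cancel₀ hNne (by rw [h]; ring)

/-- Gallagher-type multiplicity analysis: `φ`, `φ * ϑ` invariant irreducible, `χ` a character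
extending `ϑ`. -/
theorem gallagher_core [Fintype (Cfsg.IrrCharacter G)] (φ ϑ : N → ℂ)
    (hφ : Cfsg.IsIrrCharacter N φ)
    (hφinv : ∀ (g : G) (n : N), φ ⟨g * n * g⁻¹, hN.conj_mem (n : G) n.2 g⟩ = φ n)
    (hϑinv : ∀ (g : G) (n : N), ϑ ⟨g * n * g⁻¹, hN.conj_mem (n : G) n.2 g⟩ = ϑ n)
    (hprod : Cfsg.IsIrrCharacter N (φ * ϑ)) (χ : G → ℂ) (hχc : Cfsg.IsCharacter G χ)
    (hχ1 : χ 1 ≠ 0) (hext : ∀ n : N, χ n = ϑ n) :
    ∃ a : Cfsg.IrrCharacter G → ℕ,
      (∀ β : Cfsg.IrrCharacter G,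
        Cfsg.classInner (Cfsg.indFun N φ) (β : G → ℂ) = (a β : ℂ)) ∧
      (∀ β : Cfsg.IrrCharacter G, a β ≠ 0 → Cfsg.IsIrrCharacter G ((β : G → ℂ) * χ)) ∧
      (∀ β β' : Cfsg.IrrCharacter G, a β ≠ 0 → a β' ≠ 0 → β ≠ β' →
        Cfsg.classInner ((β : G → ℂ) * χ) ((β' : G → ℂ) * χ) = 0) ∧
      (∀ ψ : G → ℂ, Cfsg.classInner (Cfsg.indFun N (φ * ϑ)) ψ
        = ∑ β : Cfsg.IrrCharacter G, (a β : ℂ) * Cfsg.classInner ((β : G → ℂ) * χ) ψ) := by
  classical
  have hχcf : Cfsg.IsClassFunction G χ := isCharacter_isClassFunction hχc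
  have hφc : Cfsg.IsCharacter N φ := isCharacter_of_isIrrCharacter hφ
  have hK1 := indFun_mul_res N φ ϑ hχcf hext
  have hindc : Cfsg.IsCharacter G (Cfsg.indFun N φ) := Cfsg.Agent.S0148.result N φ hφc
  have hexa : ∀ β : Cfsg.IrrCharacter G, ∃ k : ℕ,
      Cfsg.classInner (Cfsg.indFun N φ) (β : G → ℂ) = (k : ℂ) :=
    fun β => classInner_isCharacter_nat hindc (isCharacter_of_isIrrCharacter β.2)
  choose a ha using hexa
  have hdec : Cfsg.indFun N φ = ∑ β : Cfsg.IrrCharacter G, (a β : ℂ) • (β : G → ℂ) := by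
    have h1 := classFunction_eq_finsum (Cfsg.indFun N φ) (indFun_isClassFunction N φ)
    rw [finsum_eq_sum_of_fintype] at h1
    refine h1.trans ?_
    exact Finset.sum_congr rfl (fun β _ => by rw [ha])
  have hβχc : ∀ β : Cfsg.IrrCharacter G, Cfsg.IsCharacter G ((β : G → ℂ) * χ) :=
    fun β => isCharacter_mul (isCharacter_of_isIrrCharacter β.2) hχc
  have hexm : ∀ β β' : Cfsg.IrrCharacter G, ∃ k : ℕ,
      Cfsg.classInner ((β : G → ℂ) * χ) ((β' : G → ℂ) * χ) = (k : ℂ) :=
    fun β β' => classInner_isCharacter_nat (hβχc β) (hβχc β')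
  choose m hm using hexm
  have hm1 : ∀ β : Cfsg.IrrCharacter G, 1 ≤ m β β := by
    intro β
    have h1 : Cfsg.classInner ((β : G → ℂ) * χ) ((β : G → ℂ) * χ) ≠ 0 := by
      apply classInner_self_ne_zero
      obtain ⟨d, hd0, hd⟩ := isIrrCharacter_one_eq_nat β.2
      rw [Pi.mul_apply, hd]
      exact mul_ne_zero (by exact_mod_cast hd0.ne') hχ1
    rw [hm] at h1
    have h2 : m β β ≠ 0 := by exact_mod_cast h1
    omega
  have hi : ∑ β : Cfsg.IrrCharacter G, (a β) ^ 2 = N.index := by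
    have h1 := inner_ind_invariant N hφ hφinv
    have h2 : Cfsg.classInner (Cfsg.indFun N φ) (Cfsg.indFun N φ)
        = ∑ β : Cfsg.IrrCharacter G, ((a β : ℂ)) ^ 2 := by
      conv_lhs => arg 1; rw [hdec]
      rw [classInner_sum_left]
      refine Finset.sum_congr rfl (fun β _ => ?_)
      rw [classInner_smul_left, ← classInner_conj_symm, ha, Complex.conj_natCast]
      ring
    rw [h2] at h1
    exact_mod_cast h1
  have hdec2 : Cfsg.indFun N (φ * ϑ)
      = ∑ β : Cfsg.IrrCharacter G, (a β : ℂ) • ((β : G → ℂ) * χ) := by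
    rw [hK1]
    conv_lhs => rw [hdec]
    rw [Finset.sum_mul]
    exact Finset.sum_congr rfl (fun β _ => smul_mul_assoc _ _ _)
  have hinner2 : ∀ ψ : G → ℂ, Cfsg.classInner (Cfsg.indFun N (φ * ϑ)) ψ
      = ∑ β : Cfsg.IrrCharacter G, (a β : ℂ) * Cfsg.classInner ((β : G → ℂ) * χ) ψ := by
    intro ψ
    rw [hdec2, classInner_sum_left]
    exact Finset.sum_congr rfl (fun β _ => classInner_smul_left _ _ _)
  have hii : ∑ β : Cfsg.IrrCharacter G, ∑ β' : Cfsg.IrrCharacter G, a β * a β' * m β β'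
      = N.index := by
    have hinvprod : ∀ (g : G) (n : N),
        (φ * ϑ) ⟨g * n * g⁻¹, hN.conj_mem (n : G) n.2 g⟩ = (φ * ϑ) n := by
      intro g n
      simp only [Pi.mul_apply]
      rw [hφinv g n, hϑinv g n]
    have h1 := inner_ind_invariant N hprod hinvprod
    rw [hinner2] at h1
    have h2 : ∀ β : Cfsg.IrrCharacter G,
        (a β : ℂ) * Cfsg.classInner ((β : G → ℂ) * χ) (Cfsg.indFun N (φ * ϑ))
          = ∑ β' : Cfsg.IrrCharacter G, ((a β * a β' * m β β' : ℕ) : ℂ) := by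
      intro β
      rw [hdec2, classInner_sum_right, Finset.mul_sum]
      refine Finset.sum_congr rfl (fun β' _ => ?_)
      rw [classInner_smul_right, Complex.conj_natCast, hm]
      push_cast
      ring
    rw [Finset.sum_congr rfl (fun β _ => h2 β)] at h1
    exact_mod_cast h1
  have hrow : ∀ β : Cfsg.IrrCharacter G,
      ∑ β' : Cfsg.IrrCharacter G, a β * a β' * m β β' = a β ^ 2 := by
    have hle : ∀ β ∈ (Finset.univ : Finset (Cfsg.IrrCharacter G)),
        a β ^ 2 ≤ ∑ β' : Cfsg.IrrCharacter G, a β * a β' * m β β' := by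
      intro β _
      calc a β ^ 2 ≤ a β * a β * m β β := by
            rw [sq]
            exact Nat.le_mul_of_pos_right _ (hm1 β)
        _ ≤ _ := Finset.single_le_sum (f := fun β' => a β * a β' * m β β')
            (fun _ _ => Nat.zero_le _) (Finset.mem_univ β)
    have heq := (Finset.sum_eq_sum_iff_of_le hle).mp (by rw [hi, hii])
    intro β
    exact (heq β (Finset.mem_univ β)).symm
  have hdiag : ∀ β : Cfsg.IrrCharacter G, a β ≠ 0 → m β β = 1 := by
    intro β h0
    have h1 := hrow β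
    have h2 : a β * a β * m β β ≤ a β ^ 2 := by
      rw [← h1]
      exact Finset.single_le_sum (f := fun β' => a β * a β' * m β β')
        (fun _ _ => Nat.zero_le _) (Finset.mem_univ β)
    have h3 : m β β ≤ 1 := by
      by_contra hcon
      push_neg at hcon
      have h4 : a β * a β * 2 ≤ a β * a β * m β β := Nat.mul_le_mul_left _ hcon
      have h5 : 0 < a β * a β := Nat.mul_pos (Nat.pos_of_ne_zero h0) (Nat.pos_of_ne_zero h0)
      rw [sq] at h2
      omega
    exact le_antisymm h3 (hm1 β)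
  have hoff : ∀ β β' : Cfsg.IrrCharacter G, a β ≠ 0 → a β' ≠ 0 → β ≠ β' → m β β' = 0 := by
    intro β β' h0 h0' hne
    have h1 := hrow β
    rw [← Finset.add_sum_erase Finset.univ _ (Finset.mem_univ β)] at h1
    have h2 : a β * a β' * m β β' ≤ ∑ x ∈ Finset.univ.erase β, a β * a x * m β x :=
      Finset.single_le_sum (f := fun x => a β * a x * m β x) (fun _ _ => Nat.zero_le _)
        (Finset.mem_erase.mpr ⟨hne.symm, Finset.mem_univ _⟩)
    rw [hdiag β h0, mul_one, sq] at h1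
    have h3 : a β * a β' * m β β' = 0 := by omega
    rcases Nat.mul_eq_zero.mp h3 with h | h
    · rcases Nat.mul_eq_zero.mp h with h | h
      · exact absurd h h0
      · exact absurd h h0'
    · exact h
  refine ⟨a, ha, ?_, ?_, hinner2⟩
  · intro β h0
    apply isIrrCharacter_of_classInner_eq_one (hβχc β)
    rw [hm, hdiag β h0]
    simp
  · intro β β' h0 h0' hne
    rw [hm, hoff β β' h0 h0' hne]
    simp

end

end Cfsg.Agent.Helper2.CharN
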