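import Mathlib
import Cfsg.Prelude.Def_Characters
import Cfsg.Agent.Helper2.CharN2
import Cfsg.Agent.S0147
import Cfsg.Agent.S0146

namespace Cfsg.Agent.Helper2.CharN

open Cfsg.Agent.Lead
open scoped ComplexConjugate

universe u

/-- combinatorial core of the Gallagher / Clifford arguments -/
theorem orthonormal_of_sum_eq {I : Type*} [Fintype I] [DecidableEq I] (a : I → ℕ)
    (m : I → I → ℕ) (hm1 : ∀ i, 1 ≤ m i i)
    (hsum : ∑ i : I, ∑ j : I, a i * a j * m i j = ∑ i : I, (a i) ^ 2) :
    (∀ i, a i ≠ 0 → m i i = 1) ∧ (∀ i j, a i ≠ 0 → a j ≠ 0 → i ≠ j → m i j = 0) := by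
  have hrow : ∀ i : I, ∑ j : I, a i * a j * m i j = a i ^ 2 := by
    have hle : ∀ i ∈ (Finset.univ : Finset I), a i ^ 2 ≤ ∑ j : I, a i * a j * m i j := by
      intro i _
      calc a i ^ 2 ≤ a i * a i * m i i := by
            rw [sq]
            exact Nat.le_mul_of_pos_right _ (hm1 i)
        _ ≤ _ := Finset.single_le_sum (f := fun j => a i * a j * m i j)
            (fun _ _ => Nat.zero_le _) (Finset.mem_univ i)
    have heq := (Finset.sum_eq_sum_iff_of_le hle).mp hsum.symm
    intro i
    exact (heq i (Finset.mem_univ i)).symm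
  have hdiag : ∀ i : I, a i ≠ 0 → m i i = 1 := by
    intro i h0
    have h1 := hrow i
    have h2 : a i * a i * m i i ≤ a i ^ 2 := by
      rw [← h1]
      exact Finset.single_le_sum (f := fun j => a i * a j * m i j)
        (fun _ _ => Nat.zero_le _) (Finset.mem_univ i)
    have h3 : m i i ≤ 1 := by
      by_contra hcon
      push_neg at hcon
      have h4 : a i * a i * 2 ≤ a i * a i * m i i := Nat.mul_le_mul_left _ hcon
      have h5 : 0 < a i * a i := Nat.mul_pos (Nat.pos_of_ne_zero h0) (Nat.pos_of_ne_zero h0)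
      rw [sq] at h2
      omega
    exact le_antisymm h3 (hm1 i)
  refine ⟨hdiag, ?_⟩
  intro i j h0 h0' hne
  have h1 := hrow i
  rw [← Finset.add_sum_erase Finset.univ _ (Finset.mem_univ i)] at h1
  have h2 : a i * a j * m i j ≤ ∑ x ∈ Finset.univ.erase i, a i * a x * m i x :=
    Finset.single_le_sum (f := fun x => a i * a x * m i x) (fun _ _ => Nat.zero_le _)
      (Finset.mem_erase.mpr ⟨hne.symm, Finset.mem_univ _⟩)
  rw [hdiag i h0, mul_one, sq] at h1
  have h3 : a i * a j * m i j = 0 := by omega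
  rcases Nat.mul_eq_zero.mp h3 with h | h
  · rcases Nat.mul_eq_zero.mp h with h | h
    · exact absurd h h0
    · exact absurd h h0'
  · exact h

section
variable {G : Type u} [Group G] (H : Subgroup G)

theorem extendByZero_sum_smul {ι : Type*} (s : Finset ι) (c : ι → ℂ) (θ : ι → H → ℂ) (y : G) :
    Cfsg.extendByZero H (∑ i ∈ s, c i • θ i) y
      = ∑ i ∈ s, c i * Cfsg.extendByZero H (θ i) y := by
  by_cases hy : y ∈ H
  · simp only [extendByZero_mem H _ hy, Finset.sum_apply, Pi.smul_apply, smul_eq_mul]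
  · simp only [extendByZero_not_mem H _ hy, mul_zero, Finset.sum_const_zero]

theorem indFun_sum_smul [Fintype G] {ι : Type*} (s : Finset ι) (c : ι → ℂ) (θ : ι → H → ℂ) :
    Cfsg.indFun H (∑ i ∈ s, c i • θ i) = ∑ i ∈ s, c i • Cfsg.indFun H (θ i) := by
  funext g
  rw [indFun_apply, Finset.sum_apply]
  simp only [Pi.smul_apply, smul_eq_mul, indFun_apply, extendByZero_sum_smul]
  rw [Finset.sum_comm, Finset.mul_sum]
  refine Finset.sum_congr rfl (fun i _ => ?_)
  rw [← Finset.mul_sum]
  ring

end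

end Cfsg.Agent.Helper2.CharN
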