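import Mathlib
import Cfsg.Prelude.Def_Characters
import Cfsg.Agent.Lead.CharLin
import Cfsg.Agent.Lead.CharLin2

namespace Cfsg.Agent.Helper2.LinExt

open Cfsg.Agent.Lead

universe u

/-- the transfer of an invariant homomorphism on a normal subgroup restricts to its
`index`-th power -/
theorem transfer_apply_of_invariant {G : Type u} [Group G] [Finite G] (N : Subgroup G)
    [hN : N.Normal] (ϕ : N →* ℂˣ)
    (hinv : ∀ (g : G) (n : N), ϕ ⟨g * n * g⁻¹, hN.conj_mem (n : G) n.2 g⟩ = ϕ n) (n : N) :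
    MonoidHom.transfer ϕ (n : G) = ϕ n ^ N.index := by
  classical
  haveI : Fintype (Quotient (MulAction.orbitRel (Subgroup.zpowers (n : G)) (G ⧸ N))) :=
    Fintype.ofFinite _
  rw [MonoidHom.transfer_eq_prod_quotient_orbitRel_zpowers_quot]
  have h1 : ∀ q : Quotient (MulAction.orbitRel (Subgroup.zpowers (n : G)) (G ⧸ N)),
      ϕ ⟨q.out.out⁻¹ * (n : G) ^ Function.minimalPeriod ((n : G) • ·) q.out * q.out.out,
        QuotientGroup.out_conj_pow_minimalPeriod_mem N (n : G) q.out⟩
        = ϕ n ^ Function.minimalPeriod ((n : G) • ·) q.out := by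
    intro q
    have h2 := hinv q.out.out⁻¹ (n ^ Function.minimalPeriod ((n : G) • ·) q.out)
    rw [map_pow] at h2
    rw [← h2]
    congr 1
    apply Subtype.ext
    simp
  rw [Finset.prod_congr rfl (fun q _ => h1 q), Finset.prod_pow_eq_pow_sum]
  congr 1
  exact (Subgroup.index_eq_sum_minimalPeriod N (n : G)).symm

/-- the transfer from an intermediate subgroup `H ≥ N` of a homomorphism whose restriction to
the normal subgroup `N` is invariant -/
theorem transfer_apply_of_invariant' {G : Type u} [Group G] [Finite G] (N H : Subgroup G)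
    [hN : N.Normal] (hNH : N ≤ H) (ϕ : N →* ℂˣ) (ν : H →* ℂˣ)
    (hν : ∀ n : N, ν ⟨(n : G), hNH n.2⟩ = ϕ n)
    (hinv : ∀ (g : G) (n : N), ϕ ⟨g * n * g⁻¹, hN.conj_mem (n : G) n.2 g⟩ = ϕ n) (n : N) :
    MonoidHom.transfer ν (n : G) = ϕ n ^ H.index := by
  classical
  haveI : Fintype (Quotient (MulAction.orbitRel (Subgroup.zpowers (n : G)) (G ⧸ H))) :=
    Fintype.ofFinite _
  rw [MonoidHom.transfer_eq_prod_quotient_orbitRel_zpowers_quot]
  have h1 : ∀ q : Quotient (MulAction.orbitRel (Subgroup.zpowers (n : G)) (G ⧸ H)),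
      ν ⟨q.out.out⁻¹ * (n : G) ^ Function.minimalPeriod ((n : G) • ·) q.out * q.out.out,
        QuotientGroup.out_conj_pow_minimalPeriod_mem H (n : G) q.out⟩
        = ϕ n ^ Function.minimalPeriod ((n : G) • ·) q.out := by
    intro q
    have h2 := hinv q.out.out⁻¹ (n ^ Function.minimalPeriod ((n : G) • ·) q.out)
    rw [map_pow] at h2
    rw [← h2, ← hν]
    congr 1
    apply Subtype.ext
    simp
  rw [Finset.prod_congr rfl (fun q _ => h1 q), Finset.prod_pow_eq_pow_sum]
  congr 1
  exact (Subgroup.index_eq_sum_minimalPeriod H (n : G)).symm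

/-- a linear character as a homomorphism to the units -/
noncomputable def toUnitsHom {A : Type u} [Group A] (lam : A → ℂ)
    (hlam : Cfsg.IsCharacter A lam) (h1 : lam 1 = 1) : A →* ℂˣ :=
  { toFun := fun a => Units.mk0 (lam a) (by
      intro h0
      have h2 : lam a * lam a⁻¹ = 1 := by
        rw [← isCharacter_linear_mul hlam h1, mul_inv_cancel, h1]
      rw [h0, zero_mul] at h2
      exact zero_ne_one h2)
    map_one' := Units.ext h1
    map_mul' := fun a b => Units.ext (isCharacter_linear_mul hlam h1 a b) }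

theorem toUnitsHom_apply {A : Type u} [Group A] (lam : A → ℂ)
    (hlam : Cfsg.IsCharacter A lam) (h1 : lam 1 = 1) (a : A) :
    ((toUnitsHom lam hlam h1 a : ℂˣ) : ℂ) = lam a := rfl

/-- a homomorphism to the units is a linear character -/
theorem isCharacter_of_hom {A : Type u} [Group A] (f : A →* ℂˣ) :
    Cfsg.IsCharacter A (fun a => ((f a : ℂˣ) : ℂ)) ∧ ((f 1 : ℂˣ) : ℂ) = 1 := by
  refine ⟨isCharacter_of_mul _ (by simp) (fun a b => by simp), by simp⟩

end Cfsg.Agent.Helper2.LinExt
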