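import Mathlib
import Cfsg.Prelude.Def_Characters
import Cfsg.Agent.Lead.IndFun2

/-! The product of two permutation characters is a sum of permutation characters (Mackey). -/

namespace Cfsg.Agent.Helper2.Mackey

open Cfsg.Agent.Lead

universe u

variable {G : Type u} [Group G] [Fintype G]

open Classical in
theorem perm_apply (H : Subgroup G) (x : G) :
    Cfsg.indFun H (fun _ => (1:ℂ)) x
      = (Nat.card H : ℂ)⁻¹ * ((Finset.univ.filter (fun y : G => y⁻¹ * x * y ∈ H)).card : ℂ) := by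
  rw [indFun_apply]
  congr 1
  rw [← Finset.sum_boole]
  refine Finset.sum_congr rfl (fun y _ => ?_)
  by_cases h : y⁻¹ * x * y ∈ H
  · rw [extendByZero_mem _ _ h, if_pos h]
  · rw [extendByZero_not_mem _ _ h, if_neg h]

/-- the conjugate subgroup `g K g⁻¹` -/
def cj (g : G) (K : Subgroup G) : Subgroup G := K.map (MulAut.conj g).toMonoidHom

omit [Fintype G] in
theorem mem_cj (g : G) (K : Subgroup G) (x : G) : x ∈ cj g K ↔ g⁻¹ * x * g ∈ K := by
  unfold cj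
  rw [Subgroup.mem_map_equiv, MulAut.conj_symm_apply]

omit [Fintype G] in
theorem card_cj [Finite G] (g : G) (K : Subgroup G) : Nat.card (cj g K) = Nat.card K :=
  Subgroup.card_map_of_injective (MulAut.conj g).injective

open Classical in
theorem prod_count (H K : Subgroup G) (x : G) :
    ((Finset.univ.filter (fun y : G => y⁻¹ * x * y ∈ H)).card : ℂ)
        * ((Finset.univ.filter (fun z : G => z⁻¹ * x * z ∈ K)).card : ℂ)
      = ∑ g : G, ((Finset.univ.filter (fun y : G => y⁻¹ * x * y ∈ H ⊓ cj g K)).card : ℂ) := by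
  have e1 : ∀ (P : G → Prop), ((Finset.univ.filter (fun y : G => P y)).card : ℂ)
      = ∑ y : G, if P y then (1:ℂ) else 0 := by
    intro P
    rw [Finset.sum_boole]
  rw [e1, e1, Finset.sum_mul_sum]
  simp only [e1]
  conv_rhs => rw [Finset.sum_comm]
  refine Finset.sum_congr rfl (fun y _ => ?_)
  rw [← Equiv.sum_comp (Equiv.mulLeft y)
    (fun z => (if y⁻¹ * x * y ∈ H then (1:ℂ) else 0) * (if z⁻¹ * x * z ∈ K then (1:ℂ) else 0))]
  refine Finset.sum_congr rfl (fun g _ => ?_)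
  have h1 : (y * g)⁻¹ * x * (y * g) = g⁻¹ * (y⁻¹ * x * y) * g := by group
  simp only [Equiv.coe_mulLeft, Subgroup.mem_inf, mem_cj, h1]
  by_cases hH : y⁻¹ * x * y ∈ H <;> by_cases hK : g⁻¹ * (y⁻¹ * x * y) * g ∈ K <;> simp [hH, hK]

theorem prod_eq_sum (H K : Subgroup G) :
    Cfsg.indFun H (fun _ => (1:ℂ)) * Cfsg.indFun K (fun _ => (1:ℂ))
      = ∑ g : G, ((Nat.card H : ℂ)⁻¹ * (Nat.card K : ℂ)⁻¹ * (Nat.card ↥(H ⊓ cj g K) : ℂ)) •
          Cfsg.indFun (H ⊓ cj g K) (fun _ => (1:ℂ)) := by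
  classical
  funext x
  rw [Pi.mul_apply, Finset.sum_apply, perm_apply, perm_apply]
  simp only [Pi.smul_apply, smul_eq_mul, perm_apply]
  have h1 : ∀ g : G, (Nat.card H : ℂ)⁻¹ * (Nat.card K : ℂ)⁻¹ * (Nat.card ↥(H ⊓ cj g K) : ℂ)
      * ((Nat.card ↥(H ⊓ cj g K) : ℂ)⁻¹
        * ((Finset.univ.filter (fun y : G => y⁻¹ * x * y ∈ H ⊓ cj g K)).card : ℂ))
      = (Nat.card H : ℂ)⁻¹ * (Nat.card K : ℂ)⁻¹
        * ((Finset.univ.filter (fun y : G => y⁻¹ * x * y ∈ H ⊓ cj g K)).card : ℂ) := by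
    intro g
    have h2 : (Nat.card ↥(H ⊓ cj g K) : ℂ) ≠ 0 := natCard_ne_zero_complex _
    rw [mul_assoc ((Nat.card H : ℂ)⁻¹ * (Nat.card K : ℂ)⁻¹), ← mul_assoc (Nat.card ↥(H ⊓ cj g K) : ℂ),
      mul_inv_cancel₀ h2, one_mul]
  rw [Finset.sum_congr rfl (fun g _ => h1 g), ← Finset.mul_sum, ← prod_count]
  ring

/-- conjugate subgroups have the same permutation character -/
theorem indFun_cj (h : G) (U : Subgroup G) :
    Cfsg.indFun (cj h U) (fun _ => (1:ℂ)) = Cfsg.indFun U (fun _ => (1:ℂ)) := by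
  classical
  funext x
  rw [perm_apply, perm_apply, card_cj]
  congr 2
  apply Finset.card_bij (fun y _ => y * h)
  · intro y hy
    rw [Finset.mem_filter] at hy ⊢
    refine ⟨Finset.mem_univ _, ?_⟩
    have h1 := (mem_cj h U _).mp hy.2
    have h2 : (y * h)⁻¹ * x * (y * h) = h⁻¹ * (y⁻¹ * x * y) * h := by group
    rw [h2]
    exact h1
  · intro a _ b _ hab
    exact mul_right_cancel hab
  · intro y hy
    rw [Finset.mem_filter] at hy
    refine ⟨y * h⁻¹, ?_, by group⟩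
    rw [Finset.mem_filter]
    refine ⟨Finset.mem_univ _, ?_⟩
    rw [mem_cj]
    have h2 : h⁻¹ * ((y * h⁻¹)⁻¹ * x * (y * h⁻¹)) * h = y⁻¹ * x * y := by group
    rw [h2]
    exact hy.2

omit [Fintype G] in
theorem inf_cj (H K : Subgroup G) (g h k : G) (hh : h ∈ H) (hk : k ∈ K) :
    H ⊓ cj (h * g * k⁻¹) K = cj h (H ⊓ cj g K) := by
  ext x
  simp only [Subgroup.mem_inf, mem_cj]
  have h1 : (h * g * k⁻¹)⁻¹ * x * (h * g * k⁻¹) = k * (g⁻¹ * (h⁻¹ * x * h) * g) * k⁻¹ := by group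
  rw [h1]
  constructor
  · rintro ⟨hx, hxK⟩
    refine ⟨H.mul_mem (H.mul_mem (H.inv_mem hh) hx) hh, ?_⟩
    have h2 := K.mul_mem (K.mul_mem (K.inv_mem hk) hxK) hk
    have h3 : k⁻¹ * (k * (g⁻¹ * (h⁻¹ * x * h) * g) * k⁻¹) * k = g⁻¹ * (h⁻¹ * x * h) * g := by group
    rwa [h3] at h2
  · rintro ⟨hx, hxK⟩
    refine ⟨?_, K.mul_mem (K.mul_mem hk hxK) (K.inv_mem hk)⟩
    have h2 := H.mul_mem (H.mul_mem hh hx) (H.inv_mem hh)
    have h3 : h * (h⁻¹ * x * h) * h⁻¹ = x := by group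
    rwa [h3] at h2

end Cfsg.Agent.Helper2.Mackey
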