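import Mathlib
import Cfsg.Prelude.Def_Characters
import Cfsg.Prelude.Def_Blocks
import Cfsg.Agent.Lead.CharCenter
import Cfsg.Agent.Lead.CharEig
import Cfsg.Agent.Lead.CharCore4

namespace Cfsg.Agent.Helper2.CharKer

open Cfsg.Agent.Lead

universe u v

/-- kernel of the character = kernel of the representation -/
theorem character_eq_one_iff {G : Type u} [Group G] [Finite G] {V : Type v} [AddCommGroup V]
    [Module ℂ V] [FiniteDimensional ℂ V] (ρ : Representation ℂ G V) (g : G) :
    ρ.character g = ρ.character 1 ↔ ρ g = 1 := by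
  constructor
  · intro h
    rw [Representation.char_one, character_eq_sum_roots, ← charpoly_roots_card ρ g] at h
    have h1 := multiset_unit_sum_eq_card (fun μ hμ => charpoly_root_norm ρ g hμ) h
    have h2 := rep_eq_smul_id_of_roots ρ g 1 h1
    rw [h2, one_smul]; rfl
  · intro h
    show LinearMap.trace ℂ V (ρ g) = LinearMap.trace ℂ V (ρ 1)
    rw [h, map_one ρ]

theorem degree_mul_card_ker_dvd {G : Type u} [Group G] [Finite G] {V : Type v}
    [AddCommGroup V] [Module ℂ V] [FiniteDimensional ℂ V] (ρ : Representation ℂ G V)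
    (hi : ρ.IsIrreducible) :
    Module.finrank ℂ V * Nat.card (MonoidHom.ker ρ) ∣ Nat.card G := by
  let K : Subgroup G := MonoidHom.ker ρ
  have hKn : K.Normal := MonoidHom.normal_ker ρ
  let ρ' : Representation ℂ (G ⧸ K) V := QuotientGroup.lift K ρ (le_refl _)
  have hρ' : ∀ x : G, ρ' (QuotientGroup.mk x) = ρ x := fun x => rfl
  have hinj : Function.Injective ρ' := by
    intro a b hab
    obtain ⟨x, rfl⟩ := QuotientGroup.mk_surjective a
    obtain ⟨y, rfl⟩ := QuotientGroup.mk_surjective b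
    rw [hρ', hρ'] at hab
    rw [QuotientGroup.eq]
    show x⁻¹ * y ∈ MonoidHom.ker ρ
    rw [MonoidHom.mem_ker, map_mul, ← hab, ← map_mul, inv_mul_cancel, map_one]
  have hi' : ρ'.IsIrreducible := by
    rw [isIrreducible_iff] at hi ⊢
    refine ⟨hi.1, fun W hW => hi.2 W (fun g v hv => ?_)⟩
    have h0 := hW (QuotientGroup.mk g) v hv
    rwa [hρ'] at h0
  have h1 := degree_mul_card_center_dvd_of_faithful ρ' hi' hinj
  have h2 : Module.finrank ℂ V ∣ Nat.card (G ⧸ K) := (Dvd.intro _ rfl).trans h1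
  have h3 := Subgroup.card_mul_index K
  rw [← h3, mul_comm]
  exact Nat.mul_dvd_mul_left _ (by rwa [Subgroup.index_eq_card])

/-- data attached to an irreducible character: its kernel and degree -/
theorem exists_ker {G : Type u} [Group G] [Finite G] (χ : Cfsg.IrrCharacter G) :
    ∃ K : Subgroup G, K.Normal ∧ (∀ g, g ∈ K ↔ (χ : G → ℂ) g = (χ : G → ℂ) 1) ∧
      Nat.card {g : G // (χ : G → ℂ) g = (χ : G → ℂ) 1} = Nat.card K ∧
      0 < Cfsg.charDegree (χ : G → ℂ) ∧
      (χ : G → ℂ) 1 = (Cfsg.charDegree (χ : G → ℂ) : ℂ) ∧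
      Cfsg.charDegree (χ : G → ℂ) * Nat.card K ∣ Nat.card G := by
  obtain ⟨χ, n, ρ, hi, rfl⟩ := χ
  have hmem : ∀ g, g ∈ MonoidHom.ker ρ ↔ ρ.character g = ρ.character 1 := by
    intro g
    rw [character_eq_one_iff, MonoidHom.mem_ker]
  have hdeg : Cfsg.charDegree ρ.character = n := by
    simp [Cfsg.charDegree, Representation.char_one]
  have hnt : Nontrivial (Fin n → ℂ) := ((isIrreducible_iff ρ).mp hi).1
  have hpos : 0 < Module.finrank ℂ (Fin n → ℂ) := Module.finrank_pos
  rw [Module.finrank_fin_fun] at hpos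
  refine ⟨MonoidHom.ker ρ, MonoidHom.normal_ker ρ, hmem, ?_, ?_, ?_, ?_⟩
  · apply Nat.card_congr
    exact (Equiv.subtypeEquivRight (fun g => (hmem g))).symm
  · show 0 < Cfsg.charDegree ρ.character
    rw [hdeg]; exact hpos
  · show ρ.character 1 = (Cfsg.charDegree ρ.character : ℂ)
    rw [hdeg, Representation.char_one, Module.finrank_fin_fun]
  · show Cfsg.charDegree ρ.character * _ ∣ _
    rw [hdeg]
    have := degree_mul_card_ker_dvd ρ hi
    rwa [Module.finrank_fin_fun] at this

/-- the sum of the squares of the degrees is the group order -/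
theorem sum_degree_sq {G : Type u} [Group G] [Finite G] [Fintype (Cfsg.IrrCharacter G)] :
    ∑ χ : Cfsg.IrrCharacter G, Cfsg.charDegree (χ : G → ℂ) ^ 2 = Nat.card G := by
  classical
  have h1 := column_orth_of_isConj (IsConj.refl (1 : G))
  rw [finsum_eq_sum_of_fintype] at h1
  have h2 : (Subgroup.centralizer ({1} : Set G)) = ⊤ := by
    rw [eq_top_iff]
    intro g _
    rw [Subgroup.mem_centralizer_iff]
    intro h hh
    rw [Set.mem_singleton_iff.mp hh]; simp
  rw [h2, Subgroup.card_top] at h1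
  have h3 : ∀ χ : Cfsg.IrrCharacter G, (χ : G → ℂ) 1 * (starRingEnd ℂ) ((χ : G → ℂ) 1)
      = ((Cfsg.charDegree (χ : G → ℂ) ^ 2 : ℕ) : ℂ) := by
    intro χ
    obtain ⟨K, -, -, -, -, hd, -⟩ := exists_ker χ
    rw [hd, Complex.conj_natCast]
    push_cast; ring
  rw [Finset.sum_congr rfl (fun χ _ => h3 χ), ← Nat.cast_sum] at h1
  exact_mod_cast h1

end Cfsg.Agent.Helper2.CharKer
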