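import Mathlib
import Cfsg.Prelude.Def_Characters
import Cfsg.Agent.Lead.CharComm

namespace Cfsg.Agent.Helper2.ClsSep

universe u

/-- Elements on which all irreducible characters agree are conjugate. -/
theorem isConj_of_irr_eq {G : Type u} [Group G] [Finite G] {g h : G}
    (hh : ∀ χ : Cfsg.IrrCharacter G, (χ : G → ℂ) g = (χ : G → ℂ) h) : IsConj g h := by
  classical
  by_contra hc
  have h1 := Cfsg.Agent.Lead.column_orth_of_not_isConj hc
  have h2 := Cfsg.Agent.Lead.column_orth_of_isConj (IsConj.refl g)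
  have h3 : ∑ᶠ χ : Cfsg.IrrCharacter G, (χ : G → ℂ) g * (starRingEnd ℂ) ((χ : G → ℂ) h)
      = ∑ᶠ χ : Cfsg.IrrCharacter G, (χ : G → ℂ) g * (starRingEnd ℂ) ((χ : G → ℂ) g) := by
    apply finsum_congr
    intro χ
    rw [hh χ]
  rw [h3, h2] at h1
  have hpos : 0 < Nat.card (Subgroup.centralizer ({g} : Set G)) := Nat.card_pos
  have : (Nat.card (Subgroup.centralizer ({g} : Set G)) : ℂ) ≠ 0 := by
    exact_mod_cast hpos.ne'
  exact this h1

/-- degree of an irreducible character is nonzero -/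
theorem irr_one_ne_zero {G : Type u} [Group G] [Finite G] {χ : G → ℂ}
    (hχ : Cfsg.IsIrrCharacter G χ) : χ 1 ≠ 0 := by
  obtain ⟨n, hn, h1⟩ := Cfsg.Agent.Lead.isIrrCharacter_one_eq_nat hχ
  rw [h1]
  exact_mod_cast hn.ne'

/-- If `χ` is constant `= c` on the products `g x g⁻¹ y`, then `χ 1 * c = χ x * χ y`. -/
theorem irr_const_prod {G : Type u} [Group G] [Finite G] {χ : G → ℂ}
    (hχ : Cfsg.IsIrrCharacter G χ) (x y : G) (c : ℂ)
    (hc : ∀ g : G, χ (g * x * g⁻¹ * y) = c) : χ 1 * c = χ x * χ y := by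
  classical
  haveI : Fintype G := Fintype.ofFinite G
  have h1 := Cfsg.Agent.Lead.sum_char_conj_mul hχ x y
  have h0 := irr_one_ne_zero hχ
  have hG : (Nat.card G : ℂ) ≠ 0 := by exact_mod_cast Nat.card_pos.ne'
  rw [Finset.sum_congr rfl (fun g _ => hc g), Finset.sum_const, Finset.card_univ,
    nsmul_eq_mul, ← Nat.card_eq_fintype_card] at h1
  field_simp at h1
  linear_combination h1

end Cfsg.Agent.Helper2.ClsSep
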