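import Mathlib
import Cfsg.Prelude.Def_Characters
import Cfsg.Agent.Lead.CharCore3

namespace Cfsg.Agent.Helper2.CycExt

open Cfsg.Agent.Lead

universe u

/-- irreducible representations with the same character are equivalent -/
theorem nonempty_equiv_of_character_eq {G : Type u} [Group G] [Finite G] {V W : Type*}
    [AddCommGroup V] [Module ℂ V] [FiniteDimensional ℂ V] [AddCommGroup W] [Module ℂ W]
    [FiniteDimensional ℂ W] (ρ : Representation ℂ G V) (σ : Representation ℂ G W)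
    (hρ : ρ.IsIrreducible) (hσ : σ.IsIrreducible) (h : ρ.character = σ.character) :
    Nonempty (Representation.Equiv σ ρ) := by
  classical
  haveI : Fintype G := Fintype.ofFinite G
  have hG : (Nat.card G : ℂ) ≠ 0 := by exact_mod_cast Nat.card_pos.ne'
  haveI : Invertible (Nat.card G : ℂ) := invertibleOfNonzero hG
  haveI := hρ
  haveI := hσ
  by_contra hcon
  have h1 := Representation.char_orthonormal ρ σ
  rw [if_neg hcon] at h1
  have h2 := Representation.char_orthonormal ρ ρ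
  rw [if_pos ⟨Representation.Equiv.refl ρ⟩] at h2
  rw [← h] at h1
  rw [h1] at h2
  simp at h2

/-- an invariant irreducible representation of a normal subgroup with cyclic quotient extends -/
theorem exists_extension_of_cyclic {G : Type u} [Group G] [Finite G] (N : Subgroup G)
    [hN : N.Normal] (hcyc : IsCyclic (G ⧸ N)) {d : ℕ} (ρ : Representation ℂ N (Fin d → ℂ))
    (hi : ρ.IsIrreducible)
    (hinv : ∀ (g : G) (n : N),
      ρ.character ⟨g * n * g⁻¹, hN.conj_mem (n : G) n.2 g⟩ = ρ.character n) :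
    ∃ σ : Representation ℂ G (Fin d → ℂ), ∀ n : N, σ (n : G) = ρ n := by
  classical
  obtain ⟨γ, hγ⟩ := hcyc.exists_generator
  obtain ⟨g₀, rfl⟩ := QuotientGroup.mk_surjective γ
  let c : N ≃* N := MulAut.conjNormal g₀
  have hc_apply : ∀ (j : ℕ) (x : N), (((c ^ j) x : N) : G) = g₀ ^ j * x * (g₀ ^ j)⁻¹ := by
    intro j x
    have h1 : c ^ j = MulAut.conjNormal (g₀ ^ j) := (map_pow MulAut.conjNormal g₀ j).symm
    rw [h1, MulAut.conjNormal_apply]
  let ρ' : Representation ℂ N (Fin d → ℂ) := ρ.comp c.toMonoidHom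
  have hρ'_apply : ∀ x : N, ρ' x = ρ (c x) := fun x => rfl
  have hi' : ρ'.IsIrreducible := by
    rw [isIrreducible_iff] at hi ⊢
    refine ⟨hi.1, fun W hW => hi.2 W (fun n v hv => ?_)⟩
    have h1 := hW (c.symm n) v hv
    rw [hρ'_apply, MulEquiv.apply_symm_apply] at h1
    exact h1
  have hchar : ρ'.character = ρ.character := by
    funext n
    have h1 : c n = ⟨g₀ * n * g₀⁻¹, hN.conj_mem (n : G) n.2 g₀⟩ :=
      Subtype.ext (MulAut.conjNormal_apply g₀ n)
    show ρ.character (c n) = ρ.character n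
    rw [h1, hinv g₀ n]
  obtain ⟨φ⟩ := nonempty_equiv_of_character_eq ρ' ρ hi' hi hchar
  let M : Module.End ℂ (Fin d → ℂ) := φ.toIntertwiningMap.toLinearMap
  have hM : ∀ x : N, M * ρ x = ρ (c x) * M := fun x => φ.toIntertwiningMap.isIntertwining' x
  have hMinj : Function.Injective M := fun a b hab => φ.toLinearEquiv.injective hab
  have hpow : ∀ (A : Module.End ℂ (Fin d → ℂ)), (∀ x : N, A * ρ x = ρ (c x) * A) →
      ∀ (j : ℕ) (x : N), A ^ j * ρ x = ρ ((c ^ j) x) * A ^ j := by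
    intro A hA j
    induction j with
    | zero =>
      intro x
      simp
    | succ j ih =>
      intro x
      have h1 : (c ^ (j + 1)) x = (c ^ j) (c x) := by
        rw [pow_succ]
        rfl
      rw [pow_succ, mul_assoc, hA x, ← mul_assoc, ih (c x), mul_assoc, h1]
  set m := orderOf ((g₀ : G) : G ⧸ N) with hm_def
  have hm : 0 < m := orderOf_pos _
  have hgm : g₀ ^ m ∈ N := by
    rw [← QuotientGroup.eq_one_iff, QuotientGroup.mk_pow]
    exact pow_orderOf_eq_one _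
  let n₀ : N := ⟨g₀ ^ m, hgm⟩
  have hcm : ∀ x : N, (c ^ m) x = n₀ * x * n₀⁻¹ := by
    intro x
    apply Subtype.ext
    rw [hc_apply]
    rfl
  let S : Module.End ℂ (Fin d → ℂ) := ρ n₀⁻¹ * M ^ m
  have hn₀ : ρ n₀⁻¹ * ρ n₀ = 1 := by rw [← map_mul, inv_mul_cancel, map_one]
  have hn₀' : ρ n₀ * ρ n₀⁻¹ = 1 := by rw [← map_mul, mul_inv_cancel, map_one]
  have hS : ∀ x : N, S ∘ₗ ρ x = ρ x ∘ₗ S := by
    intro x
    show ρ n₀⁻¹ * M ^ m * ρ x = ρ x * (ρ n₀⁻¹ * M ^ m)
    rw [mul_assoc, hpow M hM m x, hcm x, map_mul, map_mul]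
    rw [← mul_assoc, ← mul_assoc, ← mul_assoc, hn₀, one_mul, mul_assoc]
  obtain ⟨cc, hcc⟩ := schur_scalar ρ hi S hS
  have hcc' : S = cc • (1 : Module.End ℂ (Fin d → ℂ)) := hcc
  have hMm : M ^ m = cc • ρ n₀ := by
    have h1 : ρ n₀ * S = M ^ m := by
      show ρ n₀ * (ρ n₀⁻¹ * M ^ m) = M ^ m
      rw [← mul_assoc, hn₀', one_mul]
    rw [← h1, hcc', mul_smul_comm, mul_one]
  have hcc0 : cc ≠ 0 := by
    rintro rfl
    rw [zero_smul] at hMm
    haveI : Nontrivial (Fin d → ℂ) := ((isIrreducible_iff ρ).mp hi).1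
    obtain ⟨v, hv⟩ := exists_ne (0 : Fin d → ℂ)
    have h1 : (M ^ m) v = 0 := by
      rw [hMm]
      rfl
    have h2 : Function.Injective (M ^ m) := by
      rw [Module.End.coe_pow]
      exact hMinj.iterate m
    exact hv (h2 (by rw [h1, map_zero]))
  obtain ⟨r, hr⟩ := IsAlgClosed.exists_pow_nat_eq cc hm
  have hr0 : r ≠ 0 := by
    rintro rfl
    rw [zero_pow hm.ne'] at hr
    exact hcc0 hr.symm
  let M' : Module.End ℂ (Fin d → ℂ) := r⁻¹ • M
  have hM' : ∀ x : N, M' * ρ x = ρ (c x) * M' := by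
    intro x
    show (r⁻¹ • M) * ρ x = ρ (c x) * (r⁻¹ • M)
    rw [smul_mul_assoc, mul_smul_comm, hM x]
  have hM'm : M' ^ m = ρ n₀ := by
    show (r⁻¹ • M) ^ m = ρ n₀
    rw [smul_pow, hMm, smul_smul, inv_pow, hr, inv_mul_cancel₀ hcc0, one_smul]
  have hF : ∀ (k : ℕ) (hk : g₀ ^ k ∈ N), M' ^ k = ρ ⟨g₀ ^ k, hk⟩ := by
    intro k hk
    have h1 : ((g₀ : G) : G ⧸ N) ^ k = 1 := by
      rw [← QuotientGroup.mk_pow]
      exact (QuotientGroup.eq_one_iff _).mpr hk
    obtain ⟨q, hq⟩ := orderOf_dvd_of_pow_eq_one h1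
    have hq' : k = m * q := hq
    subst hq'
    rw [pow_mul, hM'm, ← map_pow]
    congr 1
    apply Subtype.ext
    show (g₀ ^ m) ^ q = g₀ ^ (m * q)
    rw [pow_mul]
  have hb0 : ∀ (i k : ℕ) (n n' : N), g₀ ^ i * (n : G) = g₀ ^ (i + k) * (n' : G) →
      M' ^ i * ρ n = M' ^ (i + k) * ρ n' := by
    intro i k n n' h
    have h1 : (n : G) = g₀ ^ k * n' := by
      rw [pow_add, mul_assoc] at h
      exact mul_left_cancel h
    have hk : g₀ ^ k ∈ N := by
      have h2 : g₀ ^ k = n * (n' : G)⁻¹ := by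
        rw [h1]
        group
      rw [h2]
      exact N.mul_mem n.2 (N.inv_mem n'.2)
    have h2 : n = ⟨g₀ ^ k, hk⟩ * n' := Subtype.ext h1
    rw [pow_add, mul_assoc, hF k hk, ← map_mul, ← h2]
  let R : G → Module.End ℂ (Fin d → ℂ) → Prop :=
    fun g A => ∃ (i : ℕ) (n : N), g = g₀ ^ i * n ∧ A = M' ^ i * ρ n
  have hRa : ∀ g : G, ∃ A, R g A := by
    intro g
    have h1 : (g : G ⧸ N) ∈ Submonoid.powers ((g₀ : G) : G ⧸ N) := by
      rw [mem_powers_iff_mem_zpowers]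
      exact hγ _
    obtain ⟨i, hi'⟩ := h1
    have h2 : (g₀ ^ i)⁻¹ * g ∈ N := by
      rw [← QuotientGroup.eq, QuotientGroup.mk_pow]
      exact hi'
    refine ⟨M' ^ i * ρ ⟨(g₀ ^ i)⁻¹ * g, h2⟩, i, ⟨(g₀ ^ i)⁻¹ * g, h2⟩, ?_, rfl⟩
    show g = g₀ ^ i * ((g₀ ^ i)⁻¹ * g)
    group
  have hRb : ∀ (g : G) (A B : Module.End ℂ (Fin d → ℂ)), R g A → R g B → A = B := by
    rintro g A B ⟨i, n, hg, rfl⟩ ⟨j, n', hg', rfl⟩
    rcases le_total i j with hij | hij
    · obtain ⟨k, rfl⟩ := Nat.exists_eq_add_of_le hij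
      exact hb0 i k n n' (hg.symm.trans hg')
    · obtain ⟨k, rfl⟩ := Nat.exists_eq_add_of_le hij
      exact (hb0 j k n' n (hg'.symm.trans hg)).symm
  have hRc : R 1 1 := ⟨0, 1, by simp, by simp⟩
  have hRd : ∀ (g h : G) (A B : Module.End ℂ (Fin d → ℂ)), R g A → R h B →
      R (g * h) (A * B) := by
    rintro g h A B ⟨i, n, rfl, rfl⟩ ⟨j, n', rfl, rfl⟩
    let x : N := (c ^ j).symm n
    have hx : (c ^ j) x = n := MulEquiv.apply_symm_apply _ _
    have hxG : (n : G) = g₀ ^ j * x * (g₀ ^ j)⁻¹ := by rw [← hc_apply, hx]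
    refine ⟨i + j, x * n', ?_, ?_⟩
    · show g₀ ^ i * n * (g₀ ^ j * n') = g₀ ^ (i + j) * ((x : G) * n')
      rw [hxG, pow_add]
      group
    · have h1 := hpow M' hM' j x
      rw [hx] at h1
      rw [pow_add, map_mul]
      calc M' ^ i * ρ n * (M' ^ j * ρ n') = M' ^ i * (ρ n * M' ^ j) * ρ n' := by
            simp only [mul_assoc]
        _ = M' ^ i * (M' ^ j * ρ x) * ρ n' := by rw [h1]
        _ = M' ^ i * M' ^ j * (ρ x * ρ n') := by simp only [mul_assoc]
  choose σf hσf using hRa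
  refine ⟨{ toFun := σf
            map_one' := hRb 1 _ _ (hσf 1) hRc
            map_mul' := fun g h => hRb (g * h) _ _ (hσf (g * h)) (hRd g h _ _ (hσf g) (hσf h)) },
    fun n => ?_⟩
  exact hRb (n : G) _ _ (hσf n) ⟨0, n, by simp, by simp⟩

end Cfsg.Agent.Helper2.CycExt
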