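import Mathlib
import Cfsg.Prelude.Def_Characters
import Cfsg.Prelude.Def_CharExt
import Cfsg.Agent.Lead.CharCore5
import Cfsg.Agent.Helper2.CharN2
import Cfsg.Agent.Helper2.CycExt

namespace Cfsg.Agent.Helper2.DetChar

open Cfsg.Agent.Lead Cfsg.Agent.Helper2.CharN Cfsg.Agent.Helper2.CycExt

universe u v

/-- a representation whose character is an irreducible character is irreducible -/
theorem isIrreducible_of_character_irr {G : Type u} [Group G] [Finite G] {V : Type v}
    [AddCommGroup V] [Module ℂ V] [FiniteDimensional ℂ V] (ρ : Representation ℂ G V)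
    (h : Cfsg.IsIrrCharacter G ρ.character) : ρ.IsIrreducible := by
  classical
  haveI : Fintype G := Fintype.ofFinite G
  rw [isIrreducible_iff]
  have hd : ρ.character 1 ≠ 0 := by
    obtain ⟨d, hd0, hd⟩ := isIrrCharacter_one_eq_nat h
    rw [hd]
    exact_mod_cast hd0.ne'
  refine ⟨?_, fun W hW => ?_⟩
  · by_contra hnt
    rw [not_nontrivial_iff_subsingleton] at hnt
    exact hd (by rw [character_eq_zero_of_subsingleton ρ hnt]; rfl)
  · by_contra hcon
    push_neg at hcon
    obtain ⟨hWbot, hWtop⟩ := hcon
    let S : Subrepresentation ρ := ⟨W, fun g v hv => hW g v hv⟩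
    have : NeZero (Nat.card G : ℂ) := ⟨by exact_mod_cast Nat.card_pos.ne'⟩
    obtain ⟨S', hS'⟩ := exists_isCompl S
    have hc : IsCompl S.toSubmodule S'.toSubmodule := by
      refine IsCompl.of_eq ?_ ?_
      · exact congrArg Subrepresentation.toSubmodule hS'.inf_eq_bot
      · exact congrArg Subrepresentation.toSubmodule hS'.sup_eq_top
    have hadd := character_add_of_isCompl ρ S S' hc
    have hc1 := isCharacter_of_rep S.toRepresentation
    have hc2 := isCharacter_of_rep S'.toRepresentation
    have h1 : S.toRepresentation.character 1 ≠ 0 := by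
      rw [Representation.char_one]
      have hpos : 0 < Module.finrank ℂ S.toSubmodule := by
        rw [Module.finrank_pos_iff]
        exact (Submodule.nontrivial_iff_ne_bot).mpr hWbot
      exact_mod_cast hpos.ne'
    have h2 : S'.toRepresentation.character 1 ≠ 0 := by
      rw [Representation.char_one]
      have hne : S'.toSubmodule ≠ ⊥ := by
        intro hbot
        apply hWtop
        have h3 := hc.sup_eq_top
        rw [hbot, sup_bot_eq] at h3
        exact h3
      have hpos : 0 < Module.finrank ℂ S'.toSubmodule := by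
        rw [Module.finrank_pos_iff]
        exact (Submodule.nontrivial_iff_ne_bot).mpr hne
      exact_mod_cast hpos.ne'
    obtain ⟨k11, hk11⟩ := classInner_isCharacter_nat hc1 hc1
    obtain ⟨k12, hk12⟩ := classInner_isCharacter_nat hc1 hc2
    obtain ⟨k21, hk21⟩ := classInner_isCharacter_nat hc2 hc1
    obtain ⟨k22, hk22⟩ := classInner_isCharacter_nat hc2 hc2
    have hn1 : k11 ≠ 0 := by
      intro h0
      apply classInner_self_ne_zero h1
      rw [hk11, h0]
      simp
    have hn2 : k22 ≠ 0 := by
      intro h0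
      apply classInner_self_ne_zero h2
      rw [hk22, h0]
      simp
    have hone := classInner_self_of_isIrrCharacter h
    rw [hadd, classInner_add_left, classInner_add_right, classInner_add_right, hk11, hk12,
      hk21, hk22] at hone
    have hone' : k11 + k12 + (k21 + k22) = 1 := by exact_mod_cast hone
    omega

/-- representations with the same irreducible character have the same determinants -/
theorem det_eq_of_character_eq {G : Type u} [Group G] [Finite G] {n n₀ : ℕ}
    (ρ : Representation ℂ G (Fin n → ℂ)) (hi : ρ.IsIrreducible)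
    (ρ₀ : Representation ℂ G (Fin n₀ → ℂ)) (hc : ρ₀.character = ρ.character) (g : G) :
    LinearMap.det (ρ₀ g) = LinearMap.det (ρ g) := by
  have hi₀ : ρ₀.IsIrreducible :=
    isIrreducible_of_character_irr _ (by rw [hc]; exact ⟨n, ρ, hi, rfl⟩)
  obtain ⟨φ⟩ := nonempty_equiv_of_character_eq ρ₀ ρ hi₀ hi hc
  have hint := φ.toIntertwiningMap.isIntertwining' g
  have hconj : ρ₀ g
      = (φ.toLinearEquiv : (Fin n → ℂ) →ₗ[ℂ] (Fin n₀ → ℂ)) ∘ₗ ρ g ∘ₗ
          (φ.toLinearEquiv.symm : (Fin n₀ → ℂ) →ₗ[ℂ] (Fin n → ℂ)) := by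
    refine LinearMap.ext (fun v => ?_)
    have h1 := congrArg (fun f => f (φ.toLinearEquiv.symm v)) hint
    simp only [LinearMap.comp_apply] at h1
    have h2 : φ.toIntertwiningMap.toLinearMap (φ.toLinearEquiv.symm v) = v :=
      φ.toLinearEquiv.apply_symm_apply v
    rw [h2] at h1
    simp only [LinearMap.comp_apply, LinearEquiv.coe_coe]
    rw [← h1]
  rw [hconj, LinearMap.det_conj]

/-- the determinantal character of an irreducible character, computed from any irreducible
representation affording it -/
theorem detChar_eq_of_irr {G : Type u} [Group G] [Finite G] {n : ℕ}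
    (ρ : Representation ℂ G (Fin n → ℂ)) (hi : ρ.IsIrreducible) :
    Cfsg.detChar ρ.character = fun g => LinearMap.det (ρ g) := by
  have h : Cfsg.IsCharacter G ρ.character := ⟨n, ρ, rfl⟩
  unfold Cfsg.detChar
  rw [dif_pos h]
  funext g
  exact det_eq_of_character_eq ρ hi _ (Classical.choose_spec (Classical.choose_spec h)) g

/-- the twist of a representation by a linear character -/
noncomputable def twist {G : Type u} [Group G] {V : Type v} [AddCommGroup V] [Module ℂ V]
    (ρ : Representation ℂ G V) (β : G →* ℂˣ) : Representation ℂ G V :=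
  { toFun := fun g => ((β g : ℂˣ) : ℂ) • ρ g
    map_one' := by simp
    map_mul' := fun a b => by
      rw [map_mul, map_mul, Units.val_mul, smul_mul_smul_comm] }

theorem twist_apply {G : Type u} [Group G] {V : Type v} [AddCommGroup V] [Module ℂ V]
    (ρ : Representation ℂ G V) (β : G →* ℂˣ) (g : G) :
    twist ρ β g = ((β g : ℂˣ) : ℂ) • ρ g := rfl

theorem twist_character {G : Type u} [Group G] {V : Type v} [AddCommGroup V] [Module ℂ V]
    (ρ : Representation ℂ G V) (β : G →* ℂˣ) :
    (twist ρ β).character = (fun g => ((β g : ℂˣ) : ℂ)) * ρ.character := by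
  funext g
  show LinearMap.trace ℂ V (((β g : ℂˣ) : ℂ) • ρ g) = ((β g : ℂˣ) : ℂ) * LinearMap.trace ℂ V (ρ g)
  rw [map_smul, smul_eq_mul]

theorem twist_isIrreducible {G : Type u} [Group G] {V : Type v} [AddCommGroup V] [Module ℂ V]
    (ρ : Representation ℂ G V) (β : G →* ℂˣ) (hi : ρ.IsIrreducible) :
    (twist ρ β).IsIrreducible := by
  rw [isIrreducible_iff] at hi ⊢
  refine ⟨hi.1, fun W hW => hi.2 W (fun g v hv => ?_)⟩
  have h1 := hW g v hv
  rw [twist_apply, LinearMap.smul_apply] at h1
  have h2 := W.smul_mem (((β g : ℂˣ) : ℂ))⁻¹ h1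
  rwa [smul_smul, inv_mul_cancel₀ (Units.ne_zero _), one_smul] at h2

/-- the determinantal character of a twist -/
theorem detChar_twist {G : Type u} [Group G] [Finite G] {n : ℕ}
    (ρ : Representation ℂ G (Fin n → ℂ)) (hi : ρ.IsIrreducible) (β : G →* ℂˣ) :
    Cfsg.detChar ((fun g => ((β g : ℂˣ) : ℂ)) * ρ.character)
      = fun g => ((β g : ℂˣ) : ℂ) ^ n * LinearMap.det (ρ g) := by
  rw [← twist_character, detChar_eq_of_irr (twist ρ β) (twist_isIrreducible ρ β hi)]
  funext g
  rw [twist_apply, LinearMap.det_smul, Module.finrank_fin_fun]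

end Cfsg.Agent.Helper2.DetChar
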