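import Mathlib
import Cfsg.Prelude.Def_Characters
import Cfsg.Agent.Helper2.CharN2

namespace Cfsg.Agent.Helper2.CharN

open Cfsg.Agent.Lead
open scoped ComplexConjugate

universe u

section
variable {G : Type u} [Group G] [Fintype G] (N : Subgroup G) [hN : N.Normal] [Fintype N]

/-- the sum of an irreducible character over the cosets of a normal subgroup: either the
subgroup is in the kernel or all coset sums vanish -/
theorem sum_coset_irr {β : G → ℂ} (hβ : Cfsg.IsIrrCharacter G β) :
    (∑ n : N, β n ≠ 0 → ∀ (n : N) (g : G), β (n * g) = β g) ∧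
    (∑ n : N, β n = 0 → ∀ g : G, ∑ n : N, β (n * g) = 0) := by
  classical
  have hd : β 1 ≠ 0 := by
    obtain ⟨d, hd0, hd⟩ := isIrrCharacter_one_eq_nat hβ
    rw [hd]
    exact_mod_cast hd0.ne'
  obtain ⟨d, ρ, hi, rfl⟩ := hβ
  let P : Module.End ℂ (Fin d → ℂ) := ∑ n : N, ρ (n : G)
  have hPg : ∀ g : G, P ∘ₗ ρ g = ρ g ∘ₗ P := by
    intro g
    show P * ρ g = ρ g * P
    simp only [P, Finset.sum_mul, Finset.mul_sum]
    refine Fintype.sum_equiv (MulAut.conjNormal g⁻¹ : N ≃* N).toEquiv _ _ (fun n => ?_)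
    rw [← map_mul, ← map_mul]
    congr 1
    simp only [MulEquiv.toEquiv_eq_coe, EquivLike.coe_coe, MulAut.conjNormal_apply, inv_inv]
    group
  obtain ⟨c, hc⟩ := schur_scalar ρ hi P hPg
  have hc' : P = c • (1 : Module.End ℂ (Fin d → ℂ)) := hc
  have hmP : ∀ m : N, ρ (m : G) * P = P := by
    intro m
    simp only [P, Finset.mul_sum]
    refine Fintype.sum_equiv (Equiv.mulLeft m) _ _ (fun n => ?_)
    rw [← map_mul]
    rfl
  have hsum : ∀ g : G, ∑ n : N, ρ.character (n * g) = c * ρ.character g := by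
    intro g
    have h1 : ∀ n : N, ρ.character (n * g)
        = LinearMap.trace ℂ (Fin d → ℂ) (ρ (n : G) * ρ g) := by
      intro n
      show LinearMap.trace ℂ (Fin d → ℂ) (ρ ((n : G) * g)) = _
      rw [map_mul]
    rw [Finset.sum_congr rfl (fun n _ => h1 n), ← map_sum, ← Finset.sum_mul]
    show LinearMap.trace ℂ (Fin d → ℂ) (P * ρ g) = _
    rw [hc', smul_mul_assoc, one_mul, map_smul, smul_eq_mul]
    rfl
  have hc1 : ∑ n : N, ρ.character (n : G) = c * ρ.character 1 := by
    have h := hsum 1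
    simpa using h
  constructor
  · intro hne n g
    have hc0 : c ≠ 0 := by
      rintro rfl
      apply hne
      rw [hc1]
      simp
    have h1 := hmP n
    rw [hc', mul_smul_comm, mul_one] at h1
    have h2 : ρ (n : G) = 1 := smul_right_injective _ hc0 h1
    show LinearMap.trace ℂ (Fin d → ℂ) (ρ ((n : G) * g)) = LinearMap.trace ℂ (Fin d → ℂ) (ρ g)
    rw [map_mul, h2, one_mul]
  · intro h0 g
    have hc0 : c = 0 := by
      rw [hc1] at h0
      rcases mul_eq_zero.mp h0 with h | h
      · exact h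
      · exact absurd h hd
    rw [hsum, hc0, zero_mul]

/-- coset sums of a class function form a class function -/
theorem coset_sum_isClassFunction {F : G → ℂ} (hF : Cfsg.IsClassFunction G F) :
    Cfsg.IsClassFunction G (fun g => ∑ n : N, F (n * g)) := by
  intro g h
  show ∑ n : N, F (n * (h * g * h⁻¹)) = ∑ n : N, F (n * g)
  refine Fintype.sum_equiv (MulAut.conjNormal h⁻¹ : N ≃* N).toEquiv _ _ (fun n => ?_)
  have h1 : (n : G) * (h * g * h⁻¹) = h * ((h⁻¹ * n * h) * g) * h⁻¹ := by group
  rw [h1, hF]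
  simp [MulAut.conjNormal_apply]

omit hN in
/-- moving a coset sum across the inner product -/
theorem inner_coset_sum (F β : G → ℂ) :
    ∑ g : G, (∑ n : N, F (n * g)) * conj (β g)
      = ∑ g : G, F g * conj (∑ n : N, β (n * g)) := by
  calc ∑ g : G, (∑ n : N, F (n * g)) * conj (β g)
      = ∑ g : G, ∑ n : N, F (n * g) * conj (β g) := by
        refine Finset.sum_congr rfl (fun g _ => ?_)
        rw [Finset.sum_mul]
    _ = ∑ n : N, ∑ g : G, F (n * g) * conj (β g) := Finset.sum_comm
    _ = ∑ n : N, ∑ g : G, F g * conj (β ((n⁻¹ : N) * g)) := by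
        refine Finset.sum_congr rfl (fun n _ => ?_)
        refine Fintype.sum_equiv (Equiv.mulLeft (n : G)) _ _ (fun g => ?_)
        simp
    _ = ∑ g : G, ∑ n : N, F g * conj (β ((n⁻¹ : N) * g)) := Finset.sum_comm
    _ = ∑ g : G, F g * conj (∑ n : N, β (n * g)) := by
        refine Finset.sum_congr rfl (fun g _ => ?_)
        rw [map_sum, Finset.mul_sum]
        exact Fintype.sum_equiv (Equiv.inv N) _ _ (fun n => rfl)

end

end Cfsg.Agent.Helper2.CharN
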