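import Mathlib
import Cfsg.Prelude.Def_Characters
import Cfsg.Agent.Helper2.CharN3
import Cfsg.Agent.S0146

namespace Cfsg.Agent.Helper2.CharN

open Cfsg.Agent.Lead
open scoped ComplexConjugate

universe u

/-- Gallagher: an irreducible character lying over an extendible irreducible character `χ|_N`
is `β * χ` with `β` irreducible and trivial on the cosets of `N`. -/
theorem gallagher_ext {G : Type u} [Group G] [Fintype G] (N : Subgroup G) [hN : N.Normal]
    [Fintype N] (χ : G → ℂ) (hχc : Cfsg.IsCharacter G χ) (hχ1 : χ 1 ≠ 0)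
    (hχN : Cfsg.IsIrrCharacter N (fun n : N => χ n)) (ψ : G → ℂ)
    (hψ : Cfsg.IsIrrCharacter G ψ)
    (hne : Cfsg.classInner (fun n : N => ψ n) (fun n : N => χ n) ≠ 0) :
    ∃ β : G → ℂ, Cfsg.IsIrrCharacter G β ∧ (∀ (x : N) (g : G), β (x * g) = β g) ∧
      ψ = β * χ := by
  classical
  haveI : Finite (Cfsg.IrrCharacter G) := finite_irrCharacter G
  haveI : Fintype (Cfsg.IrrCharacter G) := Fintype.ofFinite _
  have hχcf := isCharacter_isClassFunction hχc
  have hψc := isCharacter_of_isIrrCharacter hψ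
  have hψcf := isCharacter_isClassFunction hψc
  have hNne : (Nat.card N : ℂ) ≠ 0 := natCard_ne_zero_complex N
  set φ : N → ℂ := fun _ => 1 with hφdef
  set ϑ : N → ℂ := fun n => χ n with hϑdef
  have hφ : Cfsg.IsIrrCharacter N φ := isIrrCharacter_one
  have hφϑ : φ * ϑ = ϑ := by
    funext n
    simp [φ]
  have hprod : Cfsg.IsIrrCharacter N (φ * ϑ) := by
    rw [hφϑ]
    exact hχN
  obtain ⟨a, ha, hirr, horth, hinner⟩ :=
    gallagher_core N φ ϑ hφ (fun g n => rfl)
      (fun g n => hχcf (n : G) g) hprod χ hχc hχ1 (fun n => rfl)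
  rw [hφϑ] at hinner
  have ha' : ∀ β : Cfsg.IrrCharacter G,
      (a β : ℂ) = (Nat.card N : ℂ)⁻¹ * (starRingEnd ℂ) (∑ n : N, (β : G → ℂ) n) := by
    intro β
    rw [← ha β, Cfsg.Agent.S0146.result N φ β (isCharacter_isClassFunction
      (isCharacter_of_isIrrCharacter β.2))]
    unfold Cfsg.classInner
    rw [map_sum]
    congr 1
    refine Finset.sum_congr rfl (fun n _ => ?_)
    simp [φ]
  have hker : ∀ β : Cfsg.IrrCharacter G, a β ≠ 0 →
      ∀ (n : N) (g : G), (β : G → ℂ) (n * g) = (β : G → ℂ) g := by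
    intro β h0
    apply (sum_coset_irr N β.2).1
    intro hs
    apply h0
    have h1 := ha' β
    rw [hs, map_zero, mul_zero] at h1
    exact_mod_cast h1
  have h1 : Cfsg.classInner (Cfsg.indFun N ϑ) ψ ≠ 0 := by
    rw [Cfsg.Agent.S0146.result N ϑ ψ hψcf, ← classInner_conj_symm]
    intro h
    apply hne
    exact (map_eq_zero (starRingEnd ℂ)).mp h
  rw [hinner] at h1
  obtain ⟨β, _, hβ⟩ := Finset.exists_ne_zero_of_sum_ne_zero h1
  have h0 : a β ≠ 0 := by
    intro h
    apply hβ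
    rw [h]
    simp
  have h2 : Cfsg.classInner ((β : G → ℂ) * χ) ψ ≠ 0 := by
    intro h
    apply hβ
    rw [h, mul_zero]
  have h3 := classInner_irr
    (⟨(β : G → ℂ) * χ, hirr β h0⟩ : Cfsg.IrrCharacter G) ⟨ψ, hψ⟩
  have h4 : (⟨(β : G → ℂ) * χ, hirr β h0⟩ : Cfsg.IrrCharacter G) = ⟨ψ, hψ⟩ := by
    by_contra hcon
    rw [if_neg hcon] at h3
    exact h2 h3
  exact ⟨β, β.2, hker β h0, (congrArg Subtype.val h4).symm⟩

end Cfsg.Agent.Helper2.CharN
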