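import Mathlib
import Cfsg.Prelude.Def_Characters
import Cfsg.Prelude.Def_CharExt
import Cfsg.Agent.Lead.CharConj
import Cfsg.Agent.Helper2.DetChar
import Cfsg.Agent.Helper2.CycExt
import Cfsg.Agent.S0862

namespace Cfsg.Agent.Helper2.DetExt

open Cfsg.Agent.Lead Cfsg.Agent.Helper2.DetChar Cfsg.Agent.Helper2.CycExt

universe u v

/-- the determinantal character commutes with transport along an isomorphism -/
theorem detChar_comp_mulEquiv {A : Type u} {B : Type v} [Group A] [Group B] [Finite A]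
    [Finite B] (e : B ≃* A) (ϑ : A → ℂ) (hϑ : Cfsg.IsIrrCharacter A ϑ) :
    Cfsg.detChar (fun b => ϑ (e b)) = fun b => Cfsg.detChar ϑ (e b) := by
  have hϑ' : Cfsg.IsIrrCharacter B (ϑ ∘ e) := isIrrCharacter_comp_mulEquiv e hϑ
  obtain ⟨n, ρ, hi, rfl⟩ := hϑ
  let ρ' : Representation ℂ B (Fin n → ℂ) := MonoidHom.comp ρ e.toMonoidHom
  have hc : ρ'.character = fun b => ρ.character (e b) := rfl
  have hi' : ρ'.IsIrreducible := isIrreducible_of_character_irr ρ' (by rw [hc]; exact hϑ')
  rw [← hc, detChar_eq_of_irr ρ' hi', detChar_eq_of_irr ρ hi]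
  rfl

/-- a proper normal subgroup with solvable quotient lies in a proper normal subgroup with cyclic
quotient -/
theorem exists_cyclic_quotient {G : Type u} [Group G] [Finite G] (N : Subgroup G) [hN : N.Normal]
    (hsolv : Group.IsSolvable (G ⧸ N)) (hne : N ≠ ⊤) :
    ∃ M : Subgroup G, M.Normal ∧ N ≤ M ∧ M ≠ ⊤ ∧ ∀ hM : M.Normal, IsCyclic (G ⧸ M) := by
  classical
  haveI : Nontrivial (G ⧸ N) := by
    rw [QuotientGroup.nontrivial_iff]
    exact hne
  have hlt := IsSolvable.commutator_lt_top_of_nontrivial (G ⧸ N)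
  obtain ⟨q, -, hq⟩ := SetLike.exists_of_lt hlt
  have ha : (Abelianization.of q : Abelianization (G ⧸ N)) ≠ 1 := by
    intro h
    apply hq
    exact (QuotientGroup.eq_one_iff q).mp h
  obtain ⟨φ₀, hφ₀⟩ := CommGroup.exists_apply_ne_one_of_hasEnoughRootsOfUnity
    (Abelianization (G ⧸ N)) ℂ ha
  obtain ⟨g, rfl⟩ := QuotientGroup.mk_surjective q
  let φ : G →* ℂˣ := φ₀.comp (Abelianization.of.comp (QuotientGroup.mk' N))
  refine ⟨φ.ker, inferInstance, ?_, ?_, ?_⟩
  · intro n hn
    rw [MonoidHom.mem_ker]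
    show φ₀ (Abelianization.of (QuotientGroup.mk' N n)) = 1
    have h1 : (QuotientGroup.mk' N) n = 1 := (QuotientGroup.eq_one_iff n).mpr hn
    rw [h1, map_one, map_one]
  · intro htop
    apply hφ₀
    have : g ∈ φ.ker := by rw [htop]; trivial
    exact this
  · intro hM
    have e := QuotientGroup.quotientKerEquivRange φ
    haveI : Finite φ.range := Finite.of_surjective φ.rangeRestrict φ.rangeRestrict_surjective
    have hcyc : IsCyclic φ.range := inferInstance
    exact isCyclic_of_surjective e.symm.toMonoidHom e.symm.surjective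

theorem exists_extension_of_det_aux (k : ℕ) : ∀ (G : Type u) [Group G] [Finite G]
    (N : Subgroup G) [hN : N.Normal], N.index = k → Group.IsSolvable (G ⧸ N) →
    ∀ (ϑ : N → ℂ), Cfsg.IsIrrCharacter N ϑ →
    (∀ (g : G) (n : N), ϑ ⟨g * n * g⁻¹, hN.conj_mem (n : G) n.2 g⟩ = ϑ n) →
    ∀ (d : ℕ), ϑ 1 = d → Nat.Coprime N.index d →
    ∀ (μ : G → ℂ), Cfsg.IsCharacter G μ → μ 1 = 1 → (∀ n : N, μ n = Cfsg.detChar ϑ n) →
    ∃ χ : G → ℂ, Cfsg.IsIrrCharacter G χ ∧ ∀ n : N, χ n = ϑ n := by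
  induction k using Nat.strong_induction_on with
  | _ k ih =>
  intro G _ _ N hN hk hsolv ϑ hϑ hinv d hd hcop μ hμ hμ1 hμN
  classical
  by_cases hNtop : N = ⊤
  · have hmem : ∀ g : G, g ∈ N := fun g => by rw [hNtop]; trivial
    let e : G ≃* N :=
      { toFun := fun g => ⟨g, hmem g⟩
        invFun := fun n => n
        left_inv := fun g => rfl
        right_inv := fun n => rfl
        map_mul' := fun a b => rfl }
    refine ⟨ϑ ∘ e, isIrrCharacter_comp_mulEquiv e hϑ, fun n => ?_⟩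
    show ϑ (e n) = ϑ n
    congr 1
  · obtain ⟨M, hMn, hNM, hMtop, hcyc⟩ := exists_cyclic_quotient N hsolv hNtop
    haveI := hMn
    have hcyc' := hcyc hMn
    let N' : Subgroup M := N.subgroupOf M
    haveI hN'n : N'.Normal := Subgroup.normal_subgroupOf
    let e : N' ≃* N := Subgroup.subgroupOfEquivOfLe hNM
    have he : ∀ x : N', ((e x : N) : G) = ((x : M) : G) := fun x => rfl
    let ϑ' : N' → ℂ := fun x => ϑ (e x)
    have hϑ' : Cfsg.IsIrrCharacter N' ϑ' := isIrrCharacter_comp_mulEquiv e hϑ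
    have hinv' : ∀ (m : M) (x : N'),
        ϑ' ⟨m * x * m⁻¹, hN'n.conj_mem (x : M) x.2 m⟩ = ϑ' x := by
      intro m x
      have h1 := hinv (m : G) (e x)
      show ϑ (e ⟨m * x * m⁻¹, _⟩) = ϑ (e x)
      rw [← h1]
      congr 1
    have hd' : ϑ' 1 = d := by
      show ϑ (e 1) = d
      rw [map_one, hd]
    have hidx : N.relIndex M * M.index = N.index := Subgroup.relIndex_mul_index hNM
    have hcop' : Nat.Coprime N'.index d :=
      Nat.Coprime.coprime_dvd_left (Dvd.intro _ hidx) hcop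
    let μ' : M → ℂ := fun m => μ m
    have hμ' : Cfsg.IsCharacter M μ' := isCharacter_res M hμ
    have hμ1' : μ' 1 = 1 := hμ1
    have hμN' : ∀ x : N', μ' x = Cfsg.detChar ϑ' x := by
      intro x
      have h1 := detChar_comp_mulEquiv e ϑ hϑ
      show μ ((x : M) : G) = Cfsg.detChar (fun y => ϑ (e y)) x
      rw [h1]
      exact hμN (e x)
    have hsolv' : Group.IsSolvable (M ⧸ N') := by
      let f : M ⧸ N' →* G ⧸ N := QuotientGroup.map N' N M.subtype le_rfl
      have hf : Function.Injective f := by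
        rw [injective_iff_map_eq_one]
        intro x hx
        obtain ⟨m, rfl⟩ := QuotientGroup.mk_surjective x
        have h1 : (((m : G) : G) : G ⧸ N) = 1 := hx
        rw [QuotientGroup.eq_one_iff] at h1 ⊢
        exact h1
      exact solvable_of_solvable_injective hf
    have hMi1 : M.index ≠ 1 := fun h => hMtop (Subgroup.index_eq_one.mp h)
    have hMi0 : M.index ≠ 0 := Subgroup.index_ne_zero_of_finite
    have hNi0 : N.index ≠ 0 := Subgroup.index_ne_zero_of_finite
    have hlt : N'.index < k := by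
      have h1 : N'.index * M.index = k := by rw [← hk]; exact hidx
      have h2 : 2 ≤ M.index := by omega
      have h3 : 0 < N'.index := by
        rcases Nat.eq_zero_or_pos N'.index with h0 | h0
        · rw [h0, zero_mul] at h1
          omega
        · exact h0
      nlinarith
    obtain ⟨ψ₀, hψ₀, hψ₀N⟩ :=
      ih N'.index hlt M N' rfl hsolv' ϑ' hϑ' hinv' d hd' hcop' μ' hμ' hμ1' hμN'
    obtain ⟨ψ, ⟨hψirr, hψN, hψdet⟩, hψuniq⟩ :=
      Cfsg.Agent.S0862.result N' ϑ' hϑ' d hd' hcop' ⟨ψ₀, hψ₀, hψ₀N⟩ μ' ⟨hμ', hμ1'⟩ hμN'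
    have hψinv : ∀ (g : G) (m : M), ψ ⟨g * m * g⁻¹, hMn.conj_mem (m : G) m.2 g⟩ = ψ m := by
      intro g m
      let c : M ≃* M := MulAut.conjNormal g
      have hc : ∀ y : M, ((c y : M) : G) = g * y * g⁻¹ := fun y => MulAut.conjNormal_apply g y
      have h1 : (fun y => ψ (c y)) = ψ := by
        apply hψuniq
        refine ⟨isIrrCharacter_comp_mulEquiv c hψirr, ?_, ?_⟩
        · intro x
          have hmem : c (x : M) ∈ N' := by
            show ((c (x : M) : M) : G) ∈ N
            rw [hc]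
            exact hN.conj_mem _ x.2 g
          have h2 := hψN ⟨c (x : M), hmem⟩
          show ψ (c (x : M)) = ϑ' x
          rw [h2]
          show ϑ (e ⟨c (x : M), hmem⟩) = ϑ (e x)
          rw [← hinv g (e x)]
          congr 1
        · rw [detChar_comp_mulEquiv c ψ hψirr, hψdet]
          funext y
          show μ ((c y : M) : G) = μ (y : G)
          rw [hc]
          exact isCharacter_isClassFunction hμ (y : G) g
      have h2 := congrFun h1 m
      rw [← h2]
      congr 1
    obtain ⟨d', σ, hσi, rfl⟩ := hψirr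
    obtain ⟨τ, hτ⟩ := exists_extension_of_cyclic M hcyc' σ hσi hψinv
    have hτi : τ.IsIrreducible := by
      rw [isIrreducible_iff] at hσi ⊢
      refine ⟨hσi.1, fun W hW => hσi.2 W (fun m v hv => ?_)⟩
      rw [← hτ m]
      exact hW (m : G) v hv
    refine ⟨τ.character, ⟨d', τ, hτi, rfl⟩, fun n => ?_⟩
    have h1 := hψN ⟨⟨(n : G), hNM n.2⟩, n.2⟩
    have h2 : τ.character (n : G) = σ.character ⟨(n : G), hNM n.2⟩ := by
      show LinearMap.trace ℂ _ (τ (n : G)) = LinearMap.trace ℂ _ (σ ⟨(n : G), hNM n.2⟩)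
      rw [← hτ ⟨(n : G), hNM n.2⟩]
    rw [h2]
    exact h1

/-- an invariant irreducible character of degree coprime to the index of a normal subgroup with
solvable quotient extends as soon as its determinantal character does -/
theorem exists_extension_of_det {G : Type u} [Group G] [Finite G] (N : Subgroup G)
    [hN : N.Normal] (hsolv : Group.IsSolvable (G ⧸ N)) (ϑ : N → ℂ)
    (hϑ : Cfsg.IsIrrCharacter N ϑ)
    (hinv : ∀ (g : G) (n : N), ϑ ⟨g * n * g⁻¹, hN.conj_mem (n : G) n.2 g⟩ = ϑ n)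
    (d : ℕ) (hd : ϑ 1 = d) (hcop : Nat.Coprime N.index d)
    (μ : G → ℂ) (hμ : Cfsg.IsCharacter G μ) (hμ1 : μ 1 = 1)
    (hμN : ∀ n : N, μ n = Cfsg.detChar ϑ n) :
    ∃ χ : G → ℂ, Cfsg.IsIrrCharacter G χ ∧ ∀ n : N, χ n = ϑ n :=
  exists_extension_of_det_aux N.index G N rfl hsolv ϑ hϑ hinv d hd hcop μ hμ hμ1 hμN

end Cfsg.Agent.Helper2.DetExt
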