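import Mathlib
import Cfsg.Prelude.Def_Characters
import Cfsg.Prelude.Def_CharExt
import Cfsg.Agent.Helper2.DetExt
import Cfsg.Agent.Helper2.LinExt

namespace Cfsg.Agent.Helper2.DetExt

open Cfsg.Agent.Lead Cfsg.Agent.Helper2.DetChar Cfsg.Agent.Helper2.CycExt

universe u

/-- the determinantal character of an irreducible character is a linear character -/
theorem detChar_linear {A : Type u} [Group A] [Finite A] (ψ : A → ℂ)
    (hψ : Cfsg.IsIrrCharacter A ψ) :
    Cfsg.IsCharacter A (Cfsg.detChar ψ) ∧ Cfsg.detChar ψ 1 = 1 := by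
  obtain ⟨n, ρ, hi, rfl⟩ := hψ
  rw [detChar_eq_of_irr ρ hi]
  let δ : A →* ℂˣ :=
    ((LinearMap.det : ((Fin n → ℂ) →ₗ[ℂ] (Fin n → ℂ)) →* ℂ).comp ρ).toHomUnits
  exact Cfsg.Agent.Helper2.LinExt.isCharacter_of_hom δ

/-- the determinantal character commutes with restriction to a subgroup on which the character
stays irreducible -/
theorem detChar_res {G : Type u} [Group G] [Finite G] (N : Subgroup G) (χ : G → ℂ)
    (hχ : Cfsg.IsIrrCharacter G χ) (ϑ : N → ℂ) (hϑ : Cfsg.IsIrrCharacter N ϑ)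
    (hχN : ∀ n : N, χ n = ϑ n) (x : N) : Cfsg.detChar χ x = Cfsg.detChar ϑ x := by
  obtain ⟨n, ρ, hi, rfl⟩ := hχ
  let ρN : Representation ℂ N (Fin n → ℂ) := MonoidHom.comp ρ N.subtype
  have hρNchar : ρN.character = ϑ := by
    funext x
    exact hχN x
  have hiN : ρN.IsIrreducible :=
    isIrreducible_of_character_irr ρN (by rw [hρNchar]; exact hϑ)
  rw [detChar_eq_of_irr ρ hi, ← hρNchar, detChar_eq_of_irr ρN hiN]
  rfl

/-- the determinantal character of an invariant irreducible character is invariant -/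
theorem detChar_invariant {G : Type u} [Group G] [Finite G] (N : Subgroup G) [hN : N.Normal]
    (ϑ : N → ℂ) (hϑ : Cfsg.IsIrrCharacter N ϑ)
    (hinv : ∀ (g : G) (n : N), ϑ ⟨g * n * g⁻¹, hN.conj_mem (n : G) n.2 g⟩ = ϑ n)
    (g : G) (n : N) :
    Cfsg.detChar ϑ ⟨g * n * g⁻¹, hN.conj_mem (n : G) n.2 g⟩ = Cfsg.detChar ϑ n := by
  let c : N ≃* N := MulAut.conjNormal g
  have hcx : ∀ n : N, c n = ⟨g * n * g⁻¹, hN.conj_mem (n : G) n.2 g⟩ :=
    fun n => Subtype.ext (MulAut.conjNormal_apply g n)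
  have h1 := detChar_comp_mulEquiv c ϑ hϑ
  have h2 : (fun b => ϑ (c b)) = ϑ := by
    funext b
    rw [hcx, hinv g b]
  rw [h2] at h1
  have h3 := congrFun h1 n
  rw [← hcx]
  exact h3.symm

end Cfsg.Agent.Helper2.DetExt
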