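import Mathlib
import Cfsg.Prelude.Def_Characters
import Cfsg.Prelude.Def_Blocks
import Cfsg.Prelude.Def_Transfer
import Cfsg.Prelude.Def_CharExt
import Cfsg.Agent.Lead.CharConj
import Cfsg.Agent.Helper2.CharKer

namespace Cfsg.Agent.Helper2.NPC

open Cfsg.Agent.Lead

universe u

theorem closure_coprime_normal {G : Type u} [Group G] (p : ℕ) :
    (Subgroup.closure {g : G | Nat.Coprime (orderOf g) p}).Normal := by
  constructor
  intro n hn g
  have h1 : g * n * g⁻¹ ∈ (Subgroup.closure {g : G | Nat.Coprime (orderOf g) p}).map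
      (MulAut.conj g).toMonoidHom := ⟨n, hn, rfl⟩
  rw [MonoidHom.map_closure] at h1
  refine (Subgroup.closure_mono ?_) h1
  rintro x ⟨s, hs, rfl⟩
  show Nat.Coprime (orderOf ((MulAut.conj g) s)) p
  rw [MulEquiv.orderOf_eq]
  exact hs

theorem pResidual_normal {G : Type u} [Group G] (p : ℕ) : (Cfsg.pResidual p G).Normal :=
  closure_coprime_normal p

theorem pResidual_quotient_isPGroup {G : Type u} [Group G] [Finite G] (p : ℕ) [hp : Fact p.Prime]
    [hn : (Cfsg.pResidual p G).Normal] : IsPGroup p (G ⧸ Cfsg.pResidual p G) := by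
  intro q
  obtain ⟨g, rfl⟩ := QuotientGroup.mk_surjective q
  refine ⟨(orderOf g).factorization p, ?_⟩
  rw [← QuotientGroup.mk_pow, QuotientGroup.eq_one_iff]
  apply Subgroup.subset_closure
  show Nat.Coprime (orderOf (g ^ p ^ (orderOf g).factorization p)) p
  rw [orderOf_pow_of_dvd (pow_ne_zero _ hp.out.ne_zero) (Nat.ordProj_dvd _ _)]
  exact (Nat.coprime_ordCompl hp.out (orderOf_pos g).ne').symm

theorem pResidual_index {G : Type u} [Group G] [Finite G] (p : ℕ) [hp : Fact p.Prime] :
    ∃ k : ℕ, (Cfsg.pResidual p G).index = p ^ k := by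
  haveI := pResidual_normal (G := G) p
  obtain ⟨k, hk⟩ := IsPGroup.iff_card.mp (pResidual_quotient_isPGroup (G := G) p)
  exact ⟨k, by rw [Subgroup.index_eq_card]; exact hk⟩

theorem closure_commutator_index {G : Type u} [Group G] [Finite G] (p : ℕ) [hp : Fact p.Prime] :
    ¬ p ∣ (commutator (Subgroup.closure {g : G | Nat.Coprime (orderOf g) p})).index := by
  intro hdvd
  set N := Subgroup.closure {g : G | Nat.Coprime (orderOf g) p} with hN
  have hsurj : Function.Surjective (Abelianization.of (G := N)) := fun q => by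
    obtain ⟨g, rfl⟩ := QuotientGroup.mk_surjective q
    exact ⟨g, rfl⟩
  haveI : Finite (Abelianization N) := Finite.of_surjective _ hsurj
  have hcardA : Nat.card (Abelianization N) = (commutator N).index := by
    rw [Subgroup.index_eq_card]; rfl
  rw [← hcardA] at hdvd
  obtain ⟨y, hy⟩ := exists_prime_orderOf_dvd_card' p hdvd
  let B : Subgroup (Abelianization N) :=
    { carrier := {a | Nat.Coprime (orderOf a) p}
      one_mem' := by simp
      mul_mem' := by
        intro a b ha hb
        have h1 := (Commute.all a b).orderOf_mul_dvd_lcm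
        exact Nat.Coprime.coprime_dvd_left (h1.trans (Nat.lcm_dvd_mul _ _)) (Nat.Coprime.mul_left ha hb)
      inv_mem' := by
        intro a ha
        simpa using ha }
  have htop : B.comap Abelianization.of = ⊤ := by
    have h1 : Subgroup.closure (((↑) : N → G) ⁻¹' {g : G | Nat.Coprime (orderOf g) p}) = ⊤ :=
      Subgroup.closure_closure_coe_preimage
    rw [eq_top_iff, ← h1, Subgroup.closure_le]
    intro x hx
    show Nat.Coprime (orderOf (Abelianization.of x)) p
    have h2 : orderOf (Abelianization.of x) ∣ orderOf x := orderOf_map_dvd _ x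
    have h3 : orderOf (x : G) = orderOf x := Subgroup.orderOf_coe x
    have hx' : Nat.Coprime (orderOf (x : G)) p := hx
    rw [h3] at hx'
    exact Nat.Coprime.coprime_dvd_left h2 hx'
  obtain ⟨x, rfl⟩ := hsurj y
  have hxB : x ∈ B.comap Abelianization.of := by rw [htop]; trivial
  have h4 : Nat.Coprime (orderOf (Abelianization.of x)) p := hxB
  rw [hy] at h4
  exact hp.out.one_lt.ne' ((Nat.coprime_self p).mp h4)

theorem pResidual_commutator_index {G : Type u} [Group G] [Finite G] (p : ℕ) [hp : Fact p.Prime] :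
    ¬ p ∣ (commutator (Cfsg.pResidual p G)).index :=
  closure_commutator_index p

/-- conjugation of irreducible characters of a normal subgroup -/
noncomputable def conjIrr {G : Type u} [Group G] [Finite G] (N : Subgroup G) [hN : N.Normal]
    (g : G) (θ : Cfsg.IrrCharacter N) : Cfsg.IrrCharacter N :=
  ⟨(θ : N → ℂ) ∘ (MulAut.conjNormal g⁻¹ : N ≃* N), isIrrCharacter_comp_mulEquiv _ θ.2⟩

theorem conjIrr_apply {G : Type u} [Group G] [Finite G] (N : Subgroup G) [hN : N.Normal]
    (g : G) (θ : Cfsg.IrrCharacter N) (n : N) :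
    (conjIrr N g θ : N → ℂ) n = (θ : N → ℂ) ⟨g⁻¹ * n * g, by
      have := hN.conj_mem (n : G) n.2 g⁻¹
      simpa using this⟩ := by
  show (θ : N → ℂ) ((MulAut.conjNormal g⁻¹ : N ≃* N) n) = _
  exact congrArg (θ : N → ℂ) (Subtype.ext (by simp [MulAut.conjNormal_apply]))

/-- the conjugation action on the irreducible characters of a normal subgroup -/
noncomputable def irrAction {G : Type u} [Group G] [Finite G] (N : Subgroup G) [hN : N.Normal] :
    MulAction G (Cfsg.IrrCharacter N) where
  smul := conjIrr N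
  one_smul := fun θ => by
    apply Subtype.ext
    funext n
    show (conjIrr N 1 θ : N → ℂ) n = (θ : N → ℂ) n
    rw [conjIrr_apply]
    exact congrArg (θ : N → ℂ) (Subtype.ext (by simp))
  mul_smul := fun g h θ => by
    apply Subtype.ext
    funext n
    show (conjIrr N (g * h) θ : N → ℂ) n = (conjIrr N g (conjIrr N h θ) : N → ℂ) n
    rw [conjIrr_apply, conjIrr_apply, conjIrr_apply]
    exact congrArg (θ : N → ℂ) (Subtype.ext (by simp [mul_assoc]))

theorem sum_modEq_sum_fixed {P : Type*} {Ω : Type*} [Group P] [Fintype Ω] [MulAction P Ω]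
    (p : ℕ) [Fact p.Prime] (hP : IsPGroup p P) [Fintype (MulAction.fixedPoints P Ω)]
    (w : Ω → ℕ) (hw : ∀ (g : P) (ω : Ω), w (g • ω) = w ω) :
    ∑ ω, w ω ≡ ∑ ω : MulAction.fixedPoints P Ω, w ω [MOD p] := by
  classical
  let B := {x : Ω × ℕ // x.2 < w x.1}
  letI act : MulAction P B :=
    { smul := fun g x => ⟨(g • x.1.1, x.1.2), by rw [hw]; exact x.2⟩
      one_smul := fun x => Subtype.ext (Prod.ext (one_smul P x.1.1) rfl)
      mul_smul := fun g h x => Subtype.ext (Prod.ext (mul_smul g h x.1.1) rfl) }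
  let e : B ≃ Σ ω : Ω, Fin (w ω) :=
    { toFun := fun x => ⟨x.1.1, ⟨x.1.2, x.2⟩⟩
      invFun := fun y => ⟨(y.1, y.2.1), y.2.2⟩
      left_inv := fun x => rfl
      right_inv := fun y => rfl }
  haveI : Finite B := Finite.of_equiv _ e.symm
  have h1 := hP.card_modEq_card_fixedPoints B
  have hcardB : Nat.card B = ∑ ω, w ω := by
    rw [Nat.card_congr e, Nat.card_eq_fintype_card, Fintype.card_sigma]
    simp
  let e2 : MulAction.fixedPoints P B ≃ Σ ω : MulAction.fixedPoints P Ω, Fin (w ω) :=
    { toFun := fun x => ⟨⟨x.1.1.1, fun g => congrArg (fun y : B => y.1.1) (x.2 g)⟩,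
        ⟨x.1.1.2, x.1.2⟩⟩
      invFun := fun y => ⟨⟨(y.1.1, y.2.1), y.2.2⟩,
        fun g => Subtype.ext (Prod.ext (y.1.2 g) rfl)⟩
      left_inv := fun x => rfl
      right_inv := fun y => rfl }
  have hcardF : Nat.card (MulAction.fixedPoints P B)
      = ∑ ω : MulAction.fixedPoints P Ω, w ω := by
    rw [Nat.card_congr e2, Nat.card_eq_fintype_card, Fintype.card_sigma]
    simp
  rw [hcardB, hcardF] at h1
  exact h1

end Cfsg.Agent.Helper2.NPC
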