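import Mathlib
import Cfsg.Prelude.Def_Characters
import Cfsg.Prelude.Def_Blocks
import Cfsg.Prelude.Def_Transfer
import Cfsg.Prelude.Def_CharExt
import Cfsg.Agent.Helper2.NPC
import Cfsg.Agent.Helper2.DetExt3
import Cfsg.Agent.Lead.CharLin2
import Cfsg.Agent.S0863
import Cfsg.Agent.S0864
import Cfsg.Agent.S0154

namespace Cfsg.Agent.Helper2.NPC

open Cfsg.Agent.Lead

universe u

/-- the order of a linear character divides the index of the commutator subgroup -/
theorem orderOf_linear_dvd {A : Type u} [Group A] [Finite A] (lam : A → ℂ)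
    (hlam : Cfsg.IsCharacter A lam) (h1 : lam 1 = 1) :
    orderOf lam ∣ (commutator A).index := by
  apply orderOf_dvd_of_pow_eq_one
  funext a
  rw [Pi.pow_apply, Pi.one_apply]
  have hmul := isCharacter_linear_mul hlam h1
  have hpow : ∀ k : ℕ, lam (a ^ k) = lam a ^ k := by
    intro k
    induction k with
    | zero => rw [pow_zero, pow_zero, h1]
    | succ k ih => rw [pow_succ, hmul, ih, pow_succ]
  rw [← hpow]
  have hmem : a ^ (commutator A).index ∈ commutator A := by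
    rw [← QuotientGroup.eq_one_iff, QuotientGroup.mk_pow, Subgroup.index_eq_card]
    exact pow_card_eq_one'
  have := linear_eq_of_commutator hlam h1 1 (a ^ (commutator A).index) (by simpa using hmem)
  rw [← this, h1]

theorem extends_of_invariant {G : Type u} [Group G] [Finite G] (p : ℕ) [hp : Fact p.Prime]
    (N : Subgroup G) [hN : N.Normal] (hpg : IsPGroup p (G ⧸ N))
    (hcomm : ¬ p ∣ (commutator N).index) (θ : Cfsg.IrrCharacter N)
    (hinv : ∀ (g : G) (n : N),
      (θ : N → ℂ) ⟨g * n * g⁻¹, hN.conj_mem (n : G) n.2 g⟩ = (θ : N → ℂ) n)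
    (hd : ¬ p ∣ Cfsg.charDegree (θ : N → ℂ)) :
    ∃ χ : G → ℂ, Cfsg.IsIrrCharacter G χ ∧ ∀ n : N, χ n = (θ : N → ℂ) n := by
  obtain ⟨k, hk⟩ := IsPGroup.iff_card.mp hpg
  have hidx : N.index = p ^ k := by rw [Subgroup.index_eq_card]; exact hk
  haveI := hpg.isNilpotent
  have hsolv : Group.IsSolvable (G ⧸ N) := inferInstance
  obtain ⟨K, -, -, -, -, hd1, -⟩ := Cfsg.Agent.Helper2.CharKer.exists_ker θ
  have hcop : Nat.Coprime N.index (Cfsg.charDegree (θ : N → ℂ)) := by
    rw [hidx]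
    exact Nat.Coprime.pow_left k ((Nat.Prime.coprime_iff_not_dvd hp.out).mpr hd)
  refine (Cfsg.Agent.S0863.result N hsolv (θ : N → ℂ) θ.2 hinv _ hd1 hcop).mpr ?_
  obtain ⟨hlc, hl1⟩ := Cfsg.Agent.Helper2.DetExt.detChar_linear (θ : N → ℂ) θ.2
  have hinvdet := Cfsg.Agent.Helper2.DetExt.detChar_invariant N (θ : N → ℂ) θ.2 hinv
  have hord := orderOf_linear_dvd _ hlc hl1
  exact Cfsg.Agent.S0864.result N (Cfsg.detChar (θ : N → ℂ)) ⟨hlc, hl1⟩ hinvdet (by
    intro q hq hqd
    have hqp : q ≠ p := by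
      rintro rfl
      exact hcomm (hqd.trans hord)
    refine ⟨N, le_refl N, Cfsg.detChar (θ : N → ℂ), ?_, ⟨0, ?_⟩, hlc, hl1, fun n => rfl⟩
    · rw [hidx]
      exact Nat.Coprime.pow_left k ((Nat.coprime_primes hp.out hq).mpr (Ne.symm hqp))
    · rw [pow_zero]; exact Subgroup.relIndex_self N)

theorem coprime_card_of_index {G : Type u} [Group G] [Finite G] (p : ℕ) [hp : Fact p.Prime]
    (hdeg : ∀ χ : Cfsg.IrrCharacter G, Cfsg.charDegree (χ : G → ℂ) ≠ 1 →
      p ∣ Cfsg.charDegree (χ : G → ℂ))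
    (N : Subgroup G) [hN : N.Normal] (hpg : IsPGroup p (G ⧸ N))
    (hcomm : ¬ p ∣ (commutator N).index) : ¬ p ∣ Nat.card N := by
  classical
  intro hpN
  haveI : Finite (Cfsg.IrrCharacter N) := finite_irrCharacter N
  haveI : Fintype (Cfsg.IrrCharacter N) := Fintype.ofFinite _
  obtain ⟨P⟩ : Nonempty (Sylow p G) := inferInstance
  letI : MulAction G (Cfsg.IrrCharacter N) := irrAction N
  have hsmul : ∀ (g : G) (θ : Cfsg.IrrCharacter N) (n : N),
      ((g • θ : Cfsg.IrrCharacter N) : N → ℂ) n = (conjIrr N g θ : N → ℂ) n :=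
    fun g θ n => rfl
  have hPp : IsPGroup p (P : Subgroup G) := P.isPGroup'
  haveI : Fintype (MulAction.fixedPoints (P : Subgroup G) (Cfsg.IrrCharacter N)) :=
    Fintype.ofFinite _
  have hdeg_inv : ∀ (g : G) (θ : Cfsg.IrrCharacter N),
      Cfsg.charDegree ((g • θ : Cfsg.IrrCharacter N) : N → ℂ)
        = Cfsg.charDegree (θ : N → ℂ) := by
    intro g θ
    have h1 : ((g • θ : Cfsg.IrrCharacter N) : N → ℂ) 1 = (θ : N → ℂ) 1 := by
      rw [hsmul, conjIrr_apply]
      exact congrArg (θ : N → ℂ) (Subtype.ext (by simp))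
    unfold Cfsg.charDegree
    rw [h1]
  obtain ⟨k, hk⟩ := IsPGroup.iff_card.mp hpg
  have hidx : N.index = p ^ k := by rw [Subgroup.index_eq_card]; exact hk
  have hPN : (P : Subgroup G) ⊔ N = ⊤ := by
    rw [← Subgroup.index_eq_one]
    have h1 : ((P : Subgroup G) ⊔ N).index ∣ (P : Subgroup G).index :=
      Subgroup.index_dvd_of_le le_sup_left
    have h2 : ((P : Subgroup G) ⊔ N).index ∣ N.index := Subgroup.index_dvd_of_le le_sup_right
    have h3 : Nat.Coprime (P : Subgroup G).index N.index := by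
      rw [hidx]
      exact Nat.Coprime.pow_right k
        (Nat.Coprime.symm ((Nat.Prime.coprime_iff_not_dvd hp.out).mpr P.not_dvd_index))
    exact Nat.eq_one_of_dvd_coprimes h3 h1 h2
  have hfixG : ∀ θ : Cfsg.IrrCharacter N,
      θ ∈ MulAction.fixedPoints (P : Subgroup G) (Cfsg.IrrCharacter N) → ∀ g : G, g • θ = θ := by
    intro θ hθ g
    have hle : (P : Subgroup G) ⊔ N ≤ MulAction.stabilizer G θ := by
      apply sup_le
      · intro x hx
        rw [MulAction.mem_stabilizer_iff]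
        exact hθ ⟨x, hx⟩
      · intro m hm
        rw [MulAction.mem_stabilizer_iff]
        apply Subtype.ext
        funext n
        rw [hsmul, conjIrr_apply]
        have hcf := isClassFunction_irr θ
        have := hcf n ⟨m⁻¹, N.inv_mem hm⟩
        rw [← this]
        exact congrArg (θ : N → ℂ) (Subtype.ext (by simp))
    have : g ∈ MulAction.stabilizer G θ := hle (by rw [hPN]; trivial)
    exact MulAction.mem_stabilizer_iff.mp this
  have hinvG : ∀ θ : Cfsg.IrrCharacter N,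
      θ ∈ MulAction.fixedPoints (P : Subgroup G) (Cfsg.IrrCharacter N) → ∀ (g : G) (n : N),
      (θ : N → ℂ) ⟨g * n * g⁻¹, hN.conj_mem (n : G) n.2 g⟩ = (θ : N → ℂ) n := by
    intro θ hθ g n
    have h1 : (((g⁻¹ : G) • θ : Cfsg.IrrCharacter N) : N → ℂ) n = (θ : N → ℂ) n := by
      rw [hfixG θ hθ g⁻¹]
    rw [hsmul, conjIrr_apply] at h1
    rw [← h1]
    exact congrArg (θ : N → ℂ) (Subtype.ext (by simp))
  have hterm : ∀ θ : MulAction.fixedPoints (P : Subgroup G) (Cfsg.IrrCharacter N),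
      ((Cfsg.charDegree ((θ : Cfsg.IrrCharacter N) : N → ℂ) ^ 2 : ℕ) : ZMod p)
        = ((if Cfsg.charDegree ((θ : Cfsg.IrrCharacter N) : N → ℂ) = 1 then 1 else 0 : ℕ) :
            ZMod p) := by
    intro θ
    by_cases h1 : Cfsg.charDegree ((θ : Cfsg.IrrCharacter N) : N → ℂ) = 1
    · rw [if_pos h1, h1]; simp
    · rw [if_neg h1]
      have hpd : p ∣ Cfsg.charDegree ((θ : Cfsg.IrrCharacter N) : N → ℂ) := by
        by_contra hnd
        obtain ⟨χ, hχ, hχN⟩ := extends_of_invariant p N hpg hcomm θ.1 (hinvG θ.1 θ.2) hnd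
        have hχ1 : χ 1 = ((θ : Cfsg.IrrCharacter N) : N → ℂ) 1 := by simpa using hχN 1
        have hdegeq : Cfsg.charDegree χ
            = Cfsg.charDegree ((θ : Cfsg.IrrCharacter N) : N → ℂ) := by
          unfold Cfsg.charDegree; rw [hχ1]
        have h2 := hdeg ⟨χ, hχ⟩ (by
          show Cfsg.charDegree χ ≠ 1
          rw [hdegeq]; exact h1)
        have h3 : p ∣ Cfsg.charDegree χ := h2
        rw [hdegeq] at h3
        exact hnd h3
      push_cast
      rw [(ZMod.natCast_eq_zero_iff _ p).mpr hpd]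
      simp
  have hC1 := sum_modEq_sum_fixed p hPp
    (fun θ : Cfsg.IrrCharacter N => Cfsg.charDegree (θ : N → ℂ) ^ 2)
    (fun g θ => by
      show Cfsg.charDegree ((((g : G) • θ : Cfsg.IrrCharacter N)) : N → ℂ) ^ 2 = _
      rw [hdeg_inv])
  have hC2 := sum_modEq_sum_fixed p hPp
    (fun θ : Cfsg.IrrCharacter N => if Cfsg.charDegree (θ : N → ℂ) = 1 then 1 else 0)
    (fun g θ => by
      show (if Cfsg.charDegree ((((g : G) • θ : Cfsg.IrrCharacter N)) : N → ℂ) = 1
        then 1 else 0) = _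
      rw [hdeg_inv])
  have e1 := (ZMod.natCast_eq_natCast_iff _ _ _).mpr hC1
  have e2 := (ZMod.natCast_eq_natCast_iff _ _ _).mpr hC2
  rw [Cfsg.Agent.Helper2.CharKer.sum_degree_sq] at e1
  have hlin : ∑ θ : Cfsg.IrrCharacter N, (if Cfsg.charDegree (θ : N → ℂ) = 1 then 1 else 0)
      = (commutator N).index := by
    rw [← Cfsg.Agent.S0154.result (G := N), Nat.card_eq_fintype_card, Fintype.card_subtype,
      Finset.card_filter]
    refine Finset.sum_congr rfl (fun θ _ => ?_)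
    obtain ⟨K, -, -, -, -, hd1, -⟩ := Cfsg.Agent.Helper2.CharKer.exists_ker θ
    have hiff : (θ : N → ℂ) 1 = 1 ↔ Cfsg.charDegree (θ : N → ℂ) = 1 := by
      rw [hd1]
      exact Nat.cast_eq_one
    simp only [hiff]
  rw [hlin] at e2
  have e3 : ((∑ θ : MulAction.fixedPoints (P : Subgroup G) (Cfsg.IrrCharacter N),
      Cfsg.charDegree ((θ : Cfsg.IrrCharacter N) : N → ℂ) ^ 2 : ℕ) : ZMod p)
      = ((∑ θ : MulAction.fixedPoints (P : Subgroup G) (Cfsg.IrrCharacter N),
        (if Cfsg.charDegree ((θ : Cfsg.IrrCharacter N) : N → ℂ) = 1 then 1 else 0) : ℕ) :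
          ZMod p) := by
    rw [Nat.cast_sum, Nat.cast_sum]
    exact Finset.sum_congr rfl (fun θ _ => hterm θ)
  have e4 : (Nat.card N : ZMod p) = ((commutator N).index : ZMod p) := by
    rw [e1, e3, ← e2]
  have e5 : (Nat.card N : ZMod p) = 0 := (ZMod.natCast_eq_zero_iff _ _).mpr hpN
  rw [e5] at e4
  exact hcomm ((ZMod.natCast_eq_zero_iff _ _).mp e4.symm)

theorem normal_p_complement {G : Type u} [Group G] [Finite G] (p : ℕ) (hp : p.Prime)
    (hdeg : ∀ χ : Cfsg.IrrCharacter G, Cfsg.charDegree (χ : G → ℂ) ≠ 1 →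
      p ∣ Cfsg.charDegree (χ : G → ℂ)) :
    ∃ N : Subgroup G, N.Normal ∧ (Nat.card N).Coprime p ∧ ∃ k : ℕ, N.index = p ^ k := by
  haveI : Fact p.Prime := ⟨hp⟩
  haveI hNn : (Cfsg.pResidual p G).Normal := pResidual_normal p
  obtain ⟨k, hk⟩ := pResidual_index (G := G) p
  refine ⟨Cfsg.pResidual p G, hNn, ?_, k, hk⟩
  rw [Nat.coprime_comm, Nat.Prime.coprime_iff_not_dvd hp]
  exact coprime_card_of_index p hdeg (Cfsg.pResidual p G) (pResidual_quotient_isPGroup p)
    (pResidual_commutator_index p)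

end Cfsg.Agent.Helper2.NPC
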