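import Mathlib
import Cfsg.Prelude.Def_Characters
import Cfsg.Agent.Helper2.CharN4
import Cfsg.Agent.S0193
import Cfsg.Agent.S0148

namespace Cfsg.Agent.Helper2.CharN

universe u

/-- the core of the Clifford correspondence: multiplicities `f ψ` of the irreducible characters
of the inertia group `T` in the function induced from `ϑ`; those with `f ψ ≠ 0` induce
irreducibly and orthogonally to `G`. -/
theorem clifford_corr_core {G : Type u} [Group G] [Fintype G] (H : Subgroup G) [hN : H.Normal]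
    (ϑ : H → ℂ) (hϑ : Cfsg.IsIrrCharacter H ϑ) (T : Subgroup G) [Fintype T]
    (hT : ∀ g : G, g ∈ T ↔ ∀ n : H, ϑ ⟨g * n * g⁻¹, hN.conj_mem (n : G) n.2 g⟩ = ϑ n)
    (hHT : H ≤ T) [Fintype (Cfsg.IrrCharacter T)] :
    ∃ f : Cfsg.IrrCharacter T → ℕ,
      (∀ ψ : Cfsg.IrrCharacter T, Cfsg.classInner (Cfsg.indFun (H.subgroupOf T)
        (fun x => ϑ ⟨((x : T) : G), Subgroup.mem_subgroupOf.mp x.2⟩)) (ψ : T → ℂ) = (f ψ : ℂ)) ∧
      (∀ ψ : Cfsg.IrrCharacter T, f ψ ≠ 0 →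
        Cfsg.IsIrrCharacter G (Cfsg.indFun T (ψ : T → ℂ))) ∧
      (∀ ψ ψ' : Cfsg.IrrCharacter T, f ψ ≠ 0 → f ψ' ≠ 0 → ψ ≠ ψ' →
        Cfsg.classInner (Cfsg.indFun T (ψ : T → ℂ)) (Cfsg.indFun T (ψ' : T → ℂ)) = 0) ∧
      (∀ χ' : G → ℂ, Cfsg.classInner (Cfsg.indFun H ϑ) χ'
        = ∑ ψ : Cfsg.IrrCharacter T,
            (f ψ : ℂ) * Cfsg.classInner (Cfsg.indFun T (ψ : T → ℂ)) χ') := by
  classical
  let H' : Subgroup T := H.subgroupOf T
  haveI hH'n : H'.Normal := Subgroup.normal_subgroupOf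
  haveI : Fintype H' := Fintype.ofFinite _
  let e : H' ≃* H := Subgroup.subgroupOfEquivOfLe hHT
  let ϑ' : H' → ℂ := fun x => ϑ ⟨((x : T) : G), Subgroup.mem_subgroupOf.mp x.2⟩
  have hϑ'e : ϑ' = ϑ ∘ e := rfl
  have hϑ' : Cfsg.IsIrrCharacter H' ϑ' := by
    rw [hϑ'e]
    exact Cfsg.Agent.Lead.isIrrCharacter_comp_mulEquiv e hϑ
  have hϑ'c := Cfsg.Agent.Lead.isCharacter_of_isIrrCharacter hϑ'
  have hϑ'inv : ∀ (t : T) (n : H'),
      ϑ' ⟨t * n * t⁻¹, hH'n.conj_mem (n : T) n.2 t⟩ = ϑ' n := by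
    intro t n
    exact (hT (t : G)).mp t.2 ⟨((n : T) : G), Subgroup.mem_subgroupOf.mp n.2⟩
  have hs := Cfsg.Agent.Helper2.CharN.inner_ind_invariant H' hϑ' hϑ'inv
  have hcardH : Nat.card H' = Nat.card H := Nat.card_congr e.toEquiv
  have hG : Cfsg.classInner (Cfsg.indFun H ϑ) (Cfsg.indFun H ϑ) = (H'.index : ℂ) := by
    have h := Cfsg.Agent.S0193.result H ϑ hϑ
    have hcard : Nat.card {g : G // ∀ h : H, ϑ ⟨g * h * g⁻¹, hN.conj_mem h h.2 g⟩ = ϑ h}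
        = Nat.card T :=
      Nat.card_congr (Equiv.subtypeEquivRight (fun g => (hT g).symm))
    rw [hcard] at h
    have h2 : (Nat.card T : ℂ) = (Nat.card H : ℂ) * (H'.index : ℂ) := by
      rw [← hcardH]
      exact_mod_cast (Subgroup.card_mul_index H').symm
    rw [h2] at h
    exact mul_left_cancel₀ (Cfsg.Agent.Lead.natCard_ne_zero_complex H) h
  have hindc : Cfsg.IsCharacter T (Cfsg.indFun H' ϑ') := Cfsg.Agent.S0148.result H' ϑ' hϑ'c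
  have hexf : ∀ ψ : Cfsg.IrrCharacter T, ∃ k : ℕ,
      Cfsg.classInner (Cfsg.indFun H' ϑ') (ψ : T → ℂ) = (k : ℂ) :=
    fun ψ => Cfsg.Agent.Lead.classInner_isCharacter_nat hindc
      (Cfsg.Agent.Lead.isCharacter_of_isIrrCharacter ψ.2)
  choose f hf using hexf
  have hdecT : Cfsg.indFun H' ϑ' = ∑ ψ : Cfsg.IrrCharacter T, (f ψ : ℂ) • (ψ : T → ℂ) := by
    have h1 := Cfsg.Agent.Lead.classFunction_eq_finsum (Cfsg.indFun H' ϑ')
      (Cfsg.Agent.Lead.indFun_isClassFunction H' ϑ')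
    rw [finsum_eq_sum_of_fintype] at h1
    refine h1.trans ?_
    exact Finset.sum_congr rfl (fun ψ _ => by rw [hf])
  have hfsum : ∑ ψ : Cfsg.IrrCharacter T, (f ψ) ^ 2 = H'.index := by
    have h2 : Cfsg.classInner (Cfsg.indFun H' ϑ') (Cfsg.indFun H' ϑ')
        = ∑ ψ : Cfsg.IrrCharacter T, ((f ψ : ℂ)) ^ 2 := by
      conv_lhs => arg 1; rw [hdecT]
      rw [Cfsg.Agent.Lead.classInner_sum_left]
      refine Finset.sum_congr rfl (fun ψ _ => ?_)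
      rw [Cfsg.Agent.Lead.classInner_smul_left, ← Cfsg.Agent.Lead.classInner_conj_symm, hf,
        Complex.conj_natCast]
      ring
    rw [h2] at hs
    exact_mod_cast hs
  have hdecG : Cfsg.indFun H ϑ
      = ∑ ψ : Cfsg.IrrCharacter T, (f ψ : ℂ) • Cfsg.indFun T (ψ : T → ℂ) := by
    have h1 := Cfsg.Agent.S0147.result H T hHT ϑ
    rw [← h1]
    show Cfsg.indFun T (Cfsg.indFun H' ϑ') = _
    rw [hdecT, Cfsg.Agent.Helper2.CharN.indFun_sum_smul]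
  have hψGc : ∀ ψ : Cfsg.IrrCharacter T, Cfsg.IsCharacter G (Cfsg.indFun T (ψ : T → ℂ)) :=
    fun ψ => Cfsg.Agent.S0148.result T ψ (Cfsg.Agent.Lead.isCharacter_of_isIrrCharacter ψ.2)
  have hexm : ∀ ψ ψ' : Cfsg.IrrCharacter T, ∃ k : ℕ,
      Cfsg.classInner (Cfsg.indFun T (ψ : T → ℂ)) (Cfsg.indFun T (ψ' : T → ℂ)) = (k : ℂ) :=
    fun ψ ψ' => Cfsg.Agent.Lead.classInner_isCharacter_nat (hψGc ψ) (hψGc ψ')
  choose m hm using hexm
  have hm1 : ∀ ψ : Cfsg.IrrCharacter T, 1 ≤ m ψ ψ := by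
    intro ψ
    have h1 : Cfsg.classInner (Cfsg.indFun T (ψ : T → ℂ)) (Cfsg.indFun T (ψ : T → ℂ)) ≠ 0 := by
      apply Cfsg.Agent.Helper2.CharN.classInner_self_ne_zero
      obtain ⟨d, hd0, hd⟩ := Cfsg.Agent.Lead.isIrrCharacter_one_eq_nat ψ.2
      rw [Cfsg.Agent.Lead.indFun_one, hd]
      have hidx : T.index ≠ 0 := Subgroup.index_ne_zero_of_finite
      exact mul_ne_zero (by exact_mod_cast hidx) (by exact_mod_cast hd0.ne')
    rw [hm] at h1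
    have h2 : m ψ ψ ≠ 0 := by exact_mod_cast h1
    omega
  have hinnerG : ∀ χ' : G → ℂ, Cfsg.classInner (Cfsg.indFun H ϑ) χ'
      = ∑ ψ : Cfsg.IrrCharacter T,
          (f ψ : ℂ) * Cfsg.classInner (Cfsg.indFun T (ψ : T → ℂ)) χ' := by
    intro χ'
    rw [hdecG, Cfsg.Agent.Lead.classInner_sum_left]
    exact Finset.sum_congr rfl (fun ψ _ => Cfsg.Agent.Lead.classInner_smul_left _ _ _)
  have hmsum : ∑ ψ : Cfsg.IrrCharacter T, ∑ ψ' : Cfsg.IrrCharacter T, f ψ * f ψ' * m ψ ψ'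
      = ∑ ψ : Cfsg.IrrCharacter T, (f ψ) ^ 2 := by
    rw [hfsum]
    have h1 := hG
    rw [hinnerG] at h1
    have h2 : ∀ ψ : Cfsg.IrrCharacter T,
        (f ψ : ℂ) * Cfsg.classInner (Cfsg.indFun T (ψ : T → ℂ)) (Cfsg.indFun H ϑ)
          = ∑ ψ' : Cfsg.IrrCharacter T, ((f ψ * f ψ' * m ψ ψ' : ℕ) : ℂ) := by
      intro ψ
      rw [hdecG, Cfsg.Agent.Lead.classInner_sum_right, Finset.mul_sum]
      refine Finset.sum_congr rfl (fun ψ' _ => ?_)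
      rw [Cfsg.Agent.Lead.classInner_smul_right, Complex.conj_natCast, hm]
      push_cast
      ring
    rw [Finset.sum_congr rfl (fun ψ _ => h2 ψ)] at h1
    exact_mod_cast h1
  obtain ⟨hdiag, hoff⟩ := Cfsg.Agent.Helper2.CharN.orthonormal_of_sum_eq f m hm1 hmsum
  refine ⟨f, hf, ?_, ?_, hinnerG⟩
  · intro ψ h0
    apply Cfsg.Agent.Lead.isIrrCharacter_of_classInner_eq_one (hψGc ψ)
    rw [hm, hdiag ψ h0]
    simp
  · intro ψ ψ' h0 h0' hne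
    rw [hm, hoff ψ ψ' h0 h0' hne]
    simp

end Cfsg.Agent.Helper2.CharN
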