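import Mathlib
import Cfsg.Prelude.Def_Characters
import Cfsg.Agent.Lead.CharCenter
import Cfsg.Agent.Lead.CharLin
import Cfsg.Agent.Lead.CharCore6
import Cfsg.Agent.Helper2.CharN
import Cfsg.Agent.S0854

namespace Cfsg.Agent.Helper2.Ito

open Cfsg.Agent.Lead

universe u v

/-- the degree divides the index of any subgroup acting by scalars -/
theorem degree_dvd_index_of_scalar {G : Type u} [Group G] [Finite G] {V : Type v}
    [AddCommGroup V] [Module ℂ V] [FiniteDimensional ℂ V] (ρ : Representation ℂ G V)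
    (hi : ρ.IsIrreducible) (A : Subgroup G)
    (hA : ∀ a ∈ A, ∃ c : ℂ, ρ a = c • (1 : Module.End ℂ V)) :
    Module.finrank ℂ V ∣ A.index := by
  let K : Subgroup G := MonoidHom.ker ρ
  have hKn : K.Normal := MonoidHom.normal_ker ρ
  let ρ' : Representation ℂ (G ⧸ K) V := QuotientGroup.lift K ρ (le_refl _)
  have hρ' : ∀ x : G, ρ' (QuotientGroup.mk x) = ρ x := fun x => rfl
  have hinj : Function.Injective ρ' := by
    intro a b hab
    obtain ⟨x, rfl⟩ := QuotientGroup.mk_surjective a
    obtain ⟨y, rfl⟩ := QuotientGroup.mk_surjective b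
    rw [hρ', hρ'] at hab
    rw [QuotientGroup.eq]
    show x⁻¹ * y ∈ MonoidHom.ker ρ
    rw [MonoidHom.mem_ker, map_mul, ← hab, ← map_mul, inv_mul_cancel, map_one]
  have hi' : ρ'.IsIrreducible := by
    rw [isIrreducible_iff] at hi ⊢
    refine ⟨hi.1, fun W hW => hi.2 W (fun g v hv => ?_)⟩
    have h0 := hW (QuotientGroup.mk g) v hv
    rwa [hρ'] at h0
  have h1 := degree_mul_card_center_dvd_of_faithful ρ' hi' hinj
  have h2 : Module.finrank ℂ V ∣ (Subgroup.center (G ⧸ K)).index := by
    rw [← Subgroup.index_mul_card (Subgroup.center (G ⧸ K))] at h1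
    exact Nat.dvd_of_mul_dvd_mul_right Nat.card_pos h1
  have h3 : ((Subgroup.center (G ⧸ K)).comap (QuotientGroup.mk' K)).index
      = (Subgroup.center (G ⧸ K)).index :=
    Subgroup.index_comap_of_surjective _ (QuotientGroup.mk'_surjective K)
  have h4 : A ≤ (Subgroup.center (G ⧸ K)).comap (QuotientGroup.mk' K) := by
    intro z hz
    rw [Subgroup.mem_comap, Subgroup.mem_center_iff]
    intro a
    obtain ⟨x, rfl⟩ := QuotientGroup.mk_surjective a
    obtain ⟨c, hc⟩ := hA z hz
    apply hinj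
    show ρ' (QuotientGroup.mk (x * z)) = ρ' (QuotientGroup.mk (z * x))
    rw [hρ', hρ', map_mul, map_mul, hc, mul_smul_comm, smul_mul_assoc, mul_one, one_mul]
  exact h2.trans (h3 ▸ Subgroup.index_dvd_of_le h4)

/-- an invariant linear constituent forces the normal subgroup to act by scalars -/
theorem scalar_of_invariant_linear {G : Type u} [Group G] [Finite G] (A : Subgroup G)
    [hA : A.Normal] [Fintype A] {d : ℕ} (ρ : Representation ℂ G (Fin d → ℂ))
    (hi : ρ.IsIrreducible) (lam : A → ℂ) (hlam : Cfsg.IsCharacter A lam) (hlam1 : lam 1 = 1)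
    (hinv : ∀ (g : G) (n : A), lam ⟨g * n * g⁻¹, hA.conj_mem (n : G) n.2 g⟩ = lam n)
    (hcon : ∑ a : A, (starRingEnd ℂ) (lam a) * ρ.character a ≠ 0) :
    ∀ b : A, ρ (b : G) = lam b • (1 : Module.End ℂ (Fin d → ℂ)) := by
  classical
  have hmul := isCharacter_linear_mul hlam hlam1
  have hinvl : ∀ a : A, lam a⁻¹ = (starRingEnd ℂ) (lam a) := fun a => isCharacter_inv hlam a
  have hnorm : ∀ a : A, lam a * (starRingEnd ℂ) (lam a) = 1 := by
    intro a
    rw [← hinvl, ← hmul, mul_inv_cancel, hlam1]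
  let P : Module.End ℂ (Fin d → ℂ) := ∑ a : A, (starRingEnd ℂ) (lam a) • ρ (a : G)
  have hPg : ∀ g : G, P ∘ₗ ρ g = ρ g ∘ₗ P := by
    intro g
    show P * ρ g = ρ g * P
    simp only [P, Finset.sum_mul, Finset.mul_sum, smul_mul_assoc, mul_smul_comm]
    refine Fintype.sum_equiv (MulAut.conjNormal g⁻¹ : A ≃* A).toEquiv _ _ (fun a => ?_)
    have h0 : ((MulAut.conjNormal g⁻¹ : A ≃* A) a) = ⟨g⁻¹ * a * g⁻¹⁻¹, hA.conj_mem (a : G) a.2 g⁻¹⟩ :=
      Subtype.ext (MulAut.conjNormal_apply g⁻¹ a)
    have h1 : lam ((MulAut.conjNormal g⁻¹ : A ≃* A) a) = lam a := by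
      rw [h0]
      exact hinv g⁻¹ a
    show (starRingEnd ℂ) (lam a) • (ρ (a : G) * ρ g)
      = (starRingEnd ℂ) (lam ((MulAut.conjNormal g⁻¹ : A ≃* A) a))
        • (ρ g * ρ (((MulAut.conjNormal g⁻¹ : A ≃* A) a : A) : G))
    rw [h1, ← map_mul, ← map_mul]
    congr 2
    rw [MulAut.conjNormal_apply]
    group
  obtain ⟨c, hc⟩ := schur_scalar ρ hi P hPg
  have hc' : P = c • (1 : Module.End ℂ (Fin d → ℂ)) := hc
  have hbP : ∀ b : A, ρ (b : G) * P = lam b • P := by
    intro b
    simp only [P, Finset.mul_sum, Finset.smul_sum, mul_smul_comm, smul_smul]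
    refine Fintype.sum_equiv (Equiv.mulLeft b) _ _ (fun a => ?_)
    show (starRingEnd ℂ) (lam a) • (ρ (b : G) * ρ (a : G))
      = (lam b * (starRingEnd ℂ) (lam (b * a))) • ρ ((b * a : A) : G)
    rw [hmul, map_mul, ← mul_assoc, hnorm b, one_mul, ← map_mul]
    rfl
  have htr : LinearMap.trace ℂ (Fin d → ℂ) P
      = ∑ a : A, (starRingEnd ℂ) (lam a) * ρ.character a := by
    simp only [P, map_sum, map_smul, smul_eq_mul]
    rfl
  have hc0 : c ≠ 0 := by
    rintro rfl
    apply hcon
    rw [← htr, hc', zero_smul, map_zero]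
  intro b
  have h1 := hbP b
  rw [hc', mul_smul_comm, mul_one, smul_smul, mul_comm, ← smul_smul] at h1
  exact smul_right_injective _ hc0 h1

/-- Ito's theorem at the level of characters -/
theorem ito_char : ∀ (n : ℕ) (G : Type u) [Group G] [Finite G], Nat.card G ≤ n →
    ∀ (χ : G → ℂ), Cfsg.IsIrrCharacter G χ → ∀ (A : Subgroup G) [A.Normal],
    (∀ a ∈ A, ∀ b ∈ A, a * b = b * a) → ∃ k : ℕ, χ 1 = (k : ℂ) ∧ k ∣ A.index := by
  intro n
  induction n with
  | zero =>
    intro G _ _ hcard
    have := Nat.card_pos (α := G)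
    omega
  | succ n ih =>
    intro G _ _ hcard χ hχ A hAn hAab
    classical
    haveI : Fintype G := Fintype.ofFinite G
    haveI : Fintype A := Fintype.ofFinite A
    have hχc := isCharacter_of_isIrrCharacter hχ
    haveI : Finite (Cfsg.IrrCharacter A) := finite_irrCharacter A
    haveI : Fintype (Cfsg.IrrCharacter A) := Fintype.ofFinite _
    have hex : ∃ lam : Cfsg.IrrCharacter A,
        Cfsg.classInner (fun a : A => χ a) (lam : A → ℂ) ≠ 0 := by
      by_contra hcon
      push_neg at hcon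
      have h1 := classFunction_eq_finsum (fun a : A => χ a)
        (isCharacter_isClassFunction (isCharacter_res A hχc))
      rw [finsum_eq_sum_of_fintype] at h1
      have h2 := congrFun h1 1
      simp only [hcon, zero_smul, Finset.sum_const_zero, Pi.zero_apply] at h2
      obtain ⟨d, hd0, hd⟩ := isIrrCharacter_one_eq_nat hχ
      have h3 : χ 1 = 0 := h2
      rw [hd] at h3
      exact hd0.ne' (by exact_mod_cast h3)
    obtain ⟨⟨lam, hlam⟩, hcon⟩ := hex
    have hlamc := isCharacter_of_isIrrCharacter hlam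
    have hlam1 : lam 1 = 1 :=
      irrCharacter_one_of_comm (fun a b => Subtype.ext (hAab a a.2 b b.2)) ⟨lam, hlam⟩
    have hlamcf := isCharacter_isClassFunction hlamc
    let T : Subgroup G :=
      { carrier := {g | ∀ n : A, lam ⟨g * n * g⁻¹, hAn.conj_mem (n : G) n.2 g⟩ = lam n}
        one_mem' := by
          intro n
          have h3 : (⟨1 * (n : G) * 1⁻¹, hAn.conj_mem (n : G) n.2 1⟩ : A) = n :=
            Subtype.ext (by simp)
          rw [h3]
        mul_mem' := by
          intro a b ha hb n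
          have h1 := ha ⟨b * n * b⁻¹, hAn.conj_mem (n : G) n.2 b⟩
          have h2 := hb n
          have h3 : (⟨a * b * (n : G) * (a * b)⁻¹, hAn.conj_mem (n : G) n.2 (a * b)⟩ : A)
              = ⟨a * (b * n * b⁻¹) * a⁻¹,
                  hAn.conj_mem _ (hAn.conj_mem (n : G) n.2 b) a⟩ := Subtype.ext (by group)
          exact (congrArg lam h3).trans (h1.trans h2)
        inv_mem' := by
          intro a ha n
          have h1 := ha ⟨a⁻¹ * n * a⁻¹⁻¹, hAn.conj_mem (n : G) n.2 a⁻¹⟩
          have h3 : (⟨a * (a⁻¹ * (n : G) * a⁻¹⁻¹) * a⁻¹,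
              hAn.conj_mem _ (hAn.conj_mem (n : G) n.2 a⁻¹) a⟩ : A) = n := Subtype.ext (by group)
          exact ((congrArg lam h3).symm.trans h1).symm }
    have hT : ∀ g : G, g ∈ T ↔
        ∀ n : A, lam ⟨g * n * g⁻¹, hAn.conj_mem (n : G) n.2 g⟩ = lam n := fun g => Iff.rfl
    have hAT : A ≤ T := by
      intro a ha n
      exact hlamcf n ⟨a, ha⟩
    by_cases hTtop : T = ⊤
    · have hinv : ∀ (g : G) (n : A),
          lam ⟨g * n * g⁻¹, hAn.conj_mem (n : G) n.2 g⟩ = lam n :=
        fun g => (hT g).mp (by rw [hTtop]; exact Subgroup.mem_top g)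
      obtain ⟨d, ρ, hi, rfl⟩ := hχ
      have hcon' : ∑ a : A, (starRingEnd ℂ) (lam a) * ρ.character a ≠ 0 := by
        intro h0
        apply hcon
        unfold Cfsg.classInner
        rw [show ∑ g : A, (fun a : A => ρ.character a) g * (starRingEnd ℂ) (lam g)
          = ∑ a : A, (starRingEnd ℂ) (lam a) * ρ.character a from
            Finset.sum_congr rfl (fun a _ => mul_comm _ _), h0, mul_zero]
      have hsc := scalar_of_invariant_linear A ρ hi lam hlamc hlam1 hinv hcon'
      have hdvd := degree_dvd_index_of_scalar ρ hi A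
        (fun a ha => ⟨lam ⟨a, ha⟩, hsc ⟨a, ha⟩⟩)
      refine ⟨d, ?_, ?_⟩
      · rw [Representation.char_one, Module.finrank_fin_fun]
      · rwa [Module.finrank_fin_fun] at hdvd
    · haveI : Fintype T := Fintype.ofFinite T
      obtain ⟨ψ, hψ, hind, _⟩ := Cfsg.Agent.S0854.result A lam hlam T hT hAT χ hχ hcon
      have hcardT : Nat.card T ≤ n := by
        have h2 := Subgroup.card_mul_index T
        have h3 : T.index ≠ 1 := fun h => hTtop (Subgroup.index_eq_one.mp h)
        have h4 : T.index ≠ 0 := Subgroup.index_ne_zero_of_finite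
        have h5 : 0 < Nat.card T := Nat.card_pos
        have h6 : Nat.card T * 2 ≤ Nat.card T * T.index := Nat.mul_le_mul_left _ (by omega)
        omega
      haveI : (A.subgroupOf T).Normal := Subgroup.normal_subgroupOf
      obtain ⟨k, hk, hkdvd⟩ := ih T hcardT ψ hψ (A.subgroupOf T)
        (fun a ha b hb => Subtype.ext (hAab a (Subgroup.mem_subgroupOf.mp ha) b
          (Subgroup.mem_subgroupOf.mp hb)))
      refine ⟨T.index * k, ?_, ?_⟩
      · rw [← hind, indFun_one, hk]
        push_cast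
        ring
      · have h1 : A.relIndex T * T.index = A.index := Subgroup.relIndex_mul_index hAT
        rw [← h1, mul_comm]
        exact Nat.mul_dvd_mul_right hkdvd _

end Cfsg.Agent.Helper2.Ito
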