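import Mathlib

namespace Cfsg.Agent.Helper2.Cocycle

universe u

/-- field identity behind the transfer of cocycles -/
theorem key_identity {F : Type*} [Field F] (a₁ a₂ a₃ a₄ a₅ a₆ a₇ a₈ a₉ a₁₀ m₁ m₂ m₃ : F)
    (h2' : a₂ ≠ 0) (h4' : a₄ ≠ 0) (h7' : a₇ ≠ 0) (h9' : a₉ ≠ 0)
    (h1 : a₅ * a₆ = a₁ * a₈) (h2 : a₃ * a₉ = a₂ * a₈) (h3 : a₄ * a₉ = a₁₀ * a₇)
    (h4 : a₁₀ * m₃ = m₂ * m₁) :
    a₁ * m₁ / a₂ * (a₃ * m₂ / a₄) = a₅ * (a₆ * m₃ / a₇) := by
  rw [div_mul_div_comm, ← mul_div_assoc, div_eq_div_iff (mul_ne_zero h2' h4') h7']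
  apply mul_left_cancel₀ h9'
  linear_combination (a₁*m₁*m₂*a₇) * h2 - (m₃*a₂*a₄*a₉) * h1 - (m₃*a₂*a₁*a₈) * h3
    - (a₁*a₂*a₇*a₈) * h4

/-- a cocycle trivial on a subgroup has trivial `index`-th power -/
theorem pow_index_trivial {Q : Type u} [Group Q] [Finite Q] (α : Q → Q → ℂˣ)
    (hα : ∀ x y z, α x y * α (x * y) z = α y z * α x (y * z)) (P : Subgroup Q) (μ : Q → ℂˣ)
    (hμ : ∀ p ∈ P, ∀ p' ∈ P, α p p' * μ (p * p') = μ p * μ p') :
    ∃ ν : Q → ℂˣ, ∀ x y, α x y ^ P.index * ν (x * y) = ν x * ν y := by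
  classical
  haveI : Fintype (Q ⧸ P) := Fintype.ofFinite _
  let r : Q ⧸ P → Q := fun q => q.out
  have hr : ∀ q : Q ⧸ P, ((r q : Q) : Q ⧸ P) = q := fun q => QuotientGroup.out_eq' q
  let pp : Q → Q ⧸ P → Q := fun g q => (r (g • q))⁻¹ * g * r q
  have hppdef : ∀ g q, pp g q = (r (g • q))⁻¹ * g * r q := fun g q => rfl
  have hpp : ∀ g q, pp g q ∈ P := by
    intro g q
    have h1 : ((r (g • q) : Q) : Q ⧸ P) = ((g * r q : Q) : Q ⧸ P) := by
      rw [hr]
      show g • q = g • ((r q : Q) : Q ⧸ P)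
      rw [hr]
    rw [QuotientGroup.eq] at h1
    rw [hppdef, mul_assoc]
    exact h1
  let c : Q → Q ⧸ P → ℂˣ := fun g q => α g (r q) * μ (pp g q) / α (r (g • q)) (pp g q)
  have hcdef : ∀ g q, c g q = α g (r q) * μ (pp g q) / α (r (g • q)) (pp g q) := fun g q => rfl
  have hc : ∀ g h q, c h q * c g (h • q) = α g h * c (g * h) q := by
    intro g h q
    have e1 : h * r q = r (h • q) * pp h q := by
      rw [hppdef]
      group
    have e2 : g * r (h • q) = r (g • h • q) * pp g (h • q) := by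
      rw [hppdef]
      group
    have e3 : pp (g * h) q = pp g (h • q) * pp h q := by
      rw [hppdef, hppdef, hppdef, mul_smul]
      group
    have k1 := hα g h (r q)
    have k2 := hα g (r (h • q)) (pp h q)
    have k3 := hα (r (g • h • q)) (pp g (h • q)) (pp h q)
    have k4 := hμ (pp g (h • q)) (hpp _ _) (pp h q) (hpp _ _)
    rw [e1] at k1
    rw [e2] at k2
    rw [hcdef, hcdef, hcdef, e3, mul_smul]
    apply Units.ext
    simp only [Units.val_mul, Units.val_div_eq_div_val]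
    have k1' := congrArg Units.val k1
    have k2' := congrArg Units.val k2
    have k3' := congrArg Units.val k3
    have k4' := congrArg Units.val k4
    simp only [Units.val_mul] at k1' k2' k3' k4'
    exact key_identity _ _ _ _ _ _ _ _ _ _ _ _ _ (Units.ne_zero _) (Units.ne_zero _)
      (Units.ne_zero _) (Units.ne_zero _) k1' k2' k3' k4'
  refine ⟨fun g => ∏ q : Q ⧸ P, c g q, fun x y => ?_⟩
  have h1 : ∏ q : Q ⧸ P, c x q = ∏ q : Q ⧸ P, c x (y • q) :=
    (Equiv.prod_comp (MulAction.toPerm y) (fun q => c x q)).symm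
  have h2 : (∏ q : Q ⧸ P, c y q) * ∏ q : Q ⧸ P, c x (y • q)
      = α x y ^ P.index * ∏ q : Q ⧸ P, c (x * y) q := by
    rw [← Finset.prod_mul_distrib, Finset.prod_congr rfl (fun q _ => hc x y q),
      Finset.prod_mul_distrib, Finset.prod_const, Finset.card_univ]
    congr 2
    rw [Subgroup.index, Nat.card_eq_fintype_card]
  show α x y ^ P.index * ∏ q : Q ⧸ P, c (x * y) q = (∏ q : Q ⧸ P, c x q) * ∏ q : Q ⧸ P, c y q
  rw [← h2, h1, mul_comm]

/-- the integers `k` for which the `k`-th power of `α` is a coboundary -/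
def trivSet {Q : Type u} [Group Q] (α : Q → Q → ℂˣ) : AddSubgroup ℤ where
  carrier := {k | ∃ ν : Q → ℂˣ, ∀ x y, α x y ^ k * ν (x * y) = ν x * ν y}
  zero_mem' := ⟨fun _ => 1, fun x y => by simp⟩
  add_mem' := by
    rintro a b ⟨ν₁, h₁⟩ ⟨ν₂, h₂⟩
    refine ⟨fun x => ν₁ x * ν₂ x, fun x y => ?_⟩
    rw [zpow_add, mul_mul_mul_comm, h₁, h₂, mul_mul_mul_comm]
  neg_mem' := by
    rintro a ⟨ν, h⟩
    refine ⟨fun x => (ν x)⁻¹, fun x y => ?_⟩
    rw [zpow_neg, ← mul_inv, h, mul_inv]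

theorem mem_trivSet {Q : Type u} [Group Q] (α : Q → Q → ℂˣ) (k : ℤ) :
    k ∈ trivSet α ↔ ∃ ν : Q → ℂˣ, ∀ x y, α x y ^ k * ν (x * y) = ν x * ν y := Iff.rfl

theorem one_mem_trivSet {Q : Type u} [Group Q] (α : Q → Q → ℂˣ)
    (h : ∀ p : ℕ, p.Prime → ∃ n : ℕ, Nat.Coprime n p ∧ (n : ℤ) ∈ trivSet α) :
    (1 : ℤ) ∈ trivSet α := by
  have key : ∀ k : ℕ, 0 < k → (k : ℤ) ∈ trivSet α → (1 : ℤ) ∈ trivSet α := by
    intro k
    induction k using Nat.strong_induction_on with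
    | _ k ih =>
      intro hk hmem
      by_cases hk1 : k = 1
      · subst hk1
        exact_mod_cast hmem
      · obtain ⟨p, hp, hpk⟩ := Nat.exists_prime_and_dvd hk1
        obtain ⟨n, hn, hnmem⟩ := h p hp
        have hg : ((Nat.gcd k n : ℕ) : ℤ) ∈ trivSet α := by
          rw [Nat.gcd_eq_gcd_ab]
          refine add_mem ?_ ?_
          · rw [mul_comm]
            exact zsmul_mem hmem _
          · rw [mul_comm]
            exact zsmul_mem hnmem _
        have hlt : Nat.gcd k n < k := by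
          have h1 : Nat.gcd k n ∣ k := Nat.gcd_dvd_left k n
          have h2 : Nat.gcd k n ≠ k := by
            intro h3
            have h4 : k ∣ n := by
              rw [← h3]
              exact Nat.gcd_dvd_right k n
            have h5 : p ∣ n := hpk.trans h4
            have h6 := Nat.Coprime.eq_one_of_dvd hn.symm h5
            exact hp.one_lt.ne' h6
          exact lt_of_le_of_ne (Nat.le_of_dvd hk h1) h2
        exact ih _ hlt (Nat.gcd_pos_of_pos_left n hk) hg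
  obtain ⟨n, hn, hnmem⟩ := h 2 Nat.prime_two
  have hn0 : 0 < n := by
    rcases Nat.eq_zero_or_pos n with h0 | h0
    · subst h0
      simp at hn
    · exact h0
  exact key n hn0 hnmem

end Cfsg.Agent.Helper2.Cocycle
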