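import Mathlib
import Cfsg.Prelude.Def_Characters
import Cfsg.Agent.Lead.CharCore3
import Cfsg.Agent.Helper2.CycExt
import Cfsg.Agent.Helper2.DetChar
import Cfsg.Agent.Helper2.Cocycle

namespace Cfsg.Agent.Helper2.Proj

open Cfsg.Agent.Lead Cfsg.Agent.Helper2.CycExt Cfsg.Agent.Helper2.DetChar

universe u v

/-- scalars are determined by their action on a unit -/
theorem scalar_unique {A : Type v} [Ring A] [Algebra ℂ A] [Nontrivial A] (a b : ℂ) (U : A)
    (hU : IsUnit U) (hab : a • U = b • U) : a = b := by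
  obtain ⟨V, hV, -⟩ := isUnit_iff_exists.mp hU
  have h1 : a • (1 : A) = b • (1 : A) := by
    rw [← hV, ← smul_mul_assoc, ← smul_mul_assoc, hab]
  have h2 : algebraMap ℂ A a = algebraMap ℂ A b := by
    rw [Algebra.algebraMap_eq_smul_one, Algebra.algebraMap_eq_smul_one, h1]
  exact (algebraMap ℂ A).injective h2

/-- the projective representation attached to an invariant "irreducible" map on a normal
subgroup, with its factor set -/
theorem exists_proj {G : Type u} [Group G] {A : Type v} [Ring A] [Algebra ℂ A] [Nontrivial A]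
    (N : Subgroup G) [hN : N.Normal] (Yf : G → A) (hY1 : Yf 1 = 1)
    (hYmul : ∀ x ∈ N, ∀ y ∈ N, Yf (x * y) = Yf x * Yf y)
    (hschur : ∀ T : A, (∀ x ∈ N, T * Yf x = Yf x * T) → ∃ c : ℂ, T = c • (1 : A))
    (hP : ∀ g : G, ∃ M : A, IsUnit M ∧ ∀ x ∈ N, M * Yf x = Yf (g * x * g⁻¹) * M) :
    ∃ (X : G → A) (α : G → G → ℂˣ),
      (∀ n ∈ N, X n = Yf n) ∧ (∀ g, IsUnit (X g)) ∧
      (∀ g, ∀ k ∈ N, X g * Yf k = Yf (g * k * g⁻¹) * X g) ∧
      (∀ g, ∀ m ∈ N, X (g * m) = X g * Yf m) ∧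
      (∀ g h, X g * X h = ((α g h : ℂˣ) : ℂ) • X (g * h)) ∧
      (∀ g h, ∀ m ∈ N, α (g * m) h = α g h) ∧ (∀ g h, ∀ m ∈ N, α g (h * m) = α g h) ∧
      (∀ x y z, α x y * α (x * y) z = α y z * α x (y * z)) ∧ α 1 1 = 1 := by
  classical
  have hYunit : ∀ x ∈ N, IsUnit (Yf x) := by
    intro x hx
    refine isUnit_iff_exists.mpr ⟨Yf x⁻¹, ?_, ?_⟩
    · rw [← hYmul x hx _ (N.inv_mem hx), mul_inv_cancel, hY1]
    · rw [← hYmul _ (N.inv_mem hx) x hx, inv_mul_cancel, hY1]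
  have hP' : ∀ g : G, ∃ M : A, IsUnit M ∧ (∀ x ∈ N, M * Yf x = Yf (g * x * g⁻¹) * M) ∧
      (g ∈ N → M = Yf g) := by
    intro g
    by_cases hg : g ∈ N
    · refine ⟨Yf g, hYunit g hg, fun x hx => ?_, fun _ => rfl⟩
      rw [← hYmul g hg x hx, ← hYmul _ (hN.conj_mem x hx g) g hg]
      congr 1
      group
    · obtain ⟨M, hM1, hM2⟩ := hP g
      exact ⟨M, hM1, hM2, fun h => absurd h hg⟩
  choose Pg hPg1 hPg2 hPg3 using hP'
  let r : G → G := fun g => ((g : G ⧸ N)).out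
  have hr : ∀ g, (r g)⁻¹ * g ∈ N := by
    intro g
    have h1 : ((r g : G) : G ⧸ N) = (g : G ⧸ N) := QuotientGroup.out_eq' _
    exact QuotientGroup.eq.mp h1
  have hr_mul : ∀ g, ∀ m ∈ N, r (g * m) = r g := by
    intro g m hm
    show ((g * m : G) : G ⧸ N).out = ((g : G) : G ⧸ N).out
    rw [QuotientGroup.mk_mul_of_mem g hm]
  let X : G → A := fun g => Pg (r g) * Yf ((r g)⁻¹ * g)
  have hXdef : ∀ g, X g = Pg (r g) * Yf ((r g)⁻¹ * g) := fun g => rfl
  have hX1 : ∀ n ∈ N, X n = Yf n := by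
    intro n hn
    have h1 : r n ∈ N := by
      have h2 := hr n
      have h3 : r n = n * ((r n)⁻¹ * n)⁻¹ := by group
      rw [h3]
      exact N.mul_mem hn (N.inv_mem h2)
    rw [hXdef, hPg3 (r n) h1, ← hYmul _ h1 _ (hr n)]
    congr 1
    group
  have hXunit : ∀ g, IsUnit (X g) := fun g => (hPg1 (r g)).mul (hYunit _ (hr g))
  have hX2 : ∀ g, ∀ k ∈ N, X g * Yf k = Yf (g * k * g⁻¹) * X g := by
    intro g k hk
    have hn := hr g
    have hnk : (r g)⁻¹ * g * k * ((r g)⁻¹ * g)⁻¹ ∈ N := hN.conj_mem k hk _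
    rw [hXdef, mul_assoc, ← hYmul _ hn _ hk]
    have h1 : (r g)⁻¹ * g * k = ((r g)⁻¹ * g * k * ((r g)⁻¹ * g)⁻¹) * ((r g)⁻¹ * g) := by group
    rw [h1, hYmul _ hnk _ hn, ← mul_assoc, hPg2 (r g) _ hnk, mul_assoc]
    congr 2
    group
  have hX3 : ∀ g, ∀ m ∈ N, X (g * m) = X g * Yf m := by
    intro g m hm
    rw [hXdef, hXdef, hr_mul g m hm, mul_assoc, ← hYmul _ (hr g) _ hm, mul_assoc]
  have hconj' : ∀ (g k : G), k ∈ N → g⁻¹ * k * g ∈ N := by
    intro g k hk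
    have h1 := hN.conj_mem k hk g⁻¹
    rwa [inv_inv] at h1
  have hα : ∀ g h, ∃ c : ℂˣ, X g * X h = ((c : ℂˣ) : ℂ) • X (g * h) := by
    intro g h
    obtain ⟨Xi, hXi1, hXi2⟩ := isUnit_iff_exists.mp (hXunit (g * h))
    have hXi : ∀ k ∈ N, Xi * Yf k = Yf ((g * h)⁻¹ * k * (g * h)) * Xi := by
      intro k hk
      have hk' : (g * h)⁻¹ * k * (g * h) ∈ N := hconj' _ k hk
      have h1 := hX2 (g * h) _ hk'
      have h2 : g * h * ((g * h)⁻¹ * k * (g * h)) * (g * h)⁻¹ = k := by group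
      rw [h2] at h1
      calc Xi * Yf k = Xi * (Yf k * (X (g * h) * Xi)) := by rw [hXi1, mul_one]
        _ = Xi * (Yf k * X (g * h)) * Xi := by simp only [mul_assoc]
        _ = Xi * (X (g * h) * Yf ((g * h)⁻¹ * k * (g * h))) * Xi := by rw [h1]
        _ = (Xi * X (g * h)) * Yf ((g * h)⁻¹ * k * (g * h)) * Xi := by simp only [mul_assoc]
        _ = Yf ((g * h)⁻¹ * k * (g * h)) * Xi := by rw [hXi2, one_mul]
    have hT : ∀ k ∈ N, (X g * X h * Xi) * Yf k = Yf k * (X g * X h * Xi) := by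
      intro k hk
      have hk' : (g * h)⁻¹ * k * (g * h) ∈ N := hconj' _ k hk
      have hk'' : h * ((g * h)⁻¹ * k * (g * h)) * h⁻¹ ∈ N := hN.conj_mem _ hk' h
      have h3 : g * (h * ((g * h)⁻¹ * k * (g * h)) * h⁻¹) * g⁻¹ = k := by group
      calc (X g * X h * Xi) * Yf k = X g * X h * (Xi * Yf k) := by simp only [mul_assoc]
        _ = X g * (X h * Yf ((g * h)⁻¹ * k * (g * h))) * Xi := by
          rw [hXi k hk]
          simp only [mul_assoc]
        _ = (X g * Yf (h * ((g * h)⁻¹ * k * (g * h)) * h⁻¹)) * X h * Xi := by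
          rw [hX2 h _ hk']
          simp only [mul_assoc]
        _ = Yf k * (X g * X h * Xi) := by
          rw [hX2 g _ hk'', h3]
          simp only [mul_assoc]
    obtain ⟨c, hc⟩ := hschur _ hT
    have hc' : X g * X h = c • X (g * h) := by
      calc X g * X h = X g * X h * (Xi * X (g * h)) := by rw [hXi2, mul_one]
        _ = (X g * X h * Xi) * X (g * h) := by simp only [mul_assoc]
        _ = c • X (g * h) := by rw [hc, smul_mul_assoc, one_mul]
    have hc0 : c ≠ 0 := by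
      rintro rfl
      rw [zero_smul] at hc'
      have h4 : IsUnit (X g * X h) := (hXunit g).mul (hXunit h)
      rw [hc'] at h4
      exact not_isUnit_zero h4
    exact ⟨Units.mk0 c hc0, hc'⟩
  choose α hα using hα
  have hX3' : ∀ g, ∀ m ∈ N, X (m * g) = Yf m * X g := by
    intro g m hm
    have hm' : g⁻¹ * m * g ∈ N := hconj' g m hm
    have h1 : m * g = g * (g⁻¹ * m * g) := by group
    rw [h1, hX3 g _ hm', hX2 g _ hm']
    congr 2
    group
  have hα1 : ∀ g h, ∀ m ∈ N, α g (m * h) = α g h := by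
    intro g h m hm
    have hm' : g * m * g⁻¹ ∈ N := hN.conj_mem m hm g
    have h1 : X g * X (m * h) = ((α g h : ℂˣ) : ℂ) • X (g * (m * h)) := by
      have h2 : g * (m * h) = g * m * g⁻¹ * (g * h) := by group
      rw [hX3' h m hm, ← mul_assoc, hX2 g m hm, mul_assoc, hα g h, mul_smul_comm,
        ← hX3' _ _ hm', h2]
    exact Units.ext (scalar_unique _ _ _ (hXunit _) ((hα g (m * h)).symm.trans h1))
  have hα2 : ∀ g h, ∀ m ∈ N, α (g * m) h = α g h := by
    intro g h m hm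
    have h1 : X (g * m) * X h = ((α g (m * h) : ℂˣ) : ℂ) • X (g * m * h) := by
      rw [hX3 g m hm, mul_assoc, ← hX3' h m hm, hα g (m * h), mul_assoc]
    have h2 := Units.ext (scalar_unique _ _ _ (hXunit _) ((hα (g * m) h).symm.trans h1))
    rw [h2, hα1 g h m hm]
  have hα3 : ∀ g h, ∀ m ∈ N, α g (h * m) = α g h := by
    intro g h m hm
    have h1 : X g * X (h * m) = ((α g h : ℂˣ) : ℂ) • X (g * (h * m)) := by
      rw [hX3 h m hm, ← mul_assoc, hα g h, smul_mul_assoc, ← hX3 _ m hm, mul_assoc]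
    exact Units.ext (scalar_unique _ _ _ (hXunit _) ((hα g (h * m)).symm.trans h1))
  have hcoc : ∀ x y z, α x y * α (x * y) z = α y z * α x (y * z) := by
    intro x y z
    have h1 : X x * X y * X z = (((α x y * α (x * y) z : ℂˣ)) : ℂ) • X (x * y * z) := by
      rw [hα x y, smul_mul_assoc, hα (x * y) z, smul_smul, Units.val_mul]
    have h2 : X x * X y * X z = (((α y z * α x (y * z) : ℂˣ)) : ℂ) • X (x * y * z) := by
      rw [mul_assoc, hα y z, mul_smul_comm, hα x (y * z), smul_smul, Units.val_mul, mul_assoc]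
    exact Units.ext (scalar_unique _ _ _ (hXunit _) (h1.symm.trans h2))
  have hα11 : α 1 1 = 1 := by
    have h1 := hα 1 1
    rw [mul_one, hX1 1 N.one_mem, hY1, mul_one] at h1
    apply Units.ext
    have h2 : ((α 1 1 : ℂˣ) : ℂ) • (1 : A) = (1 : ℂ) • (1 : A) := by rw [← h1, one_smul]
    exact scalar_unique _ _ 1 isUnit_one h2
  exact ⟨X, α, hX1, hXunit, hX2, hX3, hα, hα2, hα3, hcoc, hα11⟩

/-- an intertwiner between an invariant irreducible representation and its conjugate -/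
theorem exists_intertwiner {G : Type u} [Group G] [Finite G] (N : Subgroup G) [hN : N.Normal]
    {d : ℕ} (Y : Representation ℂ N (Fin d → ℂ)) (hi : Y.IsIrreducible)
    (hinv : ∀ (g : G) (n : N),
      Y.character ⟨g * n * g⁻¹, hN.conj_mem (n : G) n.2 g⟩ = Y.character n) (g : G) :
    ∃ M : Module.End ℂ (Fin d → ℂ), IsUnit M ∧
      ∀ x : N, M * Y x = Y ⟨g * x * g⁻¹, hN.conj_mem (x : G) x.2 g⟩ * M := by
  classical
  let c : N ≃* N := MulAut.conjNormal g
  let ρ' : Representation ℂ N (Fin d → ℂ) := Y.comp c.toMonoidHom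
  have hρ'_apply : ∀ x : N, ρ' x = Y (c x) := fun x => rfl
  have hi' : ρ'.IsIrreducible := by
    rw [isIrreducible_iff] at hi ⊢
    refine ⟨hi.1, fun W hW => hi.2 W (fun n v hv => ?_)⟩
    have h1 := hW (c.symm n) v hv
    rw [hρ'_apply, MulEquiv.apply_symm_apply] at h1
    exact h1
  have hcx : ∀ n : N, c n = ⟨g * n * g⁻¹, hN.conj_mem (n : G) n.2 g⟩ :=
    fun n => Subtype.ext (MulAut.conjNormal_apply g n)
  have hchar : ρ'.character = Y.character := by
    funext n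
    show Y.character (c n) = Y.character n
    rw [hcx, hinv g n]
  obtain ⟨φ⟩ := nonempty_equiv_of_character_eq ρ' Y hi' hi hchar
  let M : Module.End ℂ (Fin d → ℂ) := φ.toIntertwiningMap.toLinearMap
  have hM : ∀ x : N, M * Y x = Y (c x) * M := fun x => φ.toIntertwiningMap.isIntertwining' x
  refine ⟨M, ?_, fun x => ?_⟩
  · rw [Module.End.isUnit_iff]
    exact φ.toLinearEquiv.bijective
  · rw [hM x, hcx]

/-- an extension to a subgroup trivialises the factor set on that subgroup -/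
theorem exists_trivialization {G : Type u} [Group G] [Finite G] (N : Subgroup G)
    [hN : N.Normal] {d : ℕ} (Y : Representation ℂ N (Fin d → ℂ)) (hi : Y.IsIrreducible)
    (X : G → Module.End ℂ (Fin d → ℂ)) (α : G → G → ℂˣ)
    (hXunit : ∀ g, IsUnit (X g))
    (hX2 : ∀ (g : G) (k : N), X g * Y k = Y ⟨g * k * g⁻¹, hN.conj_mem (k : G) k.2 g⟩ * X g)
    (hX3 : ∀ (g : G) (m : N), X (g * m) = X g * Y m)
    (hα : ∀ g h, X g * X h = ((α g h : ℂˣ) : ℂ) • X (g * h))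
    (P : Subgroup G) (hNP : N ≤ P) {d' : ℕ} (Z : Representation ℂ P (Fin d' → ℂ))
    (hZ : ∀ n : N, Z.character ⟨(n : G), hNP n.2⟩ = Y.character n) :
    ∃ c : P → ℂˣ, (∀ h k : P, α h k * c (h * k) = c h * c k) ∧
      ∀ (h : P) (m : N), c (h * ⟨m, hNP m.2⟩) = c h := by
  classical
  haveI : Nontrivial (Fin d → ℂ) := ((isIrreducible_iff Y).mp hi).1
  let ι : N →* P := Subgroup.inclusion hNP
  have hι : ∀ n : N, ι n = ⟨(n : G), hNP n.2⟩ := fun n => rfl
  let ZN : Representation ℂ N (Fin d' → ℂ) := Z.comp ι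
  have hZNchar : ZN.character = Y.character := funext fun n => hZ n
  have hiZN : ZN.IsIrreducible :=
    isIrreducible_of_character_irr ZN (by rw [hZNchar]; exact ⟨d, Y, hi, rfl⟩)
  obtain ⟨φ⟩ := nonempty_equiv_of_character_eq Y ZN hi hiZN hZNchar.symm
  let e : (Fin d' → ℂ) ≃ₗ[ℂ] (Fin d → ℂ) := φ.toLinearEquiv
  have hint : ∀ x : N, (e : (Fin d' → ℂ) →ₗ[ℂ] (Fin d → ℂ)) ∘ₗ ZN x
      = Y x ∘ₗ (e : (Fin d' → ℂ) →ₗ[ℂ] (Fin d → ℂ)) :=
    fun x => φ.toIntertwiningMap.isIntertwining' x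
  let Z' : P → Module.End ℂ (Fin d → ℂ) := fun h => e.conj (Z h)
  have hZ'mul : ∀ h k : P, Z' (h * k) = Z' h * Z' k := by
    intro h k
    show e.conj (Z (h * k)) = e.conj (Z h) * e.conj (Z k)
    rw [map_mul]
    exact LinearEquiv.conj_comp e (Z k) (Z h)
  have hZ'one : Z' 1 = 1 := by
    show e.conj (Z 1) = 1
    rw [map_one]
    exact LinearEquiv.conj_id e
  have hZ'N : ∀ n : N, Z' (ι n) = Y n := by
    intro n
    refine LinearMap.ext (fun v => ?_)
    show e (Z (ι n) (e.symm v)) = Y n v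
    have h1 := congrArg (fun f => f (e.symm v)) (hint n)
    simp only [LinearMap.comp_apply, LinearEquiv.coe_coe, LinearEquiv.apply_symm_apply] at h1
    exact h1
  have hZ'unit : ∀ h : P, IsUnit (Z' h) := by
    intro h
    refine isUnit_iff_exists.mpr ⟨Z' h⁻¹, ?_, ?_⟩
    · rw [← hZ'mul, mul_inv_cancel, hZ'one]
    · rw [← hZ'mul, inv_mul_cancel, hZ'one]
  have hZ'2 : ∀ (h : P) (k : N),
      Z' h * Y k = Y ⟨h * k * (h : G)⁻¹, hN.conj_mem (k : G) k.2 h⟩ * Z' h := by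
    intro h k
    rw [← hZ'N k, ← hZ'N, ← hZ'mul, ← hZ'mul]
    congr 1
    apply Subtype.ext
    show (h : G) * (k : G) = (h : G) * (k : G) * (h : G)⁻¹ * (h : G)
    group
  have hsc : ∀ h : P, ∃ c : ℂˣ, X h = ((c : ℂˣ) : ℂ) • Z' h := by
    intro h
    have hT : ∀ k : N, (X h * Z' h⁻¹) ∘ₗ Y k = Y k ∘ₗ (X h * Z' h⁻¹) := by
      intro k
      have h1 := hZ'2 h⁻¹ k
      have h2 := hX2 (h : G) ⟨((h⁻¹ : P) : G) * k * ((h⁻¹ : P) : G)⁻¹, hN.conj_mem (k : G) k.2 _⟩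
      have h3 : (⟨(h : G) * (((h⁻¹ : P) : G) * k * ((h⁻¹ : P) : G)⁻¹) * (h : G)⁻¹,
          hN.conj_mem _ (hN.conj_mem (k : G) k.2 _) _⟩ : N) = k := by
        apply Subtype.ext
        show (h : G) * (((h⁻¹ : P) : G) * k * ((h⁻¹ : P) : G)⁻¹) * (h : G)⁻¹ = k
        rw [Subgroup.coe_inv]
        group
      rw [h3] at h2
      show X h * Z' h⁻¹ * Y k = Y k * (X h * Z' h⁻¹)
      rw [mul_assoc, h1, ← mul_assoc, h2, mul_assoc]
    obtain ⟨c, hc⟩ := schur_scalar Y hi _ hT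
    have hc' : X h = c • Z' h := by
      calc X (h : G) = X h * (Z' h⁻¹ * Z' h) := by rw [← hZ'mul, inv_mul_cancel, hZ'one, mul_one]
        _ = (X h * Z' h⁻¹) * Z' h := by rw [mul_assoc]
        _ = c • Z' h := by
          rw [hc]
          show (c • (1 : Module.End ℂ (Fin d → ℂ))) * Z' h = c • Z' h
          rw [smul_mul_assoc, one_mul]
    have hc0 : c ≠ 0 := by
      rintro rfl
      rw [zero_smul] at hc'
      have h4 := hXunit h
      rw [hc'] at h4
      exact not_isUnit_zero h4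
    exact ⟨Units.mk0 c hc0, hc'⟩
  choose c hc using hsc
  refine ⟨c, fun h k => ?_, fun h m => ?_⟩
  · have h1 : ((c h * c k : ℂˣ) : ℂ) • Z' (h * k)
        = ((α h k * c (h * k) : ℂˣ) : ℂ) • Z' (h * k) := by
      have h2 := hα (h : G) (k : G)
      have h3 : X ((h : G) * (k : G)) = ((c (h * k) : ℂˣ) : ℂ) • Z' (h * k) := hc (h * k)
      rw [hc h, hc k, smul_mul_smul_comm, ← hZ'mul, h3, smul_smul] at h2
      rw [Units.val_mul, Units.val_mul]
      exact h2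
    exact (Units.ext (scalar_unique _ _ _ (hZ'unit _) h1)).symm
  · have h1 : ((c (h * ⟨m, hNP m.2⟩) : ℂˣ) : ℂ) • Z' (h * ι m)
        = ((c h : ℂˣ) : ℂ) • Z' (h * ι m) := by
      have h2 := hX3 (h : G) m
      have h3 : X ((h : G) * (m : G)) = ((c (h * ι m) : ℂˣ) : ℂ) • Z' (h * ι m) := hc (h * ι m)
      rw [h3, hc h, ← hZ'N m, smul_mul_assoc, ← hZ'mul] at h2
      exact h2
    exact Units.ext (scalar_unique _ _ _ (hZ'unit _) h1)

/-- an invariant irreducible representation of a normal subgroup extends to the whole group as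
soon as, for every prime `p`, it extends to a subgroup of index prime to `p` -/
theorem extends_of_sylow {G : Type u} [Group G] [Finite G] (N : Subgroup G) [hN : N.Normal]
    {d : ℕ} (Y : Representation ℂ N (Fin d → ℂ)) (hi : Y.IsIrreducible)
    (hinv : ∀ (g : G) (n : N),
      Y.character ⟨g * n * g⁻¹, hN.conj_mem (n : G) n.2 g⟩ = Y.character n)
    (hsyl : ∀ p : ℕ, p.Prime → ∃ (P : Subgroup G) (hNP : N ≤ P) (d' : ℕ)
      (Z : Representation ℂ P (Fin d' → ℂ)), Nat.Coprime P.index p ∧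
        ∀ n : N, Z.character ⟨(n : G), hNP n.2⟩ = Y.character n) :
    ∃ X' : Representation ℂ G (Fin d → ℂ), ∀ n : N, X' (n : G) = Y n := by
  classical
  haveI : Nontrivial (Fin d → ℂ) := ((isIrreducible_iff Y).mp hi).1
  let Yf : G → Module.End ℂ (Fin d → ℂ) := fun g => if hg : g ∈ N then Y ⟨g, hg⟩ else 0
  have hYf : ∀ (g : G) (hg : g ∈ N), Yf g = Y ⟨g, hg⟩ := fun g hg => dif_pos hg
  have hY1 : Yf 1 = 1 := by
    rw [hYf 1 N.one_mem]
    exact map_one Y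
  have hYmul : ∀ x ∈ N, ∀ y ∈ N, Yf (x * y) = Yf x * Yf y := by
    intro x hx y hy
    rw [hYf _ (N.mul_mem hx hy), hYf x hx, hYf y hy, ← map_mul]
    rfl
  have hschur : ∀ T : Module.End ℂ (Fin d → ℂ), (∀ x ∈ N, T * Yf x = Yf x * T) →
      ∃ c : ℂ, T = c • (1 : Module.End ℂ (Fin d → ℂ)) := by
    intro T hT
    refine schur_scalar Y hi T (fun n => ?_)
    have h1 := hT n n.2
    rw [hYf n n.2] at h1
    exact h1
  have hP : ∀ g : G, ∃ M : Module.End ℂ (Fin d → ℂ), IsUnit M ∧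
      ∀ x ∈ N, M * Yf x = Yf (g * x * g⁻¹) * M := by
    intro g
    obtain ⟨M, hM1, hM2⟩ := exists_intertwiner N Y hi hinv g
    refine ⟨M, hM1, fun x hx => ?_⟩
    rw [hYf x hx, hYf _ (hN.conj_mem x hx g)]
    exact hM2 ⟨x, hx⟩
  obtain ⟨X, α, hX1, hXunit, hX2, hX3, hα, hα2, hα3, hcoc, hα11⟩ :=
    exists_proj N Yf hY1 hYmul hschur hP
  let αq : G ⧸ N → G ⧸ N → ℂˣ := fun a b => α a.out b.out
  have hαq : ∀ g h : G, αq (g : G ⧸ N) (h : G ⧸ N) = α g h := by
    intro g h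
    obtain ⟨m₁, hm₁⟩ := QuotientGroup.mk_out_eq_mul N g
    obtain ⟨m₂, hm₂⟩ := QuotientGroup.mk_out_eq_mul N h
    show α ((g : G ⧸ N).out) ((h : G ⧸ N).out) = α g h
    rw [hm₁, hm₂, hα2 _ _ _ m₁.2, hα3 _ _ _ m₂.2]
  have hαqcoc : ∀ x y z, αq x y * αq (x * y) z = αq y z * αq x (y * z) := by
    intro x y z
    obtain ⟨x, rfl⟩ := QuotientGroup.mk_surjective x
    obtain ⟨y, rfl⟩ := QuotientGroup.mk_surjective y
    obtain ⟨z, rfl⟩ := QuotientGroup.mk_surjective z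
    rw [← QuotientGroup.mk_mul, ← QuotientGroup.mk_mul, hαq, hαq, hαq, hαq]
    exact hcoc x y z
  have hprime : ∀ p : ℕ, p.Prime →
      ∃ n : ℕ, Nat.Coprime n p ∧ (n : ℤ) ∈ Cocycle.trivSet αq := by
    intro p hp
    obtain ⟨P, hNP, d', Z, hcop, hZ⟩ := hsyl p hp
    refine ⟨P.index, hcop, ?_⟩
    have hX2' : ∀ (g : G) (k : N),
        X g * Y k = Y ⟨g * k * g⁻¹, hN.conj_mem (k : G) k.2 g⟩ * X g := by
      intro g k
      have h1 := hX2 g k k.2
      rw [hYf k k.2, hYf _ (hN.conj_mem (k : G) k.2 g)] at h1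
      exact h1
    have hX3' : ∀ (g : G) (m : N), X (g * m) = X g * Y m := by
      intro g m
      have h1 := hX3 g m m.2
      rw [hYf m m.2] at h1
      exact h1
    obtain ⟨c, hc1, hc2⟩ := exists_trivialization N Y hi X α hXunit hX2' hX3' hα P hNP Z hZ
    let μq : G ⧸ N → ℂˣ := fun q => if hq : q.out ∈ P then c ⟨q.out, hq⟩ else 1
    have hμq : ∀ (h : G) (hh : h ∈ P), μq (h : G ⧸ N) = c ⟨h, hh⟩ := by
      intro h hh
      obtain ⟨m, hm⟩ := QuotientGroup.mk_out_eq_mul N h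
      have hmem : (h : G ⧸ N).out ∈ P := by
        rw [hm]
        exact P.mul_mem hh (hNP m.2)
      show (if hq : (h : G ⧸ N).out ∈ P then c ⟨(h : G ⧸ N).out, hq⟩ else 1) = c ⟨h, hh⟩
      rw [dif_pos hmem]
      have h1 : (⟨(h : G ⧸ N).out, hmem⟩ : P) = ⟨h, hh⟩ * ⟨m, hNP m.2⟩ := Subtype.ext hm
      rw [h1, hc2]
    let Pq : Subgroup (G ⧸ N) := P.map (QuotientGroup.mk' N)
    have hμ : ∀ a ∈ Pq, ∀ b ∈ Pq, αq a b * μq (a * b) = μq a * μq b := by
      rintro a ⟨h, hh, rfl⟩ b ⟨k, hk, rfl⟩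
      show αq (h : G ⧸ N) (k : G ⧸ N) * μq ((h : G ⧸ N) * (k : G ⧸ N))
        = μq (h : G ⧸ N) * μq (k : G ⧸ N)
      rw [← QuotientGroup.mk_mul, hαq, hμq h hh, hμq k hk, hμq (h * k) (P.mul_mem hh hk)]
      exact hc1 ⟨h, hh⟩ ⟨k, hk⟩
    obtain ⟨ν, hν⟩ := Cocycle.pow_index_trivial αq hαqcoc Pq μq hμ
    have hidx : Pq.index = P.index := by
      refine Subgroup.index_map_eq P (QuotientGroup.mk'_surjective N) ?_
      rw [QuotientGroup.ker_mk']
      exact hNP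
    rw [Cocycle.mem_trivSet]
    refine ⟨ν, fun x y => ?_⟩
    rw [zpow_natCast, ← hidx]
    exact hν x y
  have h1 := Cocycle.one_mem_trivSet αq hprime
  obtain ⟨ν, hν⟩ := (Cocycle.mem_trivSet αq 1).mp h1
  have hν' : ∀ g h : G, α g h * ν ((g * h : G) : G ⧸ N) = ν (g : G ⧸ N) * ν (h : G ⧸ N) := by
    intro g h
    have h2 := hν (g : G ⧸ N) (h : G ⧸ N)
    rw [zpow_one, hαq, ← QuotientGroup.mk_mul] at h2
    exact h2
  have hν1 : ν ((1 : G) : G ⧸ N) = 1 := by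
    have h2 := hν' 1 1
    rw [hα11, one_mul, mul_one] at h2
    exact (mul_eq_left.mp h2.symm)
  have hνN : ∀ n ∈ N, ν ((n : G) : G ⧸ N) = 1 := by
    intro n hn
    have h2 : ((n : G) : G ⧸ N) = ((1 : G) : G ⧸ N) := by
      rw [QuotientGroup.eq]
      simpa using hn
    rw [h2, hν1]
  let X' : Representation ℂ G (Fin d → ℂ) :=
    { toFun := fun g => (((ν (g : G ⧸ N))⁻¹ : ℂˣ) : ℂ) • X g
      map_one' := by
        show (((ν ((1 : G) : G ⧸ N))⁻¹ : ℂˣ) : ℂ) • X 1 = 1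
        rw [hν1, hX1 1 N.one_mem, hY1]
        simp
      map_mul' := by
        intro g h
        show (((ν ((g * h : G) : G ⧸ N))⁻¹ : ℂˣ) : ℂ) • X (g * h)
          = ((((ν (g : G ⧸ N))⁻¹ : ℂˣ) : ℂ) • X g) * ((((ν (h : G ⧸ N))⁻¹ : ℂˣ) : ℂ) • X h)
        rw [smul_mul_smul_comm, hα g h, smul_smul, ← Units.val_mul, ← Units.val_mul]
        congr 2
        have h3 := hν' g h
        rw [← mul_inv, ← h3, mul_inv, mul_comm (α g h)⁻¹, mul_assoc, inv_mul_cancel, mul_one] }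
  refine ⟨X', fun n => ?_⟩
  show (((ν ((n : G) : G ⧸ N))⁻¹ : ℂˣ) : ℂ) • X (n : G) = Y n
  rw [hνN n n.2, hX1 n n.2, hYf n n.2]
  simp

end Cfsg.Agent.Helper2.Proj
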