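import Mathlib
import Cfsg.Prelude.Def_Characters
import Cfsg.Agent.Helper2.Proj

namespace Cfsg.Agent.Helper2.Proj

open Cfsg.Agent.Lead Cfsg.Agent.Helper2.CycExt Cfsg.Agent.Helper2.DetChar

universe u v

/-- the projective representation attached to an invariant irreducible representation -/
theorem exists_proj_rep {G : Type u} [Group G] [Finite G] (N : Subgroup G) [hN : N.Normal]
    {d : ℕ} (Y : Representation ℂ N (Fin d → ℂ)) (hi : Y.IsIrreducible)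
    (hinv : ∀ (g : G) (n : N),
      Y.character ⟨g * n * g⁻¹, hN.conj_mem (n : G) n.2 g⟩ = Y.character n) :
    ∃ (X : G → Module.End ℂ (Fin d → ℂ)) (α : G → G → ℂˣ),
      (∀ n : N, X n = Y n) ∧ (∀ g, IsUnit (X g)) ∧
      (∀ (g : G) (k : N), X g * Y k = Y ⟨g * k * g⁻¹, hN.conj_mem (k : G) k.2 g⟩ * X g) ∧
      (∀ (g : G) (m : N), X (g * m) = X g * Y m) ∧
      (∀ g h, X g * X h = ((α g h : ℂˣ) : ℂ) • X (g * h)) ∧
      (∀ g h, ∀ m ∈ N, α (g * m) h = α g h) ∧ (∀ g h, ∀ m ∈ N, α g (h * m) = α g h) ∧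
      (∀ x y z, α x y * α (x * y) z = α y z * α x (y * z)) ∧ α 1 1 = 1 := by
  classical
  haveI : Nontrivial (Fin d → ℂ) := ((isIrreducible_iff Y).mp hi).1
  let Yf : G → Module.End ℂ (Fin d → ℂ) := fun g => if hg : g ∈ N then Y ⟨g, hg⟩ else 0
  have hYf : ∀ (g : G) (hg : g ∈ N), Yf g = Y ⟨g, hg⟩ := fun g hg => dif_pos hg
  have hY1 : Yf 1 = 1 := by
    rw [hYf 1 N.one_mem]
    exact map_one Y
  have hYmul : ∀ x ∈ N, ∀ y ∈ N, Yf (x * y) = Yf x * Yf y := by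
    intro x hx y hy
    rw [hYf _ (N.mul_mem hx hy), hYf x hx, hYf y hy, ← map_mul]
    rfl
  have hschur : ∀ T : Module.End ℂ (Fin d → ℂ), (∀ x ∈ N, T * Yf x = Yf x * T) →
      ∃ c : ℂ, T = c • (1 : Module.End ℂ (Fin d → ℂ)) := by
    intro T hT
    refine schur_scalar Y hi T (fun n => ?_)
    have h1 := hT n n.2
    rw [hYf n n.2] at h1
    exact h1
  have hP : ∀ g : G, ∃ M : Module.End ℂ (Fin d → ℂ), IsUnit M ∧
      ∀ x ∈ N, M * Yf x = Yf (g * x * g⁻¹) * M := by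
    intro g
    obtain ⟨M, hM1, hM2⟩ := exists_intertwiner N Y hi hinv g
    refine ⟨M, hM1, fun x hx => ?_⟩
    rw [hYf x hx, hYf _ (hN.conj_mem x hx g)]
    exact hM2 ⟨x, hx⟩
  obtain ⟨X, α, hX1, hXunit, hX2, hX3, hα, hα2, hα3, hcoc, hα11⟩ :=
    exists_proj N Yf hY1 hYmul hschur hP
  refine ⟨X, α, fun n => ?_, hXunit, fun g k => ?_, fun g m => ?_, hα, hα2, hα3, hcoc, hα11⟩
  · rw [hX1 n n.2, hYf n n.2]
  · have h1 := hX2 g k k.2
    rw [hYf k k.2, hYf _ (hN.conj_mem (k : G) k.2 g)] at h1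
    exact h1
  · have h1 := hX3 g m m.2
    rw [hYf m m.2] at h1
    exact h1

/-- the projective representation can be normalised so that its factor set has finite order -/
theorem exists_proj_finite {G : Type u} [Group G] [Finite G] (N : Subgroup G) [hN : N.Normal]
    {d : ℕ} (Y : Representation ℂ N (Fin d → ℂ)) (hi : Y.IsIrreducible)
    (hinv : ∀ (g : G) (n : N),
      Y.character ⟨g * n * g⁻¹, hN.conj_mem (n : G) n.2 g⟩ = Y.character n) :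
    ∃ (X : G → Module.End ℂ (Fin d → ℂ)) (α : G → G → ℂˣ),
      (∀ n : N, X n = Y n) ∧ (∀ g, IsUnit (X g)) ∧
      (∀ (g : G) (k : N), X g * Y k = Y ⟨g * k * g⁻¹, hN.conj_mem (k : G) k.2 g⟩ * X g) ∧
      (∀ g h, X g * X h = ((α g h : ℂˣ) : ℂ) • X (g * h)) ∧
      (∀ g h, α g h ^ N.index = 1) := by
  classical
  obtain ⟨X, α, hX1, hXunit, hX2, hX3, hα, hα2, hα3, hcoc, hα11⟩ :=
    exists_proj_rep N Y hi hinv
  let αq : G ⧸ N → G ⧸ N → ℂˣ := fun a b => α a.out b.out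
  have hαq : ∀ g h : G, αq (g : G ⧸ N) (h : G ⧸ N) = α g h := by
    intro g h
    obtain ⟨m₁, hm₁⟩ := QuotientGroup.mk_out_eq_mul N g
    obtain ⟨m₂, hm₂⟩ := QuotientGroup.mk_out_eq_mul N h
    show α ((g : G ⧸ N).out) ((h : G ⧸ N).out) = α g h
    rw [hm₁, hm₂, hα2 _ _ _ m₁.2, hα3 _ _ _ m₂.2]
  have hαqcoc : ∀ x y z, αq x y * αq (x * y) z = αq y z * αq x (y * z) := by
    intro x y z
    obtain ⟨x, rfl⟩ := QuotientGroup.mk_surjective x
    obtain ⟨y, rfl⟩ := QuotientGroup.mk_surjective y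
    obtain ⟨z, rfl⟩ := QuotientGroup.mk_surjective z
    rw [← QuotientGroup.mk_mul, ← QuotientGroup.mk_mul, hαq, hαq, hαq, hαq]
    exact hcoc x y z
  have hαq11 : αq 1 1 = 1 := by
    have h1 := hαq 1 1
    rw [hα11] at h1
    exact h1
  have hμ : ∀ a ∈ (⊥ : Subgroup (G ⧸ N)), ∀ b ∈ (⊥ : Subgroup (G ⧸ N)),
      αq a b * (fun _ : G ⧸ N => (1 : ℂˣ)) (a * b)
        = (fun _ : G ⧸ N => (1 : ℂˣ)) a * (fun _ : G ⧸ N => (1 : ℂˣ)) b := by
    intro a ha b hb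
    rw [Subgroup.mem_bot] at ha hb
    subst ha
    subst hb
    show αq 1 1 * 1 = 1 * 1
    rw [hαq11]
  obtain ⟨ν, hν⟩ := Cocycle.pow_index_trivial αq hαqcoc ⊥ (fun _ => 1) hμ
  have hidx : (⊥ : Subgroup (G ⧸ N)).index = N.index := by
    rw [Subgroup.index_bot]
    rfl
  rw [hidx] at hν
  have hm0 : 0 < N.index := Nat.pos_of_ne_zero Subgroup.index_ne_zero_of_finite
  have hν1 : ν 1 = 1 := by
    have h2 := hν 1 1
    rw [hαq11, one_pow, one_mul, mul_one] at h2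
    exact (mul_eq_left.mp h2.symm)
  have hroot : ∀ q : G ⧸ N, ∃ r : ℂˣ, r ^ N.index = ν q ∧ (q = 1 → r = 1) := by
    intro q
    by_cases hq : q = 1
    · refine ⟨1, ?_, fun _ => rfl⟩
      rw [hq, hν1, one_pow]
    · obtain ⟨r, hr⟩ := IsAlgClosed.exists_pow_nat_eq ((ν q : ℂˣ) : ℂ) hm0
      have hr0 : r ≠ 0 := by
        rintro rfl
        rw [zero_pow hm0.ne'] at hr
        exact (Units.ne_zero (ν q)) hr.symm
      refine ⟨Units.mk0 r hr0, ?_, fun h => absurd h hq⟩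
      apply Units.ext
      rw [Units.val_pow_eq_pow_val]
      exact hr
  choose ρ hρ hρ1 using hroot
  have hρN : ∀ n : N, ρ ((n : G) : G ⧸ N) = 1 := by
    intro n
    apply hρ1
    exact (QuotientGroup.eq_one_iff (n : G)).mpr n.2
  let X' : G → Module.End ℂ (Fin d → ℂ) := fun g => (((ρ (g : G ⧸ N))⁻¹ : ℂˣ) : ℂ) • X g
  have hX'def : ∀ g, X' g = (((ρ (g : G ⧸ N))⁻¹ : ℂˣ) : ℂ) • X g := fun g => rfl
  let α' : G → G → ℂˣ := fun g h =>
    α g h * ρ ((g * h : G) : G ⧸ N) * ((ρ (g : G ⧸ N))⁻¹ * (ρ (h : G ⧸ N))⁻¹)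
  have hα'def : ∀ g h, α' g h
      = α g h * ρ ((g * h : G) : G ⧸ N) * ((ρ (g : G ⧸ N))⁻¹ * (ρ (h : G ⧸ N))⁻¹) :=
    fun g h => rfl
  refine ⟨X', α', fun n => ?_, fun g => ?_, fun g k => ?_, fun g h => ?_, fun g h => ?_⟩
  · rw [hX'def, hρN n, hX1 n]
    simp
  · rw [hX'def]
    obtain ⟨u, hu⟩ := hXunit g
    have h1 : (((ρ (g : G ⧸ N))⁻¹ : ℂˣ) : ℂ) • X g
        = ((Units.map (algebraMap ℂ (Module.End ℂ (Fin d → ℂ))).toMonoidHom
            (ρ (g : G ⧸ N))⁻¹ * u : (Module.End ℂ (Fin d → ℂ))ˣ) : Module.End ℂ (Fin d → ℂ)) := by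
      rw [Units.val_mul, hu]
      show _ = algebraMap ℂ (Module.End ℂ (Fin d → ℂ)) (((ρ (g : G ⧸ N))⁻¹ : ℂˣ) : ℂ) * X g
      rw [Algebra.algebraMap_eq_smul_one, smul_mul_assoc, one_mul]
    rw [h1]
    exact Units.isUnit _
  · rw [hX'def, smul_mul_assoc, hX2 g k, mul_smul_comm]
  · rw [hX'def, hX'def, hX'def, smul_mul_smul_comm, hα g h, smul_smul, smul_smul, hα'def]
    congr 1
    simp only [Units.val_mul]
    have h1 : ((ρ ((g * h : G) : G ⧸ N) : ℂˣ) : ℂ) * (((ρ ((g * h : G) : G ⧸ N))⁻¹ : ℂˣ) : ℂ) = 1 := by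
      rw [← Units.val_mul, mul_inv_cancel, Units.val_one]
    linear_combination (-(((ρ (g : G ⧸ N))⁻¹ : ℂˣ) : ℂ) * (((ρ (h : G ⧸ N))⁻¹ : ℂˣ) : ℂ)
      * ((α g h : ℂˣ) : ℂ)) * h1
  · rw [hα'def, mul_pow, mul_pow, mul_pow, inv_pow, inv_pow, hρ, hρ, hρ]
    have h1 := hν (g : G ⧸ N) (h : G ⧸ N)
    rw [hαq, ← QuotientGroup.mk_mul] at h1
    rw [h1, ← mul_inv, mul_inv_cancel]

end Cfsg.Agent.Helper2.Proj
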