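import Mathlib
import Cfsg.Prelude.Def_Characters
import Cfsg.Agent.Lead.CharConj
import Cfsg.Agent.Lead.CharOdd
import Cfsg.Agent.Helper2.Proj2
import Cfsg.Agent.Helper2.CharN6
import Cfsg.Agent.Helper2.Ito

namespace Cfsg.Agent.Helper2.Proj

open Cfsg.Agent.Lead Cfsg.Agent.Helper2.CycExt Cfsg.Agent.Helper2.DetChar

universe u v

/-- irreducibility is preserved by inflation along a surjective homomorphism -/
theorem isIrrCharacter_comp_surjective {G : Type u} {H : Type v} [Group G] [Group H]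
    (f : H →* G) (hf : Function.Surjective f) {χ : G → ℂ} (hχ : Cfsg.IsIrrCharacter G χ) :
    Cfsg.IsIrrCharacter H (χ ∘ f) := by
  obtain ⟨n, ρ, hi, rfl⟩ := hχ
  refine ⟨n, ρ.comp f, ?_, rfl⟩
  rw [isIrreducible_iff] at hi ⊢
  refine ⟨hi.1, fun W hW => hi.2 W (fun g v hv => ?_)⟩
  obtain ⟨h, rfl⟩ := hf g
  exact hW h v hv

set_option maxHeartbeats 1000000 in
/-- an irreducible character lying over an invariant irreducible character of a normal subgroup
has degree ratio dividing the index -/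
theorem degree_ratio_invariant {G : Type u} [Group G] [Finite G] (N : Subgroup G)
    [hN : N.Normal] [Fintype N] {d : ℕ} (Y : Representation ℂ N (Fin d → ℂ))
    (hi : Y.IsIrreducible)
    (hinv : ∀ (g : G) (n : N),
      Y.character ⟨g * n * g⁻¹, hN.conj_mem (n : G) n.2 g⟩ = Y.character n)
    (ψ : G → ℂ) (hψ : Cfsg.IsIrrCharacter G ψ)
    (hne : Cfsg.classInner (fun n : N => ψ n) Y.character ≠ 0) :
    ∃ k : ℕ, ψ 1 = (k : ℂ) * (d : ℂ) ∧ k ∣ N.index := by
  classical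
  haveI : Nontrivial (Fin d → ℂ) := ((isIrreducible_iff Y).mp hi).1
  obtain ⟨X, α, hX1, hXunit, hX2, hα, hαpow⟩ := exists_proj_finite N Y hi hinv
  have hm0 : N.index ≠ 0 := Subgroup.index_ne_zero_of_finite
  haveI : NeZero N.index := ⟨hm0⟩
  let Xu : G → (Module.End ℂ (Fin d → ℂ))ˣ := fun g => (hXunit g).unit
  have hXu : ∀ g, ((Xu g : (Module.End ℂ (Fin d → ℂ))ˣ) : Module.End ℂ (Fin d → ℂ)) = X g :=
    fun g => (hXunit g).unit_spec
  have hX1' : X 1 = 1 := by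
    have h1 := hX1 1
    rw [Subgroup.coe_one, map_one] at h1
    exact h1
  let Ghat : Subgroup (G × (Module.End ℂ (Fin d → ℂ))ˣ) :=
    { carrier := {p | ∃ z : ℂˣ, z ^ N.index = 1 ∧
        ((p.2 : (Module.End ℂ (Fin d → ℂ))ˣ) : Module.End ℂ (Fin d → ℂ))
          = ((z : ℂˣ) : ℂ) • X p.1}
      one_mem' := ⟨1, one_pow _, by
        show (((1 : (Module.End ℂ (Fin d → ℂ))ˣ)) : Module.End ℂ (Fin d → ℂ))
          = ((1 : ℂˣ) : ℂ) • X 1
        rw [hX1']
        simp⟩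
      mul_mem' := by
        rintro p q ⟨z₁, hz₁, hp⟩ ⟨z₂, hz₂, hq⟩
        refine ⟨z₁ * z₂ * α p.1 q.1, by
          rw [mul_pow, mul_pow, hz₁, hz₂, hαpow, one_mul, one_mul], ?_⟩
        show ((p.2 * q.2 : (Module.End ℂ (Fin d → ℂ))ˣ) : Module.End ℂ (Fin d → ℂ))
          = ((z₁ * z₂ * α p.1 q.1 : ℂˣ) : ℂ) • X (p.1 * q.1)
        rw [Units.val_mul, hp, hq, smul_mul_smul_comm, hα, smul_smul, Units.val_mul,
          Units.val_mul]
      inv_mem' := by
        rintro p ⟨z, hz, hp⟩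
        refine ⟨z⁻¹ * (α p.1 p.1⁻¹)⁻¹, by
          rw [mul_pow, inv_pow, inv_pow, hz, hαpow]
          simp, ?_⟩
        show ((p.2⁻¹ : (Module.End ℂ (Fin d → ℂ))ˣ) : Module.End ℂ (Fin d → ℂ))
          = ((z⁻¹ * (α p.1 p.1⁻¹)⁻¹ : ℂˣ) : ℂ) • X p.1⁻¹
        apply Units.inv_eq_of_mul_eq_one_right
        rw [hp, smul_mul_smul_comm, hα, mul_inv_cancel, hX1', smul_smul, ← Units.val_mul,
          ← Units.val_mul]
        have h1 : z * (z⁻¹ * (α p.1 p.1⁻¹)⁻¹) * α p.1 p.1⁻¹ = 1 := by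
          rw [mul_inv_cancel_left, inv_mul_cancel]
        rw [h1]
        simp }
  have hGhat : ∀ p : G × (Module.End ℂ (Fin d → ℂ))ˣ, p ∈ Ghat ↔ ∃ z : ℂˣ, z ^ N.index = 1 ∧
        ((p.2 : (Module.End ℂ (Fin d → ℂ))ˣ) : Module.End ℂ (Fin d → ℂ))
          = ((z : ℂˣ) : ℂ) • X p.1 := fun p => Iff.rfl
  haveI hfin : Finite Ghat := by
    let f : G × rootsOfUnity N.index ℂ → G × (Module.End ℂ (Fin d → ℂ))ˣ := fun q =>
      (q.1, Units.map (algebraMap ℂ (Module.End ℂ (Fin d → ℂ))).toMonoidHom (q.2 : ℂˣ) * Xu q.1)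
    have hsub : (Ghat : Set (G × (Module.End ℂ (Fin d → ℂ))ˣ)) ⊆ Set.range f := by
      rintro p ⟨z, hz, hp⟩
      refine ⟨(p.1, ⟨z, (mem_rootsOfUnity N.index z).mpr hz⟩), ?_⟩
      refine Prod.ext rfl (Units.ext ?_)
      show ((Units.map (algebraMap ℂ (Module.End ℂ (Fin d → ℂ))).toMonoidHom z * Xu p.1 :
        (Module.End ℂ (Fin d → ℂ))ˣ) : Module.End ℂ (Fin d → ℂ)) = _
      rw [Units.val_mul, hXu, hp]
      show algebraMap ℂ (Module.End ℂ (Fin d → ℂ)) (z : ℂ) * X p.1 = _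
      rw [Algebra.algebraMap_eq_smul_one, smul_mul_assoc, one_mul]
    exact Set.finite_coe_iff.mpr ((Set.finite_range f).subset hsub)
  haveI : Fintype Ghat := Fintype.ofFinite _
  have hmemX : ∀ g : G, ((g, Xu g) : G × (Module.End ℂ (Fin d → ℂ))ˣ) ∈ Ghat := by
    intro g
    refine ⟨1, one_pow _, ?_⟩
    show ((Xu g : (Module.End ℂ (Fin d → ℂ))ˣ) : Module.End ℂ (Fin d → ℂ)) = ((1 : ℂˣ) : ℂ) • X g
    rw [hXu]
    simp
  let π : Ghat →* G := (MonoidHom.fst G (Module.End ℂ (Fin d → ℂ))ˣ).comp Ghat.subtype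
  have hπ : ∀ x : Ghat, π x = (x : G × (Module.End ℂ (Fin d → ℂ))ˣ).1 := fun x => rfl
  have hπsurj : Function.Surjective π := fun g => ⟨⟨(g, Xu g), hmemX g⟩, rfl⟩
  let Rhat : Representation ℂ Ghat (Fin d → ℂ) :=
    (Units.coeHom (Module.End ℂ (Fin d → ℂ))).comp
      ((MonoidHom.snd G (Module.End ℂ (Fin d → ℂ))ˣ).comp Ghat.subtype)
  have hRhat : ∀ x : Ghat, Rhat x
      = (((x : G × (Module.End ℂ (Fin d → ℂ))ˣ).2 : (Module.End ℂ (Fin d → ℂ))ˣ) :
          Module.End ℂ (Fin d → ℂ)) := fun x => rfl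
  have hXuN : ∀ n n' : N, Xu ((n * n' : N) : G) = Xu n * Xu n' := by
    intro n n'
    apply Units.ext
    rw [Units.val_mul, hXu, hXu, hXu, hX1, hX1, hX1, map_mul]
  let j : N →* Ghat := MonoidHom.mk' (fun n => ⟨((n : G), Xu n), hmemX n⟩) (by
    intro a b
    apply Subtype.ext
    exact Prod.ext rfl (hXuN a b))
  have hj : ∀ n : N, ((j n : Ghat) : G × (Module.End ℂ (Fin d → ℂ))ˣ) = ((n : G), Xu n) :=
    fun n => rfl
  have hjinj : Function.Injective j := by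
    intro a b hab
    have h1 := congrArg (fun x : Ghat => (x : G × (Module.End ℂ (Fin d → ℂ))ˣ).1) hab
    exact Subtype.ext h1
  let Nhat : Subgroup Ghat := j.range
  have hNhatn : Nhat.Normal := by
    refine ⟨?_⟩
    rintro x ⟨n, rfl⟩ y
    obtain ⟨z, hz, hy⟩ := y.2
    refine ⟨⟨(y : G × (Module.End ℂ (Fin d → ℂ))ˣ).1 * n
      * ((y : G × (Module.End ℂ (Fin d → ℂ))ˣ).1)⁻¹, hN.conj_mem (n : G) n.2 _⟩, ?_⟩
    apply Subtype.ext
    refine Prod.ext rfl (Units.ext ?_)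
    have h1 := hX1 ⟨(y : G × (Module.End ℂ (Fin d → ℂ))ˣ).1 * n
      * ((y : G × (Module.End ℂ (Fin d → ℂ))ˣ).1)⁻¹, hN.conj_mem (n : G) n.2 _⟩
    have h2 := hX2 (y : G × (Module.End ℂ (Fin d → ℂ))ˣ).1 n
    have h3 : (((y : G × (Module.End ℂ (Fin d → ℂ))ˣ).2 : (Module.End ℂ (Fin d → ℂ))ˣ) :
        Module.End ℂ (Fin d → ℂ)) * Y n
        = Y ⟨(y : G × (Module.End ℂ (Fin d → ℂ))ˣ).1 * n
      * ((y : G × (Module.End ℂ (Fin d → ℂ))ˣ).1)⁻¹, hN.conj_mem (n : G) n.2 _⟩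
        * (((y : G × (Module.End ℂ (Fin d → ℂ))ˣ).2 : (Module.End ℂ (Fin d → ℂ))ˣ) :
        Module.End ℂ (Fin d → ℂ)) := by
      rw [hy, smul_mul_assoc, h2, mul_smul_comm]
    show ((Xu ((y : G × (Module.End ℂ (Fin d → ℂ))ˣ).1 * n
      * ((y : G × (Module.End ℂ (Fin d → ℂ))ˣ).1)⁻¹) : (Module.End ℂ (Fin d → ℂ))ˣ) :
        Module.End ℂ (Fin d → ℂ))
      = (((y : G × (Module.End ℂ (Fin d → ℂ))ˣ).2 * Xu n
          * ((y : G × (Module.End ℂ (Fin d → ℂ))ˣ).2)⁻¹ : (Module.End ℂ (Fin d → ℂ))ˣ) :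
        Module.End ℂ (Fin d → ℂ))
    rw [hXu, Units.val_mul, Units.val_mul, hXu, hX1 n, h3, Units.mul_inv_cancel_right]
    exact h1
  haveI := hNhatn
  haveI : Fintype Nhat := Fintype.ofFinite _
  let e : N ≃* Nhat := MonoidHom.ofInjective hjinj
  have he : ∀ n : N, ((e n : Nhat) : Ghat) = j n := fun n => rfl
  let ψh : Ghat → ℂ := ψ ∘ π
  have hψh : Cfsg.IsIrrCharacter Ghat ψh := isIrrCharacter_comp_surjective π hπsurj hψ
  let η : Ghat → ℂ := Rhat.character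
  have hηc : Cfsg.IsCharacter Ghat η := ⟨d, Rhat, rfl⟩
  have hd0 : d ≠ 0 := by
    rintro rfl
    exact not_subsingleton (Fin 0 → ℂ) inferInstance
  have hη1 : η 1 = (d : ℂ) := by
    show Rhat.character 1 = (d : ℂ)
    rw [Representation.char_one, Module.finrank_fin_fun]
  have hη1' : η 1 ≠ 0 := by
    rw [hη1]
    exact_mod_cast hd0
  have hηe : ∀ n : N, η (e n) = Y.character n := by
    intro n
    show LinearMap.trace ℂ _ (Rhat (j n)) = LinearMap.trace ℂ _ (Y n)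
    rw [hRhat, hj]
    show LinearMap.trace ℂ _ ((Xu n : (Module.End ℂ (Fin d → ℂ))ˣ) : Module.End ℂ (Fin d → ℂ)) = _
    rw [hXu, hX1]
  have hηN : (fun x : Nhat => η x) = Y.character ∘ e.symm := by
    funext x
    obtain ⟨n, rfl⟩ := e.surjective x
    show η (e n) = Y.character (e.symm (e n))
    rw [e.symm_apply_apply, hηe]
  have hηNirr : Cfsg.IsIrrCharacter Nhat (fun x : Nhat => η x) := by
    rw [hηN]
    exact isIrrCharacter_comp_mulEquiv e.symm ⟨d, Y, hi, rfl⟩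
  have hψN : (fun x : Nhat => ψh x) = (fun n : N => ψ n) ∘ e.symm := by
    funext x
    obtain ⟨n, rfl⟩ := e.surjective x
    show ψ (π (e n)) = ψ ((e.symm (e n) : N) : G)
    rw [e.symm_apply_apply]
    rfl
  have hne' : Cfsg.classInner (fun x : Nhat => ψh x) (fun x : Nhat => η x) ≠ 0 := by
    rw [hψN, hηN, classInner_comp_mulEquiv e.symm]
    exact hne
  obtain ⟨β, hβirr, hβN, hψβ⟩ :=
    Cfsg.Agent.Helper2.CharN.gallagher_ext Nhat η hηc hη1' hηNirr ψh hψh hne'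
  obtain ⟨k, R, hRi, rfl⟩ := hβirr
  have hβ1 : R.character 1 = (k : ℂ) := by
    rw [Representation.char_one, Module.finrank_fin_fun]
  haveI : Nontrivial (Fin k → ℂ) := ((isIrreducible_iff R).mp hRi).1
  have hk0 : k ≠ 0 := by
    rintro rfl
    exact not_subsingleton (Fin 0 → ℂ) inferInstance
  refine ⟨k, ?_, ?_⟩
  · have h1 := congrFun hψβ 1
    rw [Pi.mul_apply, hβ1, hη1] at h1
    have h2 : ψh 1 = ψ 1 := by
      show ψ (π 1) = ψ 1
      rw [map_one]
    rw [← h2, h1]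
  · let A : Subgroup Ghat := N.comap π
    have hAidx : A.index = N.index := Subgroup.index_comap_of_surjective N hπsurj
    have hRN : ∀ b : Nhat, R (b : Ghat) = (1 : ℂ) • (1 : Module.End ℂ (Fin k → ℂ)) := by
      have hcon : ∑ a : Nhat, (starRingEnd ℂ) ((fun _ : Nhat => (1 : ℂ)) a) * R.character a
          ≠ 0 := by
        have h1 : ∀ a : Nhat, R.character (a : Ghat) = (k : ℂ) := by
          intro a
          have h2 := hβN a 1
          rw [mul_one] at h2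
          rw [h2, hβ1]
        simp only [map_one, one_mul]
        rw [Finset.sum_congr rfl (fun a _ => h1 a), Finset.sum_const, Finset.card_univ,
          nsmul_eq_mul]
        have hc0 : Fintype.card Nhat ≠ 0 := Fintype.card_ne_zero
        exact_mod_cast Nat.mul_ne_zero hc0 hk0
      exact Cfsg.Agent.Helper2.Ito.scalar_of_invariant_linear Nhat R hRi (fun _ => 1)
        isCharacter_one rfl (fun _ _ => rfl) hcon
    have hA : ∀ a ∈ A, ∃ c : ℂ, R a = c • (1 : Module.End ℂ (Fin k → ℂ)) := by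
      intro a ha
      let n : N := ⟨π a, ha⟩
      let c : Ghat := (j n)⁻¹ * a
      have hcentral : ∀ y : Ghat, c * y = y * c := by
        intro y
        obtain ⟨z, hz, hza⟩ := a.2
        have h1 : (((Xu n)⁻¹ * (a : G × (Module.End ℂ (Fin d → ℂ))ˣ).2 :
            (Module.End ℂ (Fin d → ℂ))ˣ) : Module.End ℂ (Fin d → ℂ))
            = ((z : ℂˣ) : ℂ) • (1 : Module.End ℂ (Fin d → ℂ)) := by
          rw [Units.val_mul, hza]
          have h2 : X (a : G × (Module.End ℂ (Fin d → ℂ))ˣ).1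
              = ((Xu n : (Module.End ℂ (Fin d → ℂ))ˣ) : Module.End ℂ (Fin d → ℂ)) :=
            (hXu n).symm
          rw [h2, mul_smul_comm, Units.inv_mul]
        apply Subtype.ext
        refine Prod.ext ?_ (Units.ext ?_)
        · show ((n : G))⁻¹ * (a : G × (Module.End ℂ (Fin d → ℂ))ˣ).1
              * (y : G × (Module.End ℂ (Fin d → ℂ))ˣ).1
            = (y : G × (Module.End ℂ (Fin d → ℂ))ˣ).1
              * (((n : G))⁻¹ * (a : G × (Module.End ℂ (Fin d → ℂ))ˣ).1)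
          have h3 : (n : G) = (a : G × (Module.End ℂ (Fin d → ℂ))ˣ).1 := rfl
          rw [h3]
          group
        · show (((Xu n)⁻¹ * (a : G × (Module.End ℂ (Fin d → ℂ))ˣ).2
              * (y : G × (Module.End ℂ (Fin d → ℂ))ˣ).2 : (Module.End ℂ (Fin d → ℂ))ˣ) :
                Module.End ℂ (Fin d → ℂ))
            = (((y : G × (Module.End ℂ (Fin d → ℂ))ˣ).2
              * ((Xu n)⁻¹ * (a : G × (Module.End ℂ (Fin d → ℂ))ˣ).2) :
                (Module.End ℂ (Fin d → ℂ))ˣ) : Module.End ℂ (Fin d → ℂ))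
          rw [Units.val_mul, Units.val_mul ((y : G × (Module.End ℂ (Fin d → ℂ))ˣ).2), h1,
            smul_mul_assoc, one_mul, mul_smul_comm, mul_one]
      have hRc : ∀ y : Ghat, R c ∘ₗ R y = R y ∘ₗ R c := by
        intro y
        show R c * R y = R y * R c
        rw [← map_mul, ← map_mul, hcentral y]
      obtain ⟨s, hs⟩ := schur_scalar R hRi (R c) hRc
      refine ⟨s, ?_⟩
      have h1 : a = j n * c := by
        show a = j n * ((j n)⁻¹ * a)
        rw [mul_inv_cancel_left]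
      have h2 : R (j n) = (1 : ℂ) • (1 : Module.End ℂ (Fin k → ℂ)) := hRN ⟨j n, ⟨n, rfl⟩⟩
      rw [h1, map_mul, h2, hs, one_smul, one_mul]
      rfl
    have h3 := Cfsg.Agent.Helper2.Ito.degree_dvd_index_of_scalar R hRi A hA
    rw [Module.finrank_fin_fun, hAidx] at h3
    exact h3

end Cfsg.Agent.Helper2.Proj
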