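import Mathlib
import Cfsg.Prelude.Def_Characters
import Cfsg.Prelude.Def_Blocks
import Cfsg.Prelude.Def_Transfer
import Cfsg.Prelude.Def_CharExt
import Cfsg.Agent.Helper2.NPC2
import Cfsg.Agent.S0887
import Cfsg.Agent.S0862
import Cfsg.Agent.Helper2.ClsSep

namespace Cfsg.Agent.Helper2.NPC

open Cfsg.Agent.Lead

universe u

theorem classInner_multiset {A : Type u} [Group A] [Fintype A]
    (m : Multiset (Cfsg.IrrCharacter A)) (θ : Cfsg.IrrCharacter A) :
    Cfsg.classInner (m.map (fun ψ : Cfsg.IrrCharacter A => (ψ : A → ℂ))).sum (θ : A → ℂ)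
      = (m.count θ : ℂ) := by
  classical
  induction m using Multiset.induction_on with
  | empty => simp [classInner_zero_left]
  | cons ψ m ih =>
    rw [Multiset.map_cons, Multiset.sum_cons, classInner_add_left, ih, classInner_irr,
      Multiset.count_cons]
    by_cases h : ψ = θ
    · rw [if_pos h, if_pos h.symm]; push_cast; ring
    · rw [if_neg h, if_neg (Ne.symm h)]; push_cast; ring

theorem multiset_sum_one {A : Type u} [Group A] [Finite A]
    (m : Multiset (Cfsg.IrrCharacter A)) :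
    (m.map (fun ψ : Cfsg.IrrCharacter A => (ψ : A → ℂ))).sum 1
      = (((m.map (fun ψ : Cfsg.IrrCharacter A => Cfsg.charDegree (ψ : A → ℂ))).sum : ℕ) : ℂ) := by
  induction m using Multiset.induction_on with
  | empty => simp
  | cons ψ m ih =>
    obtain ⟨K, -, -, -, -, hd1, -⟩ := Cfsg.Agent.Helper2.CharKer.exists_ker ψ
    rw [Multiset.map_cons, Multiset.sum_cons, Pi.add_apply, ih, Multiset.map_cons,
      Multiset.sum_cons, hd1]
    push_cast
    ring

/-- restriction of a p'-degree irreducible character to a normal subgroup of p-power index -/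
theorem res_irr_of_coprime {G : Type u} [Group G] [Finite G] (p : ℕ) [hp : Fact p.Prime]
    (N : Subgroup G) [hN : N.Normal] (hpg : IsPGroup p (G ⧸ N)) (χ : Cfsg.IrrCharacter G)
    (hd : ¬ p ∣ Cfsg.charDegree (χ : G → ℂ)) :
    Cfsg.IsIrrCharacter N (fun n : N => (χ : G → ℂ) n) := by
  classical
  haveI : Fintype G := Fintype.ofFinite G
  haveI : Fintype N := Fintype.ofFinite N
  obtain ⟨k, hk⟩ := IsPGroup.iff_card.mp hpg
  have hidx : N.index = p ^ k := by rw [Subgroup.index_eq_card]; exact hk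
  have hχc := isCharacter_of_isIrrCharacter χ.2
  have hres : Cfsg.IsCharacter N (fun n : N => (χ : G → ℂ) n) := isCharacter_res N hχc
  obtain ⟨m, hm⟩ := exists_multiset_irr hres
  obtain ⟨KG, -, -, -, hcpos, hc1, -⟩ := Cfsg.Agent.Helper2.CharKer.exists_ker χ
  have hm0 : m ≠ 0 := by
    intro h0
    rw [h0] at hm
    have h1 := congrFun hm 1
    simp only [Multiset.map_zero, Multiset.sum_zero, Pi.zero_apply] at h1
    exact Cfsg.Agent.Helper2.ClsSep.irr_one_ne_zero χ.2 (by simpa using h1)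
  obtain ⟨θ, hθm⟩ := Multiset.exists_mem_of_ne_zero hm0
  have hcon : Cfsg.classInner (fun n : N => (χ : G → ℂ) n) (θ : N → ℂ) ≠ 0 := by
    rw [hm, classInner_multiset]
    exact_mod_cast (Multiset.count_pos.mpr hθm).ne'
  obtain ⟨KN, -, -, -, hdpos, hd1', -⟩ := Cfsg.Agent.Helper2.CharKer.exists_ker θ
  obtain ⟨hdvd, hquot⟩ :=
    Cfsg.Agent.S0887.result N (χ : G → ℂ) χ.2 (θ : N → ℂ) θ.2 hcon _ _ hc1 hd1'
  have hcd : Cfsg.charDegree (χ : G → ℂ) / Cfsg.charDegree (θ : N → ℂ) = 1 := by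
    rw [hidx] at hquot
    obtain ⟨i, hi, hi2⟩ := (Nat.dvd_prime_pow hp.out).mp hquot
    rcases Nat.eq_zero_or_pos i with h0 | hpos
    · rw [hi2, h0, pow_zero]
    · exfalso
      apply hd
      have h1 : p ∣ Cfsg.charDegree (χ : G → ℂ) / Cfsg.charDegree (θ : N → ℂ) := by
        rw [hi2]; exact dvd_pow_self p hpos.ne'
      exact h1.trans (Nat.div_dvd_of_dvd hdvd)
  have hceq : Cfsg.charDegree (χ : G → ℂ) = Cfsg.charDegree (θ : N → ℂ) := by
    have h1 := Nat.div_mul_cancel hdvd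
    rw [hcd, one_mul] at h1
    exact h1.symm
  obtain ⟨m', rfl⟩ := Multiset.exists_cons_of_mem hθm
  have hval := congrFun hm 1
  rw [Multiset.map_cons, Multiset.sum_cons, Pi.add_apply, multiset_sum_one, hd1'] at hval
  have hval' : (χ : G → ℂ) 1 = (Cfsg.charDegree (θ : N → ℂ) : ℂ)
      + (((m'.map (fun ψ : Cfsg.IrrCharacter N => Cfsg.charDegree (ψ : N → ℂ))).sum : ℕ) : ℂ) := by
    simpa using hval
  rw [hc1, hceq] at hval'
  have hS : (m'.map (fun ψ : Cfsg.IrrCharacter N => Cfsg.charDegree (ψ : N → ℂ))).sum = 0 := by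
    have h1 : (((m'.map (fun ψ : Cfsg.IrrCharacter N => Cfsg.charDegree (ψ : N → ℂ))).sum : ℕ) : ℂ)
        = 0 := by linear_combination -hval'
    exact_mod_cast h1
  have hm'0 : m' = 0 := by
    by_contra hne
    obtain ⟨ψ, hψ⟩ := Multiset.exists_mem_of_ne_zero hne
    have h1 := (Multiset.sum_eq_zero_iff.mp hS) (Cfsg.charDegree (ψ : N → ℂ))
      (Multiset.mem_map_of_mem _ hψ)
    obtain ⟨Kψ, -, -, -, hψpos, -, -⟩ := Cfsg.Agent.Helper2.CharKer.exists_ker ψ
    omega
  rw [hm'0] at hm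
  have hfin : (fun n : N => (χ : G → ℂ) n) = (θ : N → ℂ) := by
    rw [hm]; simp
  rw [hfin]
  exact θ.2

/-- linear characters: powers -/
theorem linear_pow {A : Type u} [Group A] (mu : A → ℂ) (hmu : Cfsg.IsCharacter A mu)
    (h1 : mu 1 = 1) (a : A) (k : ℕ) : mu (a ^ k) = mu a ^ k := by
  have hmul := isCharacter_linear_mul hmu h1
  induction k with
  | zero => rw [pow_zero, pow_zero, h1]
  | succ k ih => rw [pow_succ, hmul, ih, pow_succ]

theorem pow_index_mem {G : Type u} [Group G] [Finite G] (N : Subgroup G) [hN : N.Normal]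
    (g : G) : g ^ N.index ∈ N := by
  rw [← QuotientGroup.eq_one_iff, QuotientGroup.mk_pow, Subgroup.index_eq_card]
  exact pow_card_eq_one'

/-- two p'-degree irreducible characters with p'-determinantal order and equal restriction
to a normal subgroup of p-power index coincide -/
theorem ext_unique {G : Type u} [Group G] [Finite G] (p : ℕ) [hp : Fact p.Prime]
    (N : Subgroup G) [hN : N.Normal] (hpg : IsPGroup p (G ⧸ N)) (χ χ' : Cfsg.IrrCharacter G)
    (hres : ∀ n : N, (χ : G → ℂ) n = (χ' : G → ℂ) n)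
    (hd : ¬ p ∣ Cfsg.charDegree (χ : G → ℂ))
    (ho : ¬ p ∣ Cfsg.detOrder (χ : G → ℂ)) (ho' : ¬ p ∣ Cfsg.detOrder (χ' : G → ℂ)) :
    χ = χ' := by
  classical
  obtain ⟨k, hk⟩ := IsPGroup.iff_card.mp hpg
  have hidx : N.index = p ^ k := by rw [Subgroup.index_eq_card]; exact hk
  have hθ := res_irr_of_coprime p N hpg χ hd
  obtain ⟨KG, -, -, -, hcpos, hc1, -⟩ := Cfsg.Agent.Helper2.CharKer.exists_ker χ
  have hcop : Nat.Coprime N.index (Cfsg.charDegree (χ : G → ℂ)) := by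
    rw [hidx]
    exact Nat.Coprime.pow_left k ((Nat.Prime.coprime_iff_not_dvd hp.out).mpr hd)
  obtain ⟨hμc, hμ1⟩ := Cfsg.Agent.Helper2.DetExt.detChar_linear (χ : G → ℂ) χ.2
  obtain ⟨hμc', hμ1'⟩ := Cfsg.Agent.Helper2.DetExt.detChar_linear (χ' : G → ℂ) χ'.2
  have hμN : ∀ n : N, Cfsg.detChar (χ : G → ℂ) n
      = Cfsg.detChar (fun n : N => (χ : G → ℂ) n) n :=
    fun n => Cfsg.Agent.Helper2.DetExt.detChar_res N (χ : G → ℂ) χ.2 _ hθ (fun _ => rfl) n
  have hμN' : ∀ n : N, Cfsg.detChar (χ' : G → ℂ) n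
      = Cfsg.detChar (fun n : N => (χ : G → ℂ) n) n :=
    fun n => Cfsg.Agent.Helper2.DetExt.detChar_res N (χ' : G → ℂ) χ'.2 _ hθ
      (fun n => (hres n).symm) n
  have huniq := Cfsg.Agent.S0862.result N (fun n : N => (χ : G → ℂ) n) hθ
    (Cfsg.charDegree (χ : G → ℂ)) hc1 hcop ⟨(χ : G → ℂ), χ.2, fun _ => rfl⟩
    (Cfsg.detChar (χ : G → ℂ)) ⟨hμc, hμ1⟩ hμN
  have hdet : Cfsg.detChar (χ' : G → ℂ) = Cfsg.detChar (χ : G → ℂ) := by
    funext g
    set a := Cfsg.detChar (χ : G → ℂ) g with ha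
    set b := Cfsg.detChar (χ' : G → ℂ) g with hb
    have hgN : g ^ p ^ k ∈ N := by rw [← hidx]; exact pow_index_mem N g
    have hab : a ^ p ^ k = b ^ p ^ k := by
      rw [ha, hb, ← linear_pow _ hμc hμ1, ← linear_pow _ hμc' hμ1']
      have h1 := hμN ⟨g ^ p ^ k, hgN⟩
      have h2 := hμN' ⟨g ^ p ^ k, hgN⟩
      exact h1.trans h2.symm
    have hao : a ^ Cfsg.detOrder (χ : G → ℂ) = 1 := by
      have := congrFun (pow_orderOf_eq_one (Cfsg.detChar (χ : G → ℂ))) g
      exact this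
    have hbo : b ^ Cfsg.detOrder (χ' : G → ℂ) = 1 := by
      have := congrFun (pow_orderOf_eq_one (Cfsg.detChar (χ' : G → ℂ))) g
      exact this
    have ho0 : Cfsg.detOrder (χ : G → ℂ) ≠ 0 := fun h => ho (by rw [h]; exact dvd_zero p)
    have ha0 : a ≠ 0 := by
      intro h
      rw [h, zero_pow ho0] at hao
      exact zero_ne_one hao
    set M := Cfsg.detOrder (χ : G → ℂ) * Cfsg.detOrder (χ' : G → ℂ) with hM
    have haM : a ^ M = 1 := by rw [hM, pow_mul, hao, one_pow]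
    have hbM : b ^ M = 1 := by rw [hM, mul_comm, pow_mul, hbo, one_pow]
    have hq1 : (b / a) ^ p ^ k = 1 := by
      rw [div_pow, hab, div_self]
      rw [← hab]; exact pow_ne_zero _ ha0
    have hq2 : (b / a) ^ M = 1 := by rw [div_pow, haM, hbM, div_one]
    have hgcd : Nat.gcd (p ^ k) M = 1 := by
      apply Nat.Coprime.pow_left
      rw [hM]
      exact Nat.Coprime.mul_right ((Nat.Prime.coprime_iff_not_dvd hp.out).mpr ho)
        ((Nat.Prime.coprime_iff_not_dvd hp.out).mpr ho')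
    have hq : (b / a) ^ Nat.gcd (p ^ k) M = 1 := pow_gcd_eq_one.mpr ⟨hq1, hq2⟩
    rw [hgcd, pow_one] at hq
    exact (div_eq_one_iff_eq ha0).mp hq
  have h1 := huniq.unique ⟨χ.2, fun _ => rfl, rfl⟩ ⟨χ'.2, fun n => (hres n).symm, hdet⟩
  exact Subtype.ext h1

end Cfsg.Agent.Helper2.NPC
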