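import Mathlib
import Cfsg.Agent.Lead.CharCore5
import Cfsg.Agent.Lead.CharLin2
import Cfsg.Agent.Helper2.NPC3

/-! Galois-conjugate AM-GM for character values (via resultants with cyclotomic polynomials). -/

namespace Cfsg.Agent.Helper2.GalAM

open Polynomial

universe u

/-- vanishing at one primitive root implies vanishing at all -/
theorem aeval_primitive_eq_zero (F : ℤ[X]) (n : ℕ) (hn : 0 < n) {ζ ω : ℂ}
    (hζ : IsPrimitiveRoot ζ n) (hω : IsPrimitiveRoot ω n) (h : aeval ζ F = 0) :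
    aeval ω F = 0 := by
  have h1 : cyclotomic n ℤ = minpoly ℤ ζ := cyclotomic_eq_minpoly hζ hn
  have h2 : minpoly ℤ ζ ∣ F := minpoly.isIntegrallyClosed_dvd (hζ.isIntegral hn) h
  rw [← h1] at h2
  obtain ⟨q, rfl⟩ := h2
  have h3 : aeval ω (cyclotomic n ℤ) = 0 := by
    rw [cyclotomic_eq_minpoly hω hn]; exact minpoly.aeval ℤ ω
  rw [map_mul, h3, zero_mul]

/-- the product of the values at all primitive roots is an integer -/
theorem prod_primitive_int (F : ℤ[X]) (n : ℕ) (hn : 0 < n) :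
    ∃ z : ℤ, ∏ ω ∈ primitiveRoots n ℂ, aeval ω F = (z : ℂ) := by
  have hsplit : (cyclotomic n ℂ).Splits := IsAlgClosed.splits _
  have hres := resultant_eq_prod_eval (cyclotomic n ℂ) (F.map (Int.castRingHom ℂ)) F.natDegree
    natDegree_map_le hsplit
  have hmonic : (cyclotomic n ℂ).leadingCoeff = 1 := (cyclotomic.monic n ℂ).leadingCoeff
  haveI : NeZero ((n : ℕ) : ℂ) := ⟨by exact_mod_cast hn.ne'⟩
  have hroots : (cyclotomic n ℂ).roots = (primitiveRoots n ℂ).val :=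
    cyclotomic.roots_eq_primitiveRoots_val
  rw [hmonic, one_pow, one_mul, hroots] at hres
  have hmap : cyclotomic n ℂ = (cyclotomic n ℤ).map (Int.castRingHom ℂ) :=
    (map_cyclotomic_int n ℂ).symm
  rw [hmap, resultant_map_map] at hres
  refine ⟨(cyclotomic n ℤ).resultant F
    (map (Int.castRingHom ℂ) (cyclotomic n ℤ)).natDegree F.natDegree, ?_⟩
  rw [Finset.prod_eq_multiset_prod]
  have hev : (fun ω : ℂ => aeval ω F) = (fun x => eval x (map (Int.castRingHom ℂ) F)) := by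
    funext ω
    rw [eval_map, aeval_def]
    rfl
  rw [hev]
  exact hres.symm

/-- AM-GM over the Galois conjugates -/
theorem sum_norm_sq_ge (F : ℤ[X]) (n : ℕ) (hn : 0 < n) {ζ : ℂ} (hζ : IsPrimitiveRoot ζ n)
    (h : aeval ζ F ≠ 0) :
    (Nat.totient n : ℝ) ≤ ∑ ω ∈ primitiveRoots n ℂ, ‖aeval ω F‖ ^ 2 := by
  obtain ⟨z, hz⟩ := prod_primitive_int F n hn
  have hne : ∀ ω ∈ primitiveRoots n ℂ, aeval ω F ≠ 0 := by
    intro ω hω h0
    exact h (aeval_primitive_eq_zero F n hn ((mem_primitiveRoots hn).mp hω) hζ h0)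
  have hz0 : z ≠ 0 := by
    intro h0
    rw [h0, Int.cast_zero, Finset.prod_eq_zero_iff] at hz
    obtain ⟨ω, hω, h1⟩ := hz
    exact hne ω hω h1
  have hprod : (1 : ℝ) ≤ ∏ ω ∈ primitiveRoots n ℂ, ‖aeval ω F‖ ^ 2 := by
    rw [Finset.prod_pow, ← norm_prod, hz, Complex.norm_intCast]
    have h1 : (1 : ℝ) ≤ |(z : ℝ)| := by exact_mod_cast Int.one_le_abs hz0
    nlinarith [abs_nonneg (z : ℝ)]
  have hcard : (primitiveRoots n ℂ).card = Nat.totient n := hζ.card_primitiveRoots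
  have hpos : 0 < Nat.totient n := Nat.totient_pos.mpr hn
  have hposR : (0 : ℝ) < (Nat.totient n : ℝ) := by exact_mod_cast hpos
  have am := Real.geom_mean_le_arith_mean (primitiveRoots n ℂ) (fun _ => (1 : ℝ))
    (fun ω => ‖aeval ω F‖ ^ 2) (fun _ _ => zero_le_one)
    (by rw [Finset.sum_const, hcard, nsmul_eq_mul, mul_one]; exact hposR)
    (fun _ _ => by positivity)
  simp only [Real.rpow_one, Finset.sum_const, one_mul, nsmul_eq_mul, mul_one, hcard] at am
  have h1 : (1 : ℝ) ≤ (∏ ω ∈ primitiveRoots n ℂ, ‖aeval ω F‖ ^ 2) ^ ((Nat.totient n : ℝ))⁻¹ :=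
    Real.one_le_rpow hprod (by positivity)
  have h2 := le_trans h1 am
  rwa [le_div_iff₀ hposR, one_mul] at h2

theorem sum_primitive_eq (n : ℕ) (hn : 0 < n) {ζ : ℂ} (hζ : IsPrimitiveRoot ζ n) (f : ℂ → ℝ) :
    ∑ ω ∈ primitiveRoots n ℂ, f ω
      = ∑ i ∈ (Finset.range n).filter (fun i => i.Coprime n), f (ζ ^ i) := by
  symm
  apply Finset.sum_bij (fun i _ => ζ ^ i)
  · intro i hi
    rw [Finset.mem_filter] at hi
    exact (mem_primitiveRoots hn).mpr (hζ.pow_of_coprime i hi.2)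
  · intro i hi j hj hij
    rw [Finset.mem_filter, Finset.mem_range] at hi hj
    exact hζ.pow_inj hi.1 hj.1 hij
  · intro ω hω
    haveI : NeZero n := ⟨hn.ne'⟩
    obtain ⟨i, hi, hc, rfl⟩ := (hζ.isPrimitiveRoot_iff).mp ((mem_primitiveRoots hn).mp hω)
    exact ⟨i, Finset.mem_filter.mpr ⟨Finset.mem_range.mpr hi, hc⟩, rfl⟩
  · intros; rfl

/-- character values on powers of `g` are values of an integer polynomial at powers of `ζ` -/
theorem exists_poly {G : Type u} [Group G] [Finite G] {χ : G → ℂ} (hχ : Cfsg.IsCharacter G χ)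
    (g : G) (n : ℕ) (hn : 0 < n) (hg : g ^ n = 1) {ζ : ℂ} (hζ : IsPrimitiveRoot ζ n) :
    ∃ F : ℤ[X], ∀ k : ℕ, χ (g ^ k) = aeval (ζ ^ k) F := by
  classical
  haveI : NeZero n := ⟨hn.ne'⟩
  let C : Subgroup G := Subgroup.zpowers g
  have hC : Cfsg.IsCharacter C (fun x : C => χ x) := Cfsg.Agent.Lead.isCharacter_res C hχ
  obtain ⟨m, hm⟩ := Cfsg.Agent.Lead.exists_multiset_irr hC
  let gC : C := ⟨g, Subgroup.mem_zpowers g⟩
  have hlin : ∀ ψ : Cfsg.IrrCharacter C, (ψ : C → ℂ) 1 = 1 := by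
    intro ψ
    obtain ⟨d, ρ, hi, hρ⟩ := ψ.2
    have := hi
    have hdim : Module.finrank ℂ (Fin d → ℂ) = 1 :=
      Representation.IsIrreducible.finrank_eq_one_of_isMulCommutative ρ
    rw [← hρ, Representation.char_one, hdim, Nat.cast_one]
  have hpow : ∀ (ψ : Cfsg.IrrCharacter C) (k : ℕ), (ψ : C → ℂ) (gC ^ k) = (ψ : C → ℂ) gC ^ k :=
    fun ψ k => Cfsg.Agent.Helper2.NPC.linear_pow _
      (Cfsg.Agent.Lead.isCharacter_of_isIrrCharacter ψ.2) (hlin ψ) gC k
  have hgC : gC ^ n = 1 := Subtype.ext (by simpa using hg)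
  have hroot : ∀ ψ : Cfsg.IrrCharacter C, ∃ j : ℕ, ζ ^ j = (ψ : C → ℂ) gC := by
    intro ψ
    have h1 : (ψ : C → ℂ) gC ^ n = 1 := by rw [← hpow, hgC, hlin]
    obtain ⟨j, -, hj⟩ := hζ.eq_pow_of_pow_eq_one h1
    exact ⟨j, hj⟩
  choose j hj using hroot
  refine ⟨(m.map (fun ψ => (X : ℤ[X]) ^ j ψ)).sum, fun k => ?_⟩
  have h1 : χ (g ^ k) = (fun x : C => χ x) (gC ^ k) := rfl
  rw [h1, hm, Cfsg.Agent.Lead.multiset_irr_sum_apply, map_multiset_sum, Multiset.map_map]
  congr 1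
  refine Multiset.map_congr rfl (fun ψ _ => ?_)
  simp only [Function.comp_apply, map_pow, aeval_X]
  rw [hpow, ← hj, ← pow_mul, ← pow_mul, mul_comm]

/-- the Galois AM-GM inequality for character values -/
theorem sum_pow_ge {G : Type u} [Group G] [Finite G] {χ : G → ℂ} (hχ : Cfsg.IsCharacter G χ)
    (g : G) (n : ℕ) (hn : 0 < n) (hg : g ^ n = 1) (h0 : χ g ≠ 0) :
    (Nat.totient n : ℝ)
      ≤ ∑ i ∈ (Finset.range n).filter (fun i => i.Coprime n), ‖χ (g ^ i)‖ ^ 2 := by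
  have hζ : IsPrimitiveRoot (Complex.exp (2 * Real.pi * Complex.I / n)) n :=
    Complex.isPrimitiveRoot_exp n hn.ne'
  obtain ⟨F, hF⟩ := exists_poly hχ g n hn hg hζ
  have h1 : aeval (Complex.exp (2 * Real.pi * Complex.I / n)) F ≠ 0 := by
    have := hF 1
    rw [pow_one, pow_one] at this
    rw [← this]; exact h0
  have h2 := sum_norm_sq_ge F n hn hζ h1
  rw [sum_primitive_eq n hn hζ (fun ω => ‖aeval ω F‖ ^ 2)] at h2
  refine le_trans h2 (le_of_eq ?_)
  refine Finset.sum_congr rfl (fun i _ => ?_)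
  rw [hF i]

/-- double counting: the sum of `|χ|²` over a power-closed set is at least the number of
nonzeros there -/
theorem sum_norm_sq_ge_card {G : Type u} [Group G] [Fintype G] [DecidableEq G] {χ : G → ℂ}
    (hχ : Cfsg.IsCharacter G χ) (S : Finset G)
    (hS : ∀ g ∈ S, ∀ i : ℕ, i.Coprime (Fintype.card G) → g ^ i ∈ S) :
    ((S.filter (fun g => χ g ≠ 0)).card : ℝ) ≤ ∑ g ∈ S, ‖χ g‖ ^ 2 := by
  classical
  set n := Fintype.card G with hn
  have hnpos : 0 < n := Fintype.card_pos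
  set I := (Finset.range n).filter (fun i => i.Coprime n) with hI
  have hpos : 0 < Nat.totient n := Nat.totient_pos.mpr hnpos
  have hposR : (0 : ℝ) < (Nat.totient n : ℝ) := by exact_mod_cast hpos
  have hIcard : I.card = Nat.totient n := by
    rw [hI, Nat.totient_eq_card_coprime]
    congr 1
    ext i
    simp only [Finset.mem_filter, Nat.coprime_comm]
  have hperm : ∀ i ∈ I, ∑ g ∈ S, ‖χ (g ^ i)‖ ^ 2 = ∑ g ∈ S, ‖χ g‖ ^ 2 := by
    intro i hi
    rw [hI, Finset.mem_filter] at hi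
    have hinj : Function.Injective (fun g : G => g ^ i) := by
      have hc : (Nat.card G).Coprime i := by
        rw [Nat.card_eq_fintype_card]; exact hi.2.symm
      exact (powCoprime hc).injective
    have himg : S.image (fun g : G => g ^ i) = S := by
      apply Finset.eq_of_subset_of_card_le
      · intro x hx
        obtain ⟨g, hg, rfl⟩ := Finset.mem_image.mp hx
        exact hS g hg i hi.2
      · rw [Finset.card_image_of_injective S hinj]
    conv_rhs => rw [← himg]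
    rw [Finset.sum_image (fun a _ b _ hab => hinj hab)]
  have h1 : (Nat.totient n : ℝ) * ∑ g ∈ S, ‖χ g‖ ^ 2 = ∑ g ∈ S, ∑ i ∈ I, ‖χ (g ^ i)‖ ^ 2 := by
    rw [Finset.sum_comm, Finset.sum_congr rfl hperm, Finset.sum_const, hIcard, nsmul_eq_mul]
  have h2 : ∀ g ∈ S, (if χ g ≠ 0 then (Nat.totient n : ℝ) else 0) ≤ ∑ i ∈ I, ‖χ (g ^ i)‖ ^ 2 := by
    intro g _
    by_cases h : χ g ≠ 0
    · rw [if_pos h]
      exact sum_pow_ge hχ g n hnpos (by rw [hn]; exact pow_card_eq_one) h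
    · rw [if_neg h]
      exact Finset.sum_nonneg (fun _ _ => by positivity)
  have h3 := Finset.sum_le_sum h2
  rw [← h1, ← Finset.sum_filter, Finset.sum_const, nsmul_eq_mul] at h3
  rw [mul_comm] at h3
  exact le_of_mul_le_mul_left h3 hposR

end Cfsg.Agent.Helper2.GalAM
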