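import Mathlib
import Cfsg.Agent.Helper2.GalAM
import Cfsg.Agent.Helper2.CharN
import Cfsg.Agent.Lead.CharEig
import Cfsg.Agent.Lead.CharCenter

/-! Consequences of the Galois AM-GM inequality. -/

namespace Cfsg.Agent.Helper2.GalAM

open Polynomial

universe u

/-- the sum of `|χ|²` for an irreducible character -/
theorem sum_norm_sq_irr {G : Type u} [Group G] [Fintype G] {χ : G → ℂ}
    (hχ : Cfsg.IsIrrCharacter G χ) : ∑ g : G, ‖χ g‖ ^ 2 = (Fintype.card G : ℝ) := by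
  have h := Cfsg.Agent.Helper2.CharN.sum_mul_conj_irr hχ
  have h2 : ∀ g : G, χ g * (starRingEnd ℂ) (χ g) = ((‖χ g‖ ^ 2 : ℝ) : ℂ) := by
    intro g
    rw [Complex.mul_conj, Complex.normSq_eq_norm_sq]
  simp only [h2] at h
  rw [← Complex.ofReal_sum, Nat.card_eq_fintype_card] at h
  exact_mod_cast h

theorem pow_not_mem {G : Type u} [Group G] [Fintype G] (H : Subgroup G) {g : G} (hg : g ∉ H)
    {i : ℕ} (hi : i.Coprime (Fintype.card G)) : g ^ i ∉ H := by
  intro h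
  have hc : i.Coprime (orderOf g) := Nat.Coprime.coprime_dvd_right (orderOf_dvd_card) hi
  obtain ⟨m, hm⟩ := exists_pow_eq_self_of_coprime hc
  exact hg (hm ▸ H.pow_mem h m)

/-- outside a subgroup, the number of nonzeros of a character is at most the sum of `|χ|²` -/
theorem nonzero_card_le_sum_compl {G : Type u} [Group G] [Fintype G] [DecidableEq G] {χ : G → ℂ}
    (hχ : Cfsg.IsCharacter G χ) (H : Subgroup G) [DecidablePred (· ∈ H)] :
    (((Finset.univ.filter (fun g : G => g ∉ H)).filter (fun g => χ g ≠ 0)).card : ℝ)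
      ≤ ∑ g ∈ Finset.univ.filter (fun g : G => g ∉ H), ‖χ g‖ ^ 2 :=
  sum_norm_sq_ge_card hχ _ (fun g hg i hi => by
    rw [Finset.mem_filter] at hg ⊢
    exact ⟨Finset.mem_univ _, pow_not_mem H hg.2 hi⟩)

/-- the centre of a character is closed under powers -/
theorem center_pow_closed {G : Type u} [Group G] [Finite G] {χ : G → ℂ}
    (hχ : Cfsg.IsIrrCharacter G χ) (g : G) (m : ℕ) (h : ‖χ g‖ = ‖χ 1‖) :
    ‖χ (g ^ m)‖ = ‖χ 1‖ := by
  obtain ⟨n, ρ, hi, rfl⟩ := hχ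
  have hnt : Nontrivial (Fin n → ℂ) := ((Cfsg.Agent.Lead.isIrreducible_iff ρ).mp hi).1
  have hpos : 0 < Module.finrank ℂ (Fin n → ℂ) := Module.finrank_pos
  rw [Representation.char_one, Complex.norm_natCast] at h ⊢
  set s := (ρ g).charpoly.roots with hs
  have hcard : s.card = Module.finrank ℂ (Fin n → ℂ) := Cfsg.Agent.Lead.charpoly_roots_card ρ g
  have hsum : ρ.character g = s.sum := Cfsg.Agent.Lead.character_eq_sum_roots ρ g
  have hn1 : ∀ μ ∈ s, ‖μ‖ = 1 := fun μ hμ => Cfsg.Agent.Lead.charpoly_root_norm ρ g hμ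
  obtain ⟨ω, hω⟩ := Cfsg.Agent.Lead.multiset_unit_norm_sum_eq_card hn1
    (by rw [← hsum, hcard]; exact h) (by rw [hcard]; exact hpos)
  have hsc : ρ g = ω • (LinearMap.id : (Fin n → ℂ) →ₗ[ℂ] (Fin n → ℂ)) :=
    Cfsg.Agent.Lead.rep_eq_smul_id_of_roots ρ g ω hω
  have hωn : ‖ω‖ = 1 := by
    obtain ⟨μ, hμ⟩ := Multiset.card_pos_iff_exists_mem.mp (by rw [hcard]; exact hpos : 0 < s.card)
    rw [← hω μ hμ]; exact hn1 μ hμ
  have hpow : ρ (g ^ m) = (ω ^ m) • (LinearMap.id : (Fin n → ℂ) →ₗ[ℂ] (Fin n → ℂ)) := by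
    rw [map_pow, hsc]
    have : (LinearMap.id : (Fin n → ℂ) →ₗ[ℂ] (Fin n → ℂ)) = 1 := rfl
    rw [this, _root_.smul_pow, one_pow]
  have hch : ρ.character (g ^ m) = ω ^ m * (Module.finrank ℂ (Fin n → ℂ) : ℂ) := by
    show LinearMap.trace ℂ _ (ρ (g ^ m)) = _
    rw [hpow, map_smul, LinearMap.trace_id, smul_eq_mul]
  rw [hch, norm_mul, norm_pow, hωn, one_pow, one_mul, Complex.norm_natCast]

/-- a root of an integer polynomial at a primitive root: divisibility by the cyclotomic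
polynomial -/
theorem cyclotomic_dvd (F : ℤ[X]) (n : ℕ) (hn : 0 < n) {ζ : ℂ}
    (hζ : IsPrimitiveRoot ζ n) (h : aeval ζ F = 0) : cyclotomic n ℤ ∣ F := by
  rw [cyclotomic_eq_minpoly hζ hn]
  exact minpoly.isIntegrallyClosed_dvd (hζ.isIntegral hn) h

/-- a character vanishing at an element of order `p^j` has degree divisible by `p` -/
theorem dvd_degree_of_vanish {G : Type u} [Group G] [Finite G] (p : ℕ) [hp : Fact p.Prime]
    {χ : G → ℂ} (hχ : Cfsg.IsCharacter G χ) (g : G) (j : ℕ) (hg : orderOf g = p ^ (j + 1))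
    (h0 : χ g = 0) : ∃ z : ℤ, χ 1 = ((p : ℤ) * z : ℤ) := by
  have hn : 0 < p ^ (j + 1) := pow_pos hp.out.pos _
  have hζ : IsPrimitiveRoot (Complex.exp (2 * Real.pi * Complex.I / (p ^ (j + 1) : ℕ)))
      (p ^ (j + 1)) := Complex.isPrimitiveRoot_exp _ hn.ne'
  obtain ⟨F, hF⟩ := exists_poly hχ g (p ^ (j + 1)) hn (by rw [← hg]; exact pow_orderOf_eq_one g) hζ
  have h1 : aeval (Complex.exp (2 * Real.pi * Complex.I / (p ^ (j + 1) : ℕ))) F = 0 := by
    have := hF 1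
    rw [pow_one, pow_one] at this
    rw [← this]; exact h0
  obtain ⟨q, hq⟩ := cyclotomic_dvd F _ hn hζ h1
  have h2 := hF (p ^ (j + 1))
  rw [hζ.pow_eq_one, ← hg, pow_orderOf_eq_one] at h2
  refine ⟨eval 1 q, ?_⟩
  rw [h2, hq, map_mul]
  have e1 : aeval (1 : ℂ) (cyclotomic (p ^ (j + 1)) ℤ) = ((p : ℤ) : ℂ) := by
    rw [aeval_def, eval₂_eq_eval_map, map_cyclotomic, eval_one_cyclotomic_prime_pow]
    simp
  have e2 : aeval (1 : ℂ) q = ((eval 1 q : ℤ) : ℂ) := by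
    rw [aeval_def, eval₂_eq_eval_map, Polynomial.eval_one_map]
    rfl
  rw [e1, e2]
  push_cast
  ring

end Cfsg.Agent.Helper2.GalAM
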