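import Mathlib
import Cfsg.Agent.Lead.CharCore6
import Cfsg.Agent.Lead.IndFun2
import Cfsg.Agent.Lead.CharConj
import Cfsg.Agent.Lead.CharCenter
import Cfsg.Agent.S0146
import Cfsg.Agent.Helper2.CharKer
import Cfsg.Agent.Helper2.GalAM2

/-! Transitivity of induction and tools for monomial characters. -/

namespace Cfsg.Agent.Helper2.Mono

open Cfsg.Agent.Lead

universe u

/-- transitivity of induction -/
theorem indFun_trans {G : Type u} [Group G] [Fintype G] (T : Subgroup G) [Fintype T]
    (S : Subgroup T) (η : S → ℂ) :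
    Cfsg.indFun T (Cfsg.indFun S η)
      = Cfsg.indFun (S.map T.subtype)
          (fun y => η ((S.equivMapOfInjective T.subtype T.subtype_injective).symm y)) := by
  classical
  haveI : Fintype S := Fintype.ofFinite S
  haveI : Fintype (S.map T.subtype) := Fintype.ofFinite _
  set e := S.equivMapOfInjective T.subtype T.subtype_injective with he
  have hcf1 := indFun_isClassFunction T (Cfsg.indFun S η)
  have hcf2 := indFun_isClassFunction (S.map T.subtype) (fun y => η (e.symm y))
  have key : ∀ χ : Cfsg.IrrCharacter G,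
      Cfsg.classInner (Cfsg.indFun T (Cfsg.indFun S η)) (χ : G → ℂ)
        = Cfsg.classInner (Cfsg.indFun (S.map T.subtype) (fun y => η (e.symm y))) (χ : G → ℂ) := by
    intro χ
    have hclT : Cfsg.IsClassFunction T (fun t : T => (χ : G → ℂ) t) :=
      isCharacter_isClassFunction (isCharacter_res T (isCharacter_of_isIrrCharacter χ.2))
    rw [Cfsg.Agent.S0146.result T (Cfsg.indFun S η) (χ : G → ℂ) (isClassFunction_irr χ),
      Cfsg.Agent.S0146.result S η (fun t : T => (χ : G → ℂ) t) hclT,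
      Cfsg.Agent.S0146.result (S.map T.subtype) (fun y => η (e.symm y)) (χ : G → ℂ)
        (isClassFunction_irr χ)]
    have h1 := classInner_comp_mulEquiv e (fun y => η (e.symm y))
      (fun y : S.map T.subtype => (χ : G → ℂ) y)
    rw [← h1]
    congr 1
    funext s
    simp
  calc Cfsg.indFun T (Cfsg.indFun S η)
      = ∑ᶠ χ : Cfsg.IrrCharacter G,
          Cfsg.classInner (Cfsg.indFun T (Cfsg.indFun S η)) (χ : G → ℂ) • (χ : G → ℂ) :=
        classFunction_eq_finsum _ hcf1
    _ = ∑ᶠ χ : Cfsg.IrrCharacter G,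
          Cfsg.classInner (Cfsg.indFun (S.map T.subtype) (fun y => η (e.symm y))) (χ : G → ℂ)
            • (χ : G → ℂ) := by simp only [key]
    _ = _ := (classFunction_eq_finsum _ hcf2).symm

/-- induction from the whole group -/
theorem indFun_top {G : Type u} [Group G] [Fintype G] (χ : G → ℂ)
    (hχ : Cfsg.IsClassFunction G χ) :
    Cfsg.indFun (⊤ : Subgroup G) (fun h => χ h) = χ := by
  funext g
  rw [indFun_apply]
  have h1 : ∀ x : G, Cfsg.extendByZero ⊤ (fun h : (⊤ : Subgroup G) => χ h) (x⁻¹ * g * x) = χ g := by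
    intro x
    rw [extendByZero_mem _ _ (Subgroup.mem_top _)]
    have := hχ g x⁻¹
    simpa using this
  simp only [h1, Finset.sum_const, Finset.card_univ, nsmul_eq_mul]
  rw [Subgroup.card_top, Nat.card_eq_fintype_card]
  have hG : (Fintype.card G : ℂ) ≠ 0 := by exact_mod_cast Fintype.card_ne_zero
  field_simp

/-- an irreducible character with all commutators in its kernel is linear -/
theorem linear_of_comm_ker {A : Type u} [Group A] [Finite A] {θ : A → ℂ}
    (hθ : Cfsg.IsIrrCharacter A θ) (h : ∀ x y : A, θ (x * y * x⁻¹ * y⁻¹) = θ 1) : θ 1 = 1 := by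
  classical
  haveI : Fintype A := Fintype.ofFinite A
  have hsum := Cfsg.Agent.Helper2.GalAM.sum_norm_sq_irr hθ
  obtain ⟨d, ρ, hi, rfl⟩ := hθ
  have hnt : Nontrivial (Fin d → ℂ) := ((isIrreducible_iff ρ).mp hi).1
  have hcomm : ∀ x y : A, ρ x * ρ y = ρ y * ρ x := by
    intro x y
    have h1 := (Cfsg.Agent.Helper2.CharKer.character_eq_one_iff ρ (x * y * x⁻¹ * y⁻¹)).mp (h x y)
    have h2 : ρ (x * y) = ρ (x * y * x⁻¹ * y⁻¹) * ρ (y * x) := by
      rw [← map_mul]
      congr 1
      group
    rw [h1, one_mul] at h2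
    rw [← map_mul, ← map_mul, h2]
  have hsc : ∀ x : A, ∃ c : ℂ, ρ x = c • LinearMap.id :=
    fun x => schur_scalar ρ hi (ρ x) (fun g => hcomm x g)
  have hnorm : ∀ x : A, ‖ρ.character x‖ ^ 2 = (Module.finrank ℂ (Fin d → ℂ) : ℝ) ^ 2 := by
    intro x
    obtain ⟨c, hc⟩ := hsc x
    have hcc := rep_scalar_norm ρ x c hc
    have hcn : ‖c‖ = 1 := by
      have h3 : ‖c‖ ^ 2 = 1 := by
        have h4 : ((‖c‖ ^ 2 : ℝ) : ℂ) = 1 := by
          rw [← Complex.normSq_eq_norm_sq, ← Complex.mul_conj]; exact hcc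
        exact_mod_cast h4
      exact (pow_eq_one_iff_of_nonneg (norm_nonneg c) (by norm_num)).mp h3
    have hch : ρ.character x = c * (Module.finrank ℂ (Fin d → ℂ) : ℂ) := by
      show LinearMap.trace ℂ _ (ρ x) = _
      rw [hc, map_smul, LinearMap.trace_id, smul_eq_mul]
    rw [hch, norm_mul, hcn, one_mul, Complex.norm_natCast]
  rw [Finset.sum_congr rfl (fun x _ => hnorm x), Finset.sum_const, Finset.card_univ,
    nsmul_eq_mul] at hsum
  have hcard : (0 : ℝ) < (Fintype.card A : ℝ) := by exact_mod_cast Fintype.card_pos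
  have hd2 : (Module.finrank ℂ (Fin d → ℂ) : ℝ) ^ 2 = 1 :=
    mul_left_cancel₀ hcard.ne' (hsum.trans (mul_one _).symm)
  have hd : Module.finrank ℂ (Fin d → ℂ) = 1 := by
    have h5 : (Module.finrank ℂ (Fin d → ℂ)) ^ 2 = 1 := by exact_mod_cast hd2
    exact (Nat.pow_eq_one.mp h5).resolve_right (by norm_num)
  rw [Representation.char_one, hd, Nat.cast_one]

end Cfsg.Agent.Helper2.Mono
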