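import Mathlib
import Cfsg.Agent.Helper2.Mackey
import Cfsg.Agent.Helper2.LinExt
import Cfsg.Agent.Helper2.Mono
import Cfsg.Agent.Helper2.CharN2
import Cfsg.Agent.Helper2.CharN4

/-! Artin's induction theorem. -/

namespace Cfsg.Agent.Helper2.Artin

open Cfsg.Agent.Lead

universe u

variable {G : Type u} [Group G] [Fintype G]

/-- integral combinations of permutation characters of cyclic subgroups -/
def P : Set (G → ℂ) :=
  {f | ∃ a : Subgroup G → ℤ, (∀ H, a H ≠ 0 → IsCyclic H) ∧
      f = ∑ H : Subgroup G, (a H : ℂ) • Cfsg.indFun H (fun _ => 1)}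

theorem P.zero : (0 : G → ℂ) ∈ (P : Set (G → ℂ)) :=
  ⟨fun _ => 0, by simp, by simp⟩

theorem P.add {f g : G → ℂ} (hf : f ∈ (P : Set (G → ℂ))) (hg : g ∈ (P : Set (G → ℂ))) :
    f + g ∈ (P : Set (G → ℂ)) := by
  obtain ⟨a, ha, rfl⟩ := hf
  obtain ⟨b, hb, rfl⟩ := hg
  refine ⟨fun H => a H + b H, ?_, ?_⟩
  · intro H hH
    by_cases h : a H = 0
    · exact hb H (by simpa [h] using hH)
    · exact ha H h
  · rw [← Finset.sum_add_distrib]
    refine Finset.sum_congr rfl (fun H _ => ?_)
    push_cast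
    rw [add_smul]

theorem P.zsmul (n : ℤ) {f : G → ℂ} (hf : f ∈ (P : Set (G → ℂ))) :
    (n : ℂ) • f ∈ (P : Set (G → ℂ)) := by
  obtain ⟨a, ha, rfl⟩ := hf
  refine ⟨fun H => n * a H, ?_, ?_⟩
  · intro H hH
    exact ha H (fun h => hH (by simp [h]))
  · rw [Finset.smul_sum]
    refine Finset.sum_congr rfl (fun H _ => ?_)
    push_cast
    rw [mul_smul]

theorem P.gen {H : Subgroup G} (hH : IsCyclic H) :
    Cfsg.indFun H (fun _ => (1:ℂ)) ∈ (P : Set (G → ℂ)) := by
  classical
  refine ⟨fun U => if U = H then 1 else 0, ?_, ?_⟩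
  · intro U hU
    by_cases h : U = H
    · rw [h]; exact hH
    · simp [h] at hU
  · rw [Finset.sum_eq_single H]
    · simp
    · intro U _ hU; simp [hU]
    · intro h; exact absurd (Finset.mem_univ _) h

theorem P.sum {ι : Type*} (s : Finset ι) (f : ι → G → ℂ)
    (h : ∀ i ∈ s, f i ∈ (P : Set (G → ℂ))) : ∑ i ∈ s, f i ∈ (P : Set (G → ℂ)) := by
  classical
  induction s using Finset.induction_on with
  | empty => simpa using P.zero (G := G)
  | insert i s hi ih =>
    rw [Finset.sum_insert hi]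
    exact P.add (h i (Finset.mem_insert_self i s))
      (ih (fun j hj => h j (Finset.mem_insert_of_mem hj)))

open Classical in
/-- the number of `y` with `⟨y⁻¹ x y⟩ = A` -/
noncomputable def Theta (A : Subgroup G) : G → ℂ :=
  fun x => ((Finset.univ.filter (fun y : G => Subgroup.zpowers (y⁻¹ * x * y) = A)).card : ℂ)

open Classical in
theorem card_smul_perm (A : Subgroup G) :
    (Nat.card A : ℂ) • Cfsg.indFun A (fun _ => (1:ℂ))
      = ∑ B ∈ Finset.univ.filter (fun B : Subgroup G => B ≤ A), Theta B := by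
  funext x
  rw [Pi.smul_apply, Cfsg.Agent.Helper2.Mackey.perm_apply, smul_eq_mul, ← mul_assoc,
    mul_inv_cancel₀ (Nat.cast_ne_zero.mpr Nat.card_pos.ne'), one_mul, Finset.sum_apply]
  simp only [Theta]
  rw [← Nat.cast_sum]
  congr 1
  rw [Finset.card_eq_sum_card_fiberwise (f := fun y => Subgroup.zpowers (y⁻¹ * x * y))
    (t := Finset.univ.filter (fun B : Subgroup G => B ≤ A))]
  · refine Finset.sum_congr rfl (fun B hB => ?_)
    congr 1
    ext y
    simp only [Finset.mem_filter, Finset.mem_univ, true_and]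
    constructor
    · rintro ⟨_, h⟩; exact h
    · intro h
      refine ⟨?_, h⟩
      rw [← Subgroup.zpowers_le, h]
      exact (Finset.mem_filter.mp hB).2
  · intro y hy
    have hy' : y⁻¹ * x * y ∈ A := by simpa using hy
    simpa using hy'

theorem theta_mem : ∀ (n : ℕ) (A : Subgroup G), IsCyclic A → Nat.card A = n →
    Theta A ∈ (P : Set (G → ℂ)) := by
  classical
  intro n
  induction n using Nat.strong_induction_on with
  | _ n ih =>
    intro A hA hn
    have h := card_smul_perm A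
    have hmem : A ∈ Finset.univ.filter (fun B : Subgroup G => B ≤ A) := by simp
    rw [← Finset.add_sum_erase _ _ hmem] at h
    have h2 : Theta A = (Nat.card A : ℂ) • Cfsg.indFun A (fun _ => (1:ℂ))
        + ((-1 : ℤ) : ℂ) • ∑ B ∈ (Finset.univ.filter (fun B : Subgroup G => B ≤ A)).erase A,
            Theta B := by
      rw [h]
      simp
    rw [h2]
    refine P.add ?_ (P.zsmul _ (P.sum _ _ (fun B hB => ?_)))
    · have := P.zsmul (Nat.card A : ℤ) (P.gen hA)
      simpa using this
    · rw [Finset.mem_erase, Finset.mem_filter] at hB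
      obtain ⟨hBA, -, hle⟩ := hB
      have hcard : Nat.card B < Nat.card A := by
        by_contra hcon
        exact hBA (Subgroup.eq_of_le_of_card_ge hle (not_lt.mp hcon))
      haveI := hA
      have hBc : IsCyclic B := by
        have e := Subgroup.subgroupOfEquivOfLe hle
        haveI : IsCyclic (B.subgroupOf A) := inferInstance
        exact isCyclic_of_surjective e e.surjective
      exact ih (Nat.card B) (hn ▸ hcard) B hBc rfl

theorem sum_theta : ∑ A : Subgroup G, Theta A = fun _ : G => (Nat.card G : ℂ) := by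
  classical
  funext x
  rw [Finset.sum_apply]
  simp only [Theta]
  rw [← Nat.cast_sum, Nat.card_eq_fintype_card, ← Finset.card_univ]
  congr 1
  rw [Finset.card_eq_sum_card_fiberwise (f := fun y => Subgroup.zpowers (y⁻¹ * x * y))
    (s := (Finset.univ : Finset G)) (t := (Finset.univ : Finset (Subgroup G)))
    (fun y _ => Finset.mem_univ _)]

theorem card_mem : (fun _ : G => (Nat.card G : ℂ)) ∈ (P : Set (G → ℂ)) := by
  classical
  rw [← sum_theta]
  refine P.sum _ _ (fun A _ => ?_)
  by_cases hA : IsCyclic A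
  · exact theta_mem _ A hA rfl
  · have h0 : Theta A = 0 := by
      funext x
      simp only [Theta, Pi.zero_apply, Nat.cast_eq_zero, Finset.card_eq_zero]
      rw [Finset.filter_eq_empty_iff]
      intro y _ h
      apply hA
      rw [← h]
      infer_instance
    rw [h0]
    exact P.zero

/-- the span in the statement of Artin's theorem -/
def ASpan : Set (G → ℂ) :=
  {f | ∃ l : List ((A : Subgroup G) × ((A →* ℂˣ) × ℤ)), (∀ t ∈ l, IsCyclic t.1) ∧
      f = (l.map fun t => (t.2.2 : ℂ) • Cfsg.indFun t.1 (fun a => (t.2.1 a : ℂ))).sum}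

theorem ASpan.zero : (0 : G → ℂ) ∈ (ASpan : Set (G → ℂ)) :=
  ⟨[], by simp, by simp⟩

theorem ASpan.add {f g : G → ℂ} (hf : f ∈ (ASpan : Set (G → ℂ)))
    (hg : g ∈ (ASpan : Set (G → ℂ))) : f + g ∈ (ASpan : Set (G → ℂ)) := by
  obtain ⟨l₁, h₁, rfl⟩ := hf
  obtain ⟨l₂, h₂, rfl⟩ := hg
  refine ⟨l₁ ++ l₂, ?_, ?_⟩
  · intro t ht
    rcases List.mem_append.mp ht with h | h
    · exact h₁ t h
    · exact h₂ t h
  · rw [List.map_append, List.sum_append]

theorem ASpan.zsmul (n : ℤ) {f : G → ℂ} (hf : f ∈ (ASpan : Set (G → ℂ))) :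
    (n : ℂ) • f ∈ (ASpan : Set (G → ℂ)) := by
  obtain ⟨l, h, rfl⟩ := hf
  refine ⟨l.map (fun t => ⟨t.1, (t.2.1, n * t.2.2)⟩), ?_, ?_⟩
  · intro t ht
    obtain ⟨s, hs, rfl⟩ := List.mem_map.mp ht
    exact h s hs
  · rw [List.map_map, List.smul_sum, List.map_map]
    congr 1
    refine List.map_congr_left (fun t _ => ?_)
    simp only [Function.comp]
    push_cast
    rw [mul_smul]

theorem ASpan.sum {ι : Type*} (s : Finset ι) (f : ι → G → ℂ)
    (h : ∀ i ∈ s, f i ∈ (ASpan : Set (G → ℂ))) : ∑ i ∈ s, f i ∈ (ASpan : Set (G → ℂ)) := by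
  classical
  induction s using Finset.induction_on with
  | empty => simpa using ASpan.zero (G := G)
  | insert i s hi ih =>
    rw [Finset.sum_insert hi]
    exact ASpan.add (h i (Finset.mem_insert_self i s))
      (ih (fun j hj => h j (Finset.mem_insert_of_mem hj)))

theorem indFun_add' (H : Subgroup G) (f g : H → ℂ) :
    Cfsg.indFun H (f + g) = Cfsg.indFun H f + Cfsg.indFun H g := by
  funext x
  rw [Pi.add_apply, indFun_apply, indFun_apply, indFun_apply, ← mul_add, ← Finset.sum_add_distrib]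
  congr 1
  refine Finset.sum_congr rfl (fun y _ => ?_)
  by_cases hy : y⁻¹ * x * y ∈ H
  · rw [extendByZero_mem H _ hy, extendByZero_mem H _ hy, extendByZero_mem H _ hy, Pi.add_apply]
  · rw [extendByZero_not_mem H _ hy, extendByZero_not_mem H _ hy, extendByZero_not_mem H _ hy,
      add_zero]

theorem indFun_zero' (H : Subgroup G) : Cfsg.indFun H (0 : H → ℂ) = 0 := by
  have h := indFun_add' H (0 : H → ℂ) 0
  rw [add_zero] at h
  exact (add_eq_left.mp h.symm)

theorem ind_irr_mem (H : Subgroup G) (hH : IsCyclic H) (ψ : H → ℂ)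
    (hψ : Cfsg.IsIrrCharacter H ψ) : Cfsg.indFun H ψ ∈ (ASpan : Set (G → ℂ)) := by
  have hcomm : ∀ x y : H, x * y = y * x := by
    haveI := hH
    intro x y
    obtain ⟨g, hg⟩ := IsCyclic.exists_generator (α := H)
    obtain ⟨i, rfl⟩ := Subgroup.mem_zpowers_iff.mp (hg x)
    obtain ⟨j, rfl⟩ := Subgroup.mem_zpowers_iff.mp (hg y)
    rw [← zpow_add, ← zpow_add, add_comm]
  have h1 : ψ 1 = 1 := by
    refine Cfsg.Agent.Helper2.Mono.linear_of_comm_ker hψ (fun x y => ?_)
    have : x * y * x⁻¹ * y⁻¹ = 1 := by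
      rw [hcomm x y]; group
    rw [this]
  have hchar : Cfsg.IsCharacter H ψ := isCharacter_of_isIrrCharacter hψ
  refine ⟨[⟨H, (Cfsg.Agent.Helper2.LinExt.toUnitsHom ψ hchar h1, 1)⟩], ?_, ?_⟩
  · intro t ht
    rw [List.mem_singleton] at ht
    rw [ht]
    exact hH
  · simp only [List.map_cons, List.map_nil, List.sum_cons, List.sum_nil, add_zero, Int.cast_one,
      one_smul]
    rfl

theorem ind_char_mem (H : Subgroup G) (hH : IsCyclic H) (ψ : H → ℂ)
    (hψ : Cfsg.IsCharacter H ψ) : Cfsg.indFun H ψ ∈ (ASpan : Set (G → ℂ)) := by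
  obtain ⟨m, rfl⟩ := exists_multiset_irr hψ
  clear hψ
  induction m using Multiset.induction_on with
  | empty =>
    rw [Multiset.map_zero, Multiset.sum_zero, indFun_zero']
    exact ASpan.zero
  | cons a m ih =>
    rw [Multiset.map_cons, Multiset.sum_cons, indFun_add']
    exact ASpan.add (ind_irr_mem H hH _ a.2) ih

theorem artin (χ : G → ℂ) (hχ : Cfsg.IsCharacter G χ) :
    ∃ l : List ((A : Subgroup G) × ((A →* ℂˣ) × ℤ)), (∀ t ∈ l, IsCyclic t.1) ∧
      (Nat.card G : ℂ) • χ
        = (l.map fun t => (t.2.2 : ℂ) • Cfsg.indFun t.1 (fun a => (t.2.1 a : ℂ))).sum := by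
  obtain ⟨a, ha, hsum⟩ := card_mem (G := G)
  have h1 : (Nat.card G : ℂ) • χ = (fun _ : G => (Nat.card G : ℂ)) * χ := by
    funext x
    simp
  have h2 : (Nat.card G : ℂ) • χ ∈ (ASpan : Set (G → ℂ)) := by
    rw [h1, hsum, Finset.sum_mul]
    refine ASpan.sum _ _ (fun H _ => ?_)
    rw [smul_mul_assoc]
    by_cases hH : a H = 0
    · rw [hH]
      simpa using ASpan.zero (G := G)
    · refine ASpan.zsmul _ ?_
      have h3 := Cfsg.Agent.Helper2.CharN.indFun_mul_res H (fun _ => (1:ℂ)) (fun h : H => χ h)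
        (isCharacter_isClassFunction hχ) (fun n => rfl)
      rw [← h3]
      have h4 : ((fun _ : H => (1:ℂ)) * fun h : H => χ h) = fun h : H => χ h := by
        funext h
        simp
      rw [h4]
      exact ind_char_mem H (ha H hH) _ (isCharacter_res H hχ)
  exact h2

end Cfsg.Agent.Helper2.Artin
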