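import Mathlib
import Cfsg.Agent.Helper2.Mono
import Cfsg.Agent.Helper2.CharN2
import Cfsg.Agent.Helper2.Artin
import Cfsg.Agent.S0148

/-! The span of characters induced from `p`-elementary subgroups. -/

namespace Cfsg.Agent.Helper2.Brauer

open Cfsg.Agent.Lead

universe u

theorem isElementary_of_equiv {p : ℕ} {E E' : Type u} [Group E] [Group E'] (e : E ≃* E')
    (h : Cfsg.IsElementary p E) : Cfsg.IsElementary p E' := by
  obtain ⟨x, hx, hcop, k, hk⟩ := h
  refine ⟨e x, ?_, ?_, k, ?_⟩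
  · rw [Subgroup.mem_center_iff] at hx ⊢
    intro g
    obtain ⟨g', rfl⟩ := e.surjective g
    rw [← map_mul, ← map_mul, hx g']
  · rw [MulEquiv.orderOf_eq]
    exact hcop
  · rw [← hk]
    have h1 : Subgroup.zpowers (e x) = (Subgroup.zpowers x).map (e : E →* E') := by
      rw [MonoidHom.map_zpowers]
      rfl
    rw [h1]
    exact Subgroup.index_map_equiv _ e

variable {H : Type u} [Group H] [Fintype H]

/-- integral combinations of characters induced from `p`-elementary subgroups -/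
def BSpan (p : ℕ) : Set (H → ℂ) :=
  {f | ∃ l : List ((E : Subgroup H) × ((E → ℂ) × ℤ)),
      (∀ t ∈ l, Cfsg.IsElementary p t.1 ∧ Cfsg.IsCharacter t.1 t.2.1) ∧
      f = (l.map fun t => (t.2.2 : ℂ) • Cfsg.indFun t.1 t.2.1).sum}

theorem BSpan.zero {p : ℕ} : (0 : H → ℂ) ∈ (BSpan p : Set (H → ℂ)) :=
  ⟨[], by simp, by simp⟩

theorem BSpan.add {p : ℕ} {f g : H → ℂ} (hf : f ∈ (BSpan p : Set (H → ℂ)))
    (hg : g ∈ (BSpan p : Set (H → ℂ))) : f + g ∈ (BSpan p : Set (H → ℂ)) := by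
  obtain ⟨l₁, h₁, rfl⟩ := hf
  obtain ⟨l₂, h₂, rfl⟩ := hg
  refine ⟨l₁ ++ l₂, ?_, ?_⟩
  · intro t ht
    rcases List.mem_append.mp ht with h | h
    · exact h₁ t h
    · exact h₂ t h
  · rw [List.map_append, List.sum_append]

theorem BSpan.zsmul {p : ℕ} (n : ℤ) {f : H → ℂ} (hf : f ∈ (BSpan p : Set (H → ℂ))) :
    (n : ℂ) • f ∈ (BSpan p : Set (H → ℂ)) := by
  obtain ⟨l, h, rfl⟩ := hf
  refine ⟨l.map (fun t => ⟨t.1, (t.2.1, n * t.2.2)⟩), ?_, ?_⟩
  · intro t ht
    obtain ⟨s, hs, rfl⟩ := List.mem_map.mp ht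
    exact h s hs
  · rw [List.map_map, List.smul_sum, List.map_map]
    congr 1
    refine List.map_congr_left (fun t _ => ?_)
    simp only [Function.comp]
    push_cast
    rw [mul_smul]

theorem BSpan.gen {p : ℕ} (E : Subgroup H) (hE : Cfsg.IsElementary p E) (φ : E → ℂ)
    (hφ : Cfsg.IsCharacter E φ) : Cfsg.indFun E φ ∈ (BSpan p : Set (H → ℂ)) := by
  refine ⟨[⟨E, (φ, 1)⟩], ?_, ?_⟩
  · intro t ht
    rw [List.mem_singleton] at ht
    rw [ht]
    exact ⟨hE, hφ⟩
  · simp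

theorem BSpan.sum {p : ℕ} {ι : Type*} (s : Finset ι) (f : ι → H → ℂ)
    (h : ∀ i ∈ s, f i ∈ (BSpan p : Set (H → ℂ))) :
    ∑ i ∈ s, f i ∈ (BSpan p : Set (H → ℂ)) := by
  classical
  induction s using Finset.induction_on with
  | empty => simpa using BSpan.zero (H := H) (p := p)
  | insert i s hi ih =>
    rw [Finset.sum_insert hi]
    exact BSpan.add (h i (Finset.mem_insert_self i s))
      (ih (fun j hj => h j (Finset.mem_insert_of_mem hj)))

theorem BSpan.multiset_sum {p : ℕ} (m : Multiset (H → ℂ))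
    (h : ∀ f ∈ m, f ∈ (BSpan p : Set (H → ℂ))) : m.sum ∈ (BSpan p : Set (H → ℂ)) := by
  induction m using Multiset.induction_on with
  | empty => simpa using BSpan.zero (H := H) (p := p)
  | cons a m ih =>
    rw [Multiset.sum_cons]
    exact BSpan.add (h a (Multiset.mem_cons_self a m))
      (ih (fun f hf => h f (Multiset.mem_cons_of_mem hf)))

theorem BSpan.induction {p : ℕ} (Q : (H → ℂ) → Prop) (h0 : Q 0)
    (hstep : ∀ (E : Subgroup H) (φ : E → ℂ) (c : ℤ) (f : H → ℂ), Cfsg.IsElementary p E →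
      Cfsg.IsCharacter E φ → Q f → Q ((c : ℂ) • Cfsg.indFun E φ + f)) :
    ∀ f ∈ (BSpan p : Set (H → ℂ)), Q f := by
  rintro f ⟨l, hl, rfl⟩
  induction l with
  | nil => simpa using h0
  | cons t l ih =>
    rw [List.map_cons, List.sum_cons]
    have hl' : ∀ s ∈ l, Cfsg.IsElementary p s.1 ∧ Cfsg.IsCharacter s.1 s.2.1 :=
      fun s hs => hl s (List.mem_cons_of_mem _ hs)
    have ht := hl t List.mem_cons_self
    exact hstep t.1 t.2.1 t.2.2 _ ht.1 ht.2 (ih hl')

theorem BSpan.mul_char {p : ℕ} {f χ : H → ℂ} (hf : f ∈ (BSpan p : Set (H → ℂ)))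
    (hχ : Cfsg.IsCharacter H χ) : f * χ ∈ (BSpan p : Set (H → ℂ)) := by
  refine BSpan.induction (p := p) (fun f => f * χ ∈ (BSpan p : Set (H → ℂ))) ?_ ?_ f hf
  · simpa using BSpan.zero (H := H) (p := p)
  · intro E φ c f hE hφ hQ
    show ((c : ℂ) • Cfsg.indFun E φ + f) * χ ∈ (BSpan p : Set (H → ℂ))
    rw [add_mul, smul_mul_assoc]
    refine BSpan.add (BSpan.zsmul c ?_) hQ
    have h3 := Cfsg.Agent.Helper2.CharN.indFun_mul_res E φ (fun h : E => χ h)
      (isCharacter_isClassFunction hχ) (fun n => rfl)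
    rw [← h3]
    exact BSpan.gen E hE _ (isCharacter_mul hφ (isCharacter_res E hχ))

theorem indFun_smul' (T : Subgroup H) (c : ℂ) (f : T → ℂ) :
    Cfsg.indFun T (c • f) = c • Cfsg.indFun T f := by
  funext x
  have key : ∀ y : H, Cfsg.extendByZero T (c • f) y = c * Cfsg.extendByZero T f y := by
    intro y
    by_cases hy : y ∈ T
    · rw [extendByZero_mem T _ hy, extendByZero_mem T _ hy, Pi.smul_apply, smul_eq_mul]
    · rw [extendByZero_not_mem T _ hy, extendByZero_not_mem T _ hy, mul_zero]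
  rw [Pi.smul_apply, indFun_apply, indFun_apply, smul_eq_mul]
  simp only [key]
  rw [← Finset.mul_sum]
  ring

theorem BSpan.ind {p : ℕ} (T : Subgroup H) [Fintype T] {f : T → ℂ}
    (hf : f ∈ (BSpan p : Set (T → ℂ))) : Cfsg.indFun T f ∈ (BSpan p : Set (H → ℂ)) := by
  refine BSpan.induction (p := p) (fun f => Cfsg.indFun T f ∈ (BSpan p : Set (H → ℂ)))
    ?_ ?_ f hf
  · show Cfsg.indFun T (0 : T → ℂ) ∈ (BSpan p : Set (H → ℂ))
    rw [Cfsg.Agent.Helper2.Artin.indFun_zero']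
    exact BSpan.zero
  · intro E φ c f hE hφ hQ
    show Cfsg.indFun T ((c : ℂ) • Cfsg.indFun E φ + f) ∈ (BSpan p : Set (H → ℂ))
    rw [Cfsg.Agent.Helper2.Artin.indFun_add', indFun_smul', Cfsg.Agent.Helper2.Mono.indFun_trans]
    refine BSpan.add (BSpan.zsmul c ?_) hQ
    refine BSpan.gen _ (isElementary_of_equiv
      (E.equivMapOfInjective T.subtype T.subtype_injective) hE) _ ?_
    exact isCharacter_comp
      (E.equivMapOfInjective T.subtype T.subtype_injective).symm.toMonoidHom hφ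

end Cfsg.Agent.Helper2.Brauer
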