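import Mathlib
import Cfsg.Prelude.Def_Characters
import Cfsg.Agent.Lead.CharComm
import Cfsg.Agent.Lead.CharEig
import Cfsg.Agent.Lead.CharOdd
import Cfsg.Agent.Helper2.ClsSep

namespace Cfsg.Agent.Helper2.Conv

open Cfsg.Agent.Lead

universe u

theorem norm_le_degree {G : Type u} [Group G] [Finite G] {χ : G → ℂ}
    (hχ : Cfsg.IsCharacter G χ) (g : G) : ‖χ g‖ ≤ ‖χ 1‖ := by
  obtain ⟨n, ρ, rfl⟩ := hχ
  rw [character_eq_sum_roots ρ g, Representation.char_one, Complex.norm_natCast]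
  have h1 := multiset_norm_sum_le_card (m := (ρ g).charpoly.roots)
    (fun μ hμ => charpoly_root_norm ρ g hμ)
  rw [charpoly_roots_card] at h1
  exact h1

/-- convolution of an irreducible character with itself -/
theorem sum_char_mul_inv {G : Type u} [Group G] [Fintype G] {χ : G → ℂ}
    (hχ : Cfsg.IsIrrCharacter G χ) (g : G) :
    ∑ a : G, χ a * χ (a⁻¹ * g) = (Nat.card G : ℂ) * χ g / χ 1 := by
  classical
  have hchar := isCharacter_of_isIrrCharacter hχ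
  have hcf := isCharacter_isClassFunction hchar
  have hself := classInner_self_of_isIrrCharacter hχ
  have hinv := fun a => isCharacter_inv hchar a
  obtain ⟨n, hn, h1⟩ := isIrrCharacter_one_eq_nat hχ
  obtain ⟨n', ρ, hi, rfl⟩ := hχ
  have hn' : n' = n := by
    rw [Representation.char_one, Module.finrank_fin_fun] at h1
    exact_mod_cast h1
  subst hn'
  set T : Module.End ℂ (Fin n' → ℂ) := ∑ a : G, ρ.character a • ρ a⁻¹ with hT
  have hcomm : ∀ x, T ∘ₗ ρ x = ρ x ∘ₗ T := by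
    intro x
    show T * ρ x = ρ x * T
    rw [hT, Finset.sum_mul, Finset.mul_sum]
    simp only [smul_mul_assoc, mul_smul_comm, ← map_mul]
    symm
    refine Fintype.sum_equiv (MulAut.conj x).toEquiv _ _ (fun a => ?_)
    simp only [MulEquiv.toEquiv_eq_coe, EquivLike.coe_coe, MulAut.conj_apply]
    have h2 := hcf a x
    rw [h2]
    congr 2
    group
  obtain ⟨c, hc⟩ := schur_scalar ρ hi T hcomm
  have htr : LinearMap.trace ℂ (Fin n' → ℂ) T = (Nat.card G : ℂ) := by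
    rw [hT, map_sum]
    simp only [map_smul, smul_eq_mul]
    unfold Cfsg.classInner at hself
    have h4 : ∑ a : G, ρ.character a * LinearMap.trace ℂ (Fin n' → ℂ) (ρ a⁻¹)
          = ∑ a : G, ρ.character a * (starRingEnd ℂ) (ρ.character a) := by
      refine Finset.sum_congr rfl (fun a _ => ?_)
      rw [← hinv a]
      rfl
    rw [h4]
    have hG : (Nat.card G : ℂ) ≠ 0 := by exact_mod_cast Nat.card_pos.ne'
    field_simp at hself
    exact hself
  have htr2 : LinearMap.trace ℂ (Fin n' → ℂ) T = c * (n' : ℂ) := by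
    rw [hc, map_smul, LinearMap.trace_id, Module.finrank_fin_fun, smul_eq_mul]
  have hsum : ∑ a : G, ρ.character a * ρ.character (a⁻¹ * g) = c * ρ.character g := by
    have h3 : ∀ a : G, ρ.character a * ρ.character (a⁻¹ * g)
        = LinearMap.trace ℂ (Fin n' → ℂ) ((ρ.character a • ρ a⁻¹) * ρ g) := by
      intro a
      rw [smul_mul_assoc, map_smul, smul_eq_mul, ← map_mul]; rfl
    simp only [h3]
    rw [← map_sum, ← Finset.sum_mul, ← hT, hc]
    show LinearMap.trace ℂ (Fin n' → ℂ) ((c • (1 : Module.End ℂ (Fin n' → ℂ))) * ρ g) = _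
    rw [smul_mul_assoc, one_mul, map_smul, smul_eq_mul]
    rfl
  rw [hsum, h1]
  have hn0 : (n' : ℂ) ≠ 0 := by exact_mod_cast hn.ne'
  field_simp
  rw [htr] at htr2
  linear_combination (ρ.character g) * htr2.symm

theorem sum_comm_mul {G : Type u} [Group G] [Fintype G] {χ : G → ℂ}
    (hχ : Cfsg.IsIrrCharacter G χ) (g : G) :
    ∑ a : G, ∑ b : G, χ (b * a * b⁻¹ * a⁻¹ * g)
      = (Nat.card G : ℂ) ^ 2 * χ g / χ 1 ^ 2 := by
  have h0 : χ 1 ≠ 0 := Cfsg.Agent.Helper2.ClsSep.irr_one_ne_zero hχ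
  have h1 : ∀ a : G, ∑ b : G, χ (b * a * b⁻¹ * a⁻¹ * g)
      = (Nat.card G : ℂ) * χ a * χ (a⁻¹ * g) / χ 1 := by
    intro a
    rw [← sum_char_conj_mul hχ a (a⁻¹ * g)]
    refine Finset.sum_congr rfl (fun b _ => ?_)
    rw [mul_assoc]
  simp only [h1]
  rw [← Finset.sum_div]
  have h2 : ∑ a : G, (Nat.card G : ℂ) * χ a * χ (a⁻¹ * g)
      = (Nat.card G : ℂ) * ∑ a : G, χ a * χ (a⁻¹ * g) := by
    rw [Finset.mul_sum]; exact Finset.sum_congr rfl (fun a _ => by ring)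
  rw [h2, sum_char_mul_inv hχ g]
  field_simp

theorem exists_two_commutators {G : Type u} [Group G] [Finite G]
    (h : ∑ᶠ χ : Cfsg.IrrCharacter G, 1 / ‖(χ : G → ℂ) 1‖ ^ 2 < (2 : ℝ)) (g : G) :
    ∃ a b c d : G, (a * b * a⁻¹ * b⁻¹) * (c * d * c⁻¹ * d⁻¹) = g := by
  classical
  haveI : Fintype G := Fintype.ofFinite G
  haveI : Finite (Cfsg.IrrCharacter G) := finite_irrCharacter G
  haveI : Fintype (Cfsg.IrrCharacter G) := Fintype.ofFinite _
  by_contra hne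
  push_neg at hne
  have hG : (Nat.card G : ℂ) ≠ 0 := by exact_mod_cast Nat.card_pos.ne'
  have hzero : ∀ a b : G, ∑ χ : Cfsg.IrrCharacter G,
      (χ : G → ℂ) (b * a * b⁻¹ * a⁻¹ * g) / (χ : G → ℂ) 1 = 0 := by
    intro a b
    have hc := commutator_count (b * a * b⁻¹ * a⁻¹ * g)
    have hemp : (Finset.univ.filter (fun p : G × G =>
        p.1 * p.2 * p.1⁻¹ * p.2⁻¹ = b * a * b⁻¹ * a⁻¹ * g)) = ∅ := by
      rw [Finset.filter_eq_empty_iff]
      intro p _ hp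
      apply hne a b p.1 p.2
      rw [hp]; group
    rw [hemp, Finset.card_empty, Nat.cast_zero, finsum_eq_sum_of_fintype] at hc
    rcases mul_eq_zero.mp hc.symm with h1 | h1
    · exact absurd h1 hG
    · exact h1
  have hsum : ∑ χ : Cfsg.IrrCharacter G, (χ : G → ℂ) g / (χ : G → ℂ) 1 ^ 3 = 0 := by
    have h1 : ∑ a : G, ∑ b : G, ∑ χ : Cfsg.IrrCharacter G,
        (χ : G → ℂ) (b * a * b⁻¹ * a⁻¹ * g) / (χ : G → ℂ) 1 = 0 := by
      simp only [hzero, Finset.sum_const_zero]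
    have h2 : ∑ a : G, ∑ b : G, ∑ χ : Cfsg.IrrCharacter G,
        (χ : G → ℂ) (b * a * b⁻¹ * a⁻¹ * g) / (χ : G → ℂ) 1
        = ∑ χ : Cfsg.IrrCharacter G,
          (Nat.card G : ℂ) ^ 2 * ((χ : G → ℂ) g / (χ : G → ℂ) 1 ^ 3) := by
      rw [show (∑ a : G, ∑ b : G, ∑ χ : Cfsg.IrrCharacter G,
          (χ : G → ℂ) (b * a * b⁻¹ * a⁻¹ * g) / (χ : G → ℂ) 1)
          = ∑ a : G, ∑ χ : Cfsg.IrrCharacter G, ∑ b : G,
            (χ : G → ℂ) (b * a * b⁻¹ * a⁻¹ * g) / (χ : G → ℂ) 1 from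
          Finset.sum_congr rfl (fun a _ => Finset.sum_comm)]
      rw [Finset.sum_comm]
      refine Finset.sum_congr rfl (fun χ _ => ?_)
      simp only [← Finset.sum_div]
      rw [sum_comm_mul χ.2 g]
      have h0 := Cfsg.Agent.Helper2.ClsSep.irr_one_ne_zero χ.2
      field_simp
    rw [h2, ← Finset.mul_sum] at h1
    rcases mul_eq_zero.mp h1 with h3 | h3
    · exact absurd ((pow_eq_zero_iff (two_ne_zero)).mp h3) hG
    · exact h3
  let χ₀ : Cfsg.IrrCharacter G := ⟨fun _ => 1, isIrrCharacter_one⟩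
  rw [← Finset.add_sum_erase Finset.univ _ (Finset.mem_univ χ₀)] at hsum
  have h10 : (χ₀ : G → ℂ) g / (χ₀ : G → ℂ) 1 ^ 3 = 1 := by simp [χ₀]
  rw [h10] at hsum
  have hnorm : ‖∑ χ ∈ Finset.univ.erase χ₀, (χ : G → ℂ) g / (χ : G → ℂ) 1 ^ 3‖ = 1 := by
    have : ∑ χ ∈ Finset.univ.erase χ₀, (χ : G → ℂ) g / (χ : G → ℂ) 1 ^ 3 = -1 := by
      linear_combination hsum
    rw [this]; simp
  have hle : ‖∑ χ ∈ Finset.univ.erase χ₀, (χ : G → ℂ) g / (χ : G → ℂ) 1 ^ 3‖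
      ≤ ∑ χ ∈ Finset.univ.erase χ₀, 1 / ‖(χ : G → ℂ) 1‖ ^ 2 := by
    refine (norm_sum_le _ _).trans (Finset.sum_le_sum (fun χ _ => ?_))
    rw [norm_div, norm_pow]
    have hpos : 0 < ‖(χ : G → ℂ) 1‖ :=
      norm_pos_iff.mpr (Cfsg.Agent.Helper2.ClsSep.irr_one_ne_zero χ.2)
    have hb := norm_le_degree (isCharacter_of_isIrrCharacter χ.2) g
    rw [div_le_div_iff₀ (by positivity) (by positivity)]
    calc ‖(χ : G → ℂ) g‖ * ‖(χ : G → ℂ) 1‖ ^ 2
        ≤ ‖(χ : G → ℂ) 1‖ * ‖(χ : G → ℂ) 1‖ ^ 2 :=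
          mul_le_mul_of_nonneg_right hb (by positivity)
      _ = 1 * ‖(χ : G → ℂ) 1‖ ^ 3 := by ring
  rw [finsum_eq_sum_of_fintype, ← Finset.add_sum_erase Finset.univ _ (Finset.mem_univ χ₀)] at h
  have h11 : 1 / ‖(χ₀ : G → ℂ) 1‖ ^ 2 = 1 := by simp [χ₀]
  rw [h11] at h
  linarith

end Cfsg.Agent.Helper2.Conv
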