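import Mathlib
import Cfsg.Agent.Helper2.Mono
import Cfsg.Agent.Helper2.CharN
import Cfsg.Agent.Helper2.NPC3
import Cfsg.Agent.Helper2.Conv
import Cfsg.Agent.Helper2.LinExt
import Cfsg.Agent.Lead.CharEig
import Cfsg.Agent.S0854

/-! Nilpotent groups are M-groups. -/

namespace Cfsg.Agent.Helper2.Mono

open Cfsg.Agent.Lead

universe u

/-- the stabilizer (inertia group) of a function on a normal subgroup -/
def stab {G : Type u} [Group G] (A : Subgroup G) [hA : A.Normal] (θ : A → ℂ) : Subgroup G where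
  carrier := {g | ∀ n : A, θ ⟨g * n * g⁻¹, hA.conj_mem n n.2 g⟩ = θ n}
  one_mem' := by
    intro n
    exact congrArg θ (Subtype.ext (by simp))
  mul_mem' := by
    intro a b ha hb n
    have h1 := ha ⟨b * n * b⁻¹, hA.conj_mem n n.2 b⟩
    have h2 := hb n
    rw [← h2, ← h1]
    exact congrArg θ (Subtype.ext (by simp [mul_assoc]))
  inv_mem' := by
    intro a ha n
    have h1 := ha ⟨a⁻¹ * n * a⁻¹⁻¹, hA.conj_mem n n.2 a⁻¹⟩
    rw [← h1]
    exact congrArg θ (Subtype.ext (by simp [mul_assoc]))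

theorem mem_stab {G : Type u} [Group G] (A : Subgroup G) [hA : A.Normal] (θ : A → ℂ) (g : G) :
    g ∈ stab A θ ↔ ∀ n : A, θ ⟨g * n * g⁻¹, hA.conj_mem n n.2 g⟩ = θ n := Iff.rfl

theorem le_stab {G : Type u} [Group G] (A : Subgroup G) [hA : A.Normal] (θ : A → ℂ)
    (hθ : Cfsg.IsClassFunction A θ) : A ≤ stab A θ := by
  intro a ha
  rw [mem_stab]
  intro n
  have := hθ n ⟨a, ha⟩
  rw [← this]
  exact congrArg θ (Subtype.ext (by simp))

/-- `|χ x| = χ 1` forces `ρ x` to be a scalar -/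
theorem scalar_of_norm_eq {G : Type u} [Group G] [Finite G] {n : ℕ}
    (ρ : Representation ℂ G (Fin n → ℂ)) [Nontrivial (Fin n → ℂ)] (x : G)
    (h : ‖ρ.character x‖ = ‖ρ.character 1‖) :
    ∃ ω : ℂ, ρ x = ω • (LinearMap.id : (Fin n → ℂ) →ₗ[ℂ] (Fin n → ℂ)) := by
  have hpos : 0 < Module.finrank ℂ (Fin n → ℂ) := Module.finrank_pos
  rw [Representation.char_one, Complex.norm_natCast] at h
  set s := (ρ x).charpoly.roots with hs
  have hcard : s.card = Module.finrank ℂ (Fin n → ℂ) := charpoly_roots_card ρ x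
  have hsum : ρ.character x = s.sum := character_eq_sum_roots ρ x
  have hn1 : ∀ μ ∈ s, ‖μ‖ = 1 := fun μ hμ => charpoly_root_norm ρ x hμ
  obtain ⟨ω, hω⟩ := multiset_unit_norm_sum_eq_card hn1
    (by rw [← hsum, hcard]; exact h) (by rw [hcard]; exact hpos)
  exact ⟨ω, rep_eq_smul_id_of_roots ρ x ω hω⟩

/-- a nonlinear irreducible character of a nilpotent group has a normal subgroup with a
non-invariant constituent -/
theorem exists_proper {G : Type u} [Group G] [Fintype G] [Group.IsNilpotent G] {χ : G → ℂ}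
    (hχ : Cfsg.IsIrrCharacter G χ) (h1 : χ 1 ≠ 1) :
    ∃ (A : Subgroup G) (hA : A.Normal) (θ : A → ℂ), Cfsg.IsIrrCharacter A θ ∧
      (∀ inst : Fintype A, @Cfsg.classInner A _ inst (fun n : A => χ n) θ ≠ 0) ∧
      @stab G _ A hA θ ≠ ⊤ := by
  classical
  have hχ' := hχ
  obtain ⟨d, ρ, hi, rfl⟩ := hχ
  haveI hnt : Nontrivial (Fin d → ℂ) := ((isIrreducible_iff ρ).mp hi).1
  have hpos : 0 < Module.finrank ℂ (Fin d → ℂ) := Module.finrank_pos
  have hρ1 : ρ 1 = 1 := map_one ρ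
  have hone : (1 : Module.End ℂ (Fin d → ℂ)) ≠ 0 := one_ne_zero
  let Zc : Subgroup G :=
    { carrier := {g | ∃ c : ℂ, ρ g = c • (1 : Module.End ℂ (Fin d → ℂ))}
      one_mem' := ⟨1, by rw [hρ1, one_smul]⟩
      mul_mem' := by
        rintro a b ⟨c, hc⟩ ⟨c', hc'⟩
        exact ⟨c * c', by rw [map_mul, hc, hc', smul_mul_smul_comm, mul_one]⟩
      inv_mem' := by
        rintro a ⟨c, hc⟩
        have h2 : ρ a * ρ a⁻¹ = 1 := by rw [← map_mul, mul_inv_cancel, map_one]
        rw [hc, smul_mul_assoc, one_mul] at h2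
        have hc0 : c ≠ 0 := by
          rintro rfl
          rw [zero_smul] at h2
          exact hone h2.symm
        refine ⟨c⁻¹, ?_⟩
        calc ρ a⁻¹ = c⁻¹ • (c • ρ a⁻¹) := by rw [smul_smul, inv_mul_cancel₀ hc0, one_smul]
          _ = c⁻¹ • 1 := by rw [h2] }
  haveI hZn : Zc.Normal := ⟨fun a ha g => by
    obtain ⟨c, hc⟩ := ha
    refine ⟨c, ?_⟩
    rw [map_mul, map_mul, hc, mul_smul_comm, mul_one, smul_mul_assoc, ← map_mul, mul_inv_cancel,
      map_one]⟩
  have hZtop : Zc ≠ ⊤ := by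
    intro htop
    apply h1
    apply linear_of_comm_ker hχ'
    intro x y
    obtain ⟨c, hc⟩ : x ∈ Zc := htop ▸ Subgroup.mem_top x
    have hxy : ρ (x * y) = ρ (y * x) := by
      rw [map_mul, map_mul, hc, smul_mul_assoc, mul_smul_comm, one_mul, mul_one]
    have h2 : ρ (x * y * x⁻¹ * y⁻¹) = 1 := by
      have : x * y * x⁻¹ * y⁻¹ = (x * y) * (y * x)⁻¹ := by group
      rw [this, map_mul, hxy, ← map_mul, mul_inv_cancel, map_one]
    show LinearMap.trace ℂ _ (ρ (x * y * x⁻¹ * y⁻¹)) = LinearMap.trace ℂ _ (ρ 1)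
    rw [h2, hρ1]
  haveI : Nontrivial (G ⧸ Zc) := QuotientGroup.nontrivial_iff.mpr hZtop
  have hcen := Group.IsNilpotent.center_ne_bot (G := G ⧸ Zc)
  obtain ⟨q, hq, hq1⟩ : ∃ q ∈ Subgroup.center (G ⧸ Zc), q ≠ 1 := by
    by_contra hno
    push_neg at hno
    exact hcen ((Subgroup.eq_bot_iff_forall _).mpr hno)
  obtain ⟨a, rfl⟩ := QuotientGroup.mk_surjective q
  have haZ : a ∉ Zc := fun h => hq1 ((QuotientGroup.eq_one_iff a).mpr h)
  haveI hzn : (Subgroup.zpowers (QuotientGroup.mk a : G ⧸ Zc)).Normal := ⟨fun x hx g => by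
    have hxc : x ∈ Subgroup.center (G ⧸ Zc) := (Subgroup.zpowers_le.mpr hq) hx
    have h3 : g * x * g⁻¹ = x := by
      rw [Subgroup.mem_center_iff.mp hxc g, mul_inv_cancel_right]
    rw [h3]; exact hx⟩
  let A : Subgroup G :=
    (Subgroup.zpowers (QuotientGroup.mk a : G ⧸ Zc)).comap (QuotientGroup.mk' Zc)
  haveI hAn : A.Normal := Subgroup.Normal.comap hzn _
  have haA : a ∈ A := Subgroup.mem_comap.mpr (Subgroup.mem_zpowers _)
  have hAform : ∀ x ∈ A, ∃ (k : ℤ) (c : ℂ), ρ x = c • ρ (a ^ k) := by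
    intro x hx
    obtain ⟨k, hk⟩ := Subgroup.mem_zpowers_iff.mp (Subgroup.mem_comap.mp hx)
    have h3 : (QuotientGroup.mk (a ^ k) : G ⧸ Zc) = QuotientGroup.mk x := by
      rw [QuotientGroup.mk_zpow]; exact hk
    have h4 : (a ^ k)⁻¹ * x ∈ Zc := QuotientGroup.eq.mp h3
    obtain ⟨c, hc⟩ := h4
    refine ⟨k, c, ?_⟩
    have h5 : ρ x = ρ (a ^ k) * ρ ((a ^ k)⁻¹ * x) := by
      rw [← map_mul, mul_inv_cancel_left]
    rw [h5, hc, mul_smul_comm, mul_one]
  have hAcomm : ∀ x ∈ A, ∀ y ∈ A, ρ (x * y) = ρ (y * x) := by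
    intro x hx y hy
    obtain ⟨k, c, hc⟩ := hAform x hx
    obtain ⟨l, c', hc'⟩ := hAform y hy
    rw [map_mul, map_mul, hc, hc', smul_mul_smul_comm, smul_mul_smul_comm, ← map_mul, ← map_mul,
      ← zpow_add, ← zpow_add, add_comm, mul_comm c c']
  letI : Fintype A := Fintype.ofFinite A
  have hres : Cfsg.IsCharacter A (fun n : A => ρ.character n) :=
    isCharacter_res A (isCharacter_of_isIrrCharacter hχ')
  obtain ⟨m, hm⟩ := exists_multiset_irr hres
  have hm0 : m ≠ 0 := by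
    rintro rfl
    have h3 := congrFun hm 1
    simp only [Multiset.map_zero, Multiset.sum_zero, Pi.zero_apply] at h3
    have h4 : ρ.character ((1 : A) : G) = (Module.finrank ℂ (Fin d → ℂ) : ℂ) :=
      Representation.char_one ρ
    rw [h4] at h3
    exact hpos.ne' (by exact_mod_cast h3)
  obtain ⟨θ, hθm⟩ := Multiset.exists_mem_of_ne_zero hm0
  have hcon : ∀ inst : Fintype A,
      @Cfsg.classInner A _ inst (fun n : A => ρ.character n) (θ : A → ℂ) ≠ 0 := by
    intro inst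
    have h3 := @Cfsg.Agent.Helper2.NPC.classInner_multiset A _ inst m θ
    rw [← hm] at h3
    rw [h3]
    exact_mod_cast (Multiset.count_pos.mpr hθm).ne'
  refine ⟨A, hAn, (θ : A → ℂ), θ.2, hcon, ?_⟩
  intro htop
  have hinv : ∀ (g : G) (n : A),
      (θ : A → ℂ) ⟨g * n * g⁻¹, hAn.conj_mem n n.2 g⟩ = (θ : A → ℂ) n := fun g =>
    (mem_stab A (θ : A → ℂ) g).mp (htop ▸ Subgroup.mem_top g)
  have hsm := Cfsg.Agent.Helper2.CharN.res_eq_smul_of_invariant A hχ' θ.2 (hcon _) hinv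
  set e := Cfsg.classInner (fun n : A => ρ.character n) (θ : A → ℂ) with he
  have he0 : e ≠ 0 := hcon _
  have hθlin : (θ : A → ℂ) 1 = 1 := by
    apply linear_of_comm_ker θ.2
    intro x y
    have h3 : ρ ((x * y * x⁻¹ * y⁻¹ : A) : G) = 1 := by
      have hxy := hAcomm x x.2 y y.2
      have h4 : ((x * y * x⁻¹ * y⁻¹ : A) : G) = ((x : G) * y) * ((y : G) * x)⁻¹ := by
        push_cast
        group
      rw [h4, map_mul, hxy, ← map_mul, mul_inv_cancel, map_one]
    have h4 := congrFun hsm (x * y * x⁻¹ * y⁻¹)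
    have h5 := congrFun hsm 1
    simp only [Pi.smul_apply, smul_eq_mul] at h4 h5
    have h6 : ρ.character ((x * y * x⁻¹ * y⁻¹ : A) : G) = ρ.character ((1 : A) : G) := by
      show LinearMap.trace ℂ _ (ρ _) = LinearMap.trace ℂ _ (ρ _)
      rw [h3]
      have : ρ ((1 : A) : G) = 1 := hρ1
      rw [this]
    rw [h4, h5] at h6
    exact mul_left_cancel₀ he0 h6
  have h7 := congrFun hsm ⟨a, haA⟩
  have h8 := congrFun hsm 1
  simp only [Pi.smul_apply, smul_eq_mul] at h7 h8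
  have hθa : ‖(θ : A → ℂ) ⟨a, haA⟩‖ = 1 := by
    have hmul := isCharacter_linear_mul (isCharacter_of_isIrrCharacter θ.2) hθlin
    have e1 : (θ : A → ℂ) ⟨a, haA⟩ * (θ : A → ℂ) (⟨a, haA⟩ : A)⁻¹ = 1 := by
      rw [← hmul, mul_inv_cancel, hθlin]
    have n1 := Cfsg.Agent.Helper2.Conv.norm_le_degree (isCharacter_of_isIrrCharacter θ.2)
      (⟨a, haA⟩ : A)
    have n2 := Cfsg.Agent.Helper2.Conv.norm_le_degree (isCharacter_of_isIrrCharacter θ.2)
      ((⟨a, haA⟩ : A)⁻¹)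
    rw [hθlin, norm_one] at n1 n2
    have n3 : ‖(θ : A → ℂ) ⟨a, haA⟩‖ * ‖(θ : A → ℂ) (⟨a, haA⟩ : A)⁻¹‖ = 1 := by
      rw [← norm_mul, e1, norm_one]
    nlinarith [norm_nonneg ((θ : A → ℂ) ⟨a, haA⟩), norm_nonneg ((θ : A → ℂ) (⟨a, haA⟩ : A)⁻¹)]
  have hnorm : ‖ρ.character a‖ = ‖ρ.character 1‖ := by
    have h9 : ρ.character a = e * (θ : A → ℂ) ⟨a, haA⟩ := h7
    have h10 : ρ.character 1 = e * (θ : A → ℂ) 1 := h8
    rw [h9, h10, norm_mul, hθa, mul_one, norm_mul, hθlin, norm_one, mul_one]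
  obtain ⟨ω, hω⟩ := scalar_of_norm_eq ρ a hnorm
  exact haZ ⟨ω, hω⟩

/-- nilpotent groups are M-groups -/
theorem nilpotent_monomial : ∀ (n : ℕ) (G : Type u) [Group G] [Fintype G] [Group.IsNilpotent G],
    Fintype.card G ≤ n → ∀ χ : G → ℂ, Cfsg.IsIrrCharacter G χ →
    ∃ (H : Subgroup G) (lam : H →* ℂˣ), χ = Cfsg.indFun H (fun h => (lam h : ℂ)) := by
  intro n
  induction n with
  | zero =>
    intro G _ _ _ hcard
    have := Fintype.card_pos (α := G)
    omega
  | succ n ih =>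
    intro G _ _ _ hcard χ hχ
    classical
    by_cases h1 : χ 1 = 1
    · have hch := isCharacter_of_isIrrCharacter hχ
      refine ⟨⊤, (Cfsg.Agent.Helper2.LinExt.toUnitsHom χ hch h1).comp (Subgroup.subtype ⊤), ?_⟩
      exact (indFun_top χ (isCharacter_isClassFunction hch)).symm
    · obtain ⟨A, hAn, θ, hθ, hcon, hstab⟩ := exists_proper hχ h1
      haveI := hAn
      haveI : Fintype A := Fintype.ofFinite A
      haveI : Fintype (stab A θ) := Fintype.ofFinite _
      have hAT : A ≤ stab A θ :=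
        le_stab A θ (isCharacter_isClassFunction (isCharacter_of_isIrrCharacter hθ))
      obtain ⟨ψ, hψ, hind, -⟩ := Cfsg.Agent.S0854.result A θ hθ (stab A θ)
        (fun g => mem_stab A θ g) hAT χ hχ (hcon _)
      have hlt : Fintype.card (stab A θ) < Fintype.card G := by
        have hle : Nat.card (stab A θ) ≤ Nat.card G := Subgroup.card_le_card_group _
        have hne : Nat.card (stab A θ) ≠ Nat.card G := fun h => hstab (Subgroup.eq_top_of_card_eq _ h)
        rw [Nat.card_eq_fintype_card, Nat.card_eq_fintype_card] at hle hne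
        omega
      obtain ⟨S, lam, hlam⟩ := ih (stab A θ) (by omega) ψ hψ
      refine ⟨S.map (stab A θ).subtype,
        lam.comp (S.equivMapOfInjective (stab A θ).subtype
          (stab A θ).subtype_injective).symm.toMonoidHom, ?_⟩
      rw [← hind, hlam, indFun_trans]
      rfl

end Cfsg.Agent.Helper2.Mono
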