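import Mathlib
import Cfsg.Agent.Helper2.Brauer1
import Cfsg.Agent.Helper2.Mono2
import Cfsg.Agent.Helper2.CharN

/-! Quasi-elementary groups: the subgroup `Z × P` and its permutation character. -/

namespace Cfsg.Agent.Helper2.Brauer

open Cfsg.Agent.Lead

universe u

theorem norm_aux {C : Type*} [CommGroup C] {P : Type*} [Group P] [Fintype P]
    (φ : P → C →* C) (hφφ : ∀ v u x, φ v (φ u x) = φ (v * u) x) (c : C) :
    (∀ v : P, φ v (∏ u : P, φ u c) = ∏ u : P, φ u c) ∧
    ∀ lam : C →* ℂ, (∀ v x, lam (φ v x) = lam x) →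
      lam (∏ u : P, φ u c) = lam c ^ Fintype.card P := by
  constructor
  · intro v
    rw [map_prod]
    simp only [hφφ]
    exact Fintype.prod_equiv (Equiv.mulLeft v) _ _ (fun u => rfl)
  · intro lam hlam
    rw [map_prod, Finset.prod_congr rfl (fun u _ => hlam u c), Finset.prod_const,
      Finset.card_univ]

theorem norm_lemma {H : Type u} [Group H] (C : Subgroup H) [hC : C.Normal]
    (hcomm : ∀ a b : C, a * b = b * a) (P : Subgroup H) [Fintype P] (c : C) :
    ∃ z : C, (∀ v : P, (v : H) * z * (v : H)⁻¹ = z) ∧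
      ∀ lam : C → ℂ, lam 1 = 1 → (∀ a b : C, lam (a * b) = lam a * lam b) →
        (∀ (v : P) (x : C), lam ⟨v * x * (v : H)⁻¹, hC.conj_mem x x.2 v⟩ = lam x) →
        lam z = lam c ^ Fintype.card P := by
  letI : CommGroup C := { (inferInstance : Group C) with mul_comm := hcomm }
  let φ : P → C →* C := fun v =>
    { toFun := fun x => ⟨v * x * (v : H)⁻¹, hC.conj_mem x x.2 v⟩
      map_one' := Subtype.ext (by simp)
      map_mul' := fun x y => Subtype.ext (by simp [mul_assoc]) }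
  have hφφ : ∀ v u x, φ v (φ u x) = φ (v * u) x := by
    intro v u x
    apply Subtype.ext
    show (v : H) * ((u : H) * x * (u : H)⁻¹) * (v : H)⁻¹ = ((v * u : P) : H) * x * ((v * u : P) : H)⁻¹
    simp [mul_assoc]
  obtain ⟨h1, h2⟩ := norm_aux φ hφφ c
  refine ⟨∏ u : P, φ u c, ?_, ?_⟩
  · intro v
    exact congrArg Subtype.val (h1 v)
  · intro lam hlam1 hlammul hinv
    exact h2 { toFun := lam, map_one' := hlam1, map_mul' := hlammul } (fun v x => hinv v x)

section setup

variable {H : Type u} [Group H] [Fintype H] (C P : Subgroup H)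

/-- the subgroup `C_C(P) · P` -/
def EZ (C P : Subgroup H) : Subgroup H where
  carrier := {h | ∃ c ∈ C ⊓ Subgroup.centralizer (P : Set H), ∃ u ∈ P, h = c * u}
  one_mem' := ⟨1, Subgroup.one_mem _, 1, Subgroup.one_mem _, by simp⟩
  mul_mem' := by
    rintro _ _ ⟨c, hc, u, hu, rfl⟩ ⟨c', hc', u', hu', rfl⟩
    refine ⟨c * c', Subgroup.mul_mem _ hc hc', u * u', P.mul_mem hu hu', ?_⟩
    have h1 : u * c' = c' * u := (Subgroup.mem_centralizer_iff.mp hc'.2) u hu
    calc c * u * (c' * u') = c * (u * c') * u' := by group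
      _ = c * (c' * u) * u' := by rw [h1]
      _ = c * c' * (u * u') := by group
  inv_mem' := by
    rintro _ ⟨c, hc, u, hu, rfl⟩
    refine ⟨c⁻¹, Subgroup.inv_mem _ hc, u⁻¹, P.inv_mem hu, ?_⟩
    have h1 : u * c = c * u := (Subgroup.mem_centralizer_iff.mp hc.2) u hu
    have h2 : u⁻¹ * c⁻¹ = c⁻¹ * u⁻¹ := by
      rw [← mul_inv_rev, ← mul_inv_rev, h1]
    rw [mul_inv_rev, h2]

theorem mem_EZ {C P : Subgroup H} {c u : H} (hc : c ∈ C ⊓ Subgroup.centralizer (P : Set H))
    (hu : u ∈ P) : c * u ∈ EZ C P := ⟨c, hc, u, hu, rfl⟩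

variable {C P}

/-- the bijection `Z × P ≃ E` -/
noncomputable def equivEZ (hcompl : Subgroup.IsComplement' C P) :
    (↥(C ⊓ Subgroup.centralizer (P : Set H)) × P) ≃ EZ C P :=
  Equiv.ofBijective (fun x => ⟨(x.1 : H) * (x.2 : H), mem_EZ x.1.2 x.2.2⟩) (by
    constructor
    · rintro ⟨⟨c, hc⟩, u⟩ ⟨⟨c', hc'⟩, u'⟩ h
      have h1 : c * (u : H) = c' * (u' : H) := congrArg Subtype.val h
      have h2 := (Subgroup.isComplement'_def.mp hcompl).1
        (a₁ := ((⟨c, hc.1⟩ : C), u)) (a₂ := ((⟨c', hc'.1⟩ : C), u')) h1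
      have h3 : c = c' := congrArg (fun x : C × P => (x.1 : H)) h2
      have h4 : u = u' := congrArg (fun x : C × P => x.2) h2
      subst h3
      subst h4
      rfl
    · rintro ⟨h, c, hc, u, hu, rfl⟩
      exact ⟨(⟨c, hc⟩, ⟨u, hu⟩), rfl⟩)

theorem sum_EZ (hcompl : Subgroup.IsComplement' C P) [Fintype P] [Fintype (EZ C P)]
    [Fintype ↥(C ⊓ Subgroup.centralizer (P : Set H))] (F : H → ℂ) :
    ∑ e : EZ C P, F e
      = ∑ c : ↥(C ⊓ Subgroup.centralizer (P : Set H)), ∑ u : P, F ((c : H) * (u : H)) := by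
  rw [← Fintype.sum_prod_type']
  exact (Fintype.sum_equiv (equivEZ hcompl) _ _ (fun x => rfl)).symm

theorem sum_compl (hcompl : Subgroup.IsComplement' C P) [Fintype P] [Fintype C] (F : H → ℂ) :
    ∑ h : H, F h = ∑ c : C, ∑ u : P, F ((c : H) * (u : H)) := by
  rw [← Fintype.sum_prod_type']
  exact (Fintype.sum_equiv (Equiv.ofBijective _ (Subgroup.isComplement'_def.mp hcompl)) _ _
    (fun x => rfl)).symm

theorem isElementary_EZ {p : ℕ} (hcompl : Subgroup.IsComplement' C P) (hCc : IsCyclic C)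
    (hcop : Nat.Coprime (Nat.card C) p) {k : ℕ} (hP : Nat.card P = p ^ k) :
    Cfsg.IsElementary p (EZ C P) := by
  classical
  haveI := hCc
  have hcomm : ∀ a b : H, a ∈ C → b ∈ C → a * b = b * a := by
    intro a b ha hb
    obtain ⟨g, hg⟩ := IsCyclic.exists_generator (α := C)
    obtain ⟨i, hi⟩ := Subgroup.mem_zpowers_iff.mp (hg ⟨a, ha⟩)
    obtain ⟨j, hj⟩ := Subgroup.mem_zpowers_iff.mp (hg ⟨b, hb⟩)
    have ha' : a = (g : H) ^ i := by rw [← Subgroup.coe_zpow, hi]
    have hb' : b = (g : H) ^ j := by rw [← Subgroup.coe_zpow, hj]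
    rw [ha', hb', ← zpow_add, ← zpow_add, add_comm]
  have hZc : IsCyclic ↥(C ⊓ Subgroup.centralizer (P : Set H)) := by
    have e := Subgroup.subgroupOfEquivOfLe
      (inf_le_left : C ⊓ Subgroup.centralizer (P : Set H) ≤ C)
    haveI : IsCyclic ((C ⊓ Subgroup.centralizer (P : Set H)).subgroupOf C) := inferInstance
    exact isCyclic_of_surjective e e.surjective
  obtain ⟨z, hz⟩ := IsCyclic.exists_generator (α := ↥(C ⊓ Subgroup.centralizer (P : Set H)))
  have hzE : (z : H) ∈ EZ C P := by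
    have := mem_EZ (C := C) (P := P) z.2 (Subgroup.one_mem P)
    simpa using this
  have hord : orderOf (⟨(z : H), hzE⟩ : EZ C P) = Nat.card ↥(C ⊓ Subgroup.centralizer (P : Set H)) := by
    rw [← orderOf_eq_card_of_forall_mem_zpowers hz, ← Subgroup.orderOf_coe, ← Subgroup.orderOf_coe z]
  refine ⟨⟨(z : H), hzE⟩, ?_, ?_, k, ?_⟩
  · rw [Subgroup.mem_center_iff]
    rintro ⟨e, c, hc, u, hu, rfl⟩
    apply Subtype.ext
    show c * u * (z : H) = (z : H) * (c * u)
    have h1 : u * (z : H) = (z : H) * u := (Subgroup.mem_centralizer_iff.mp z.2.2) u hu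
    have h2 : c * (z : H) = (z : H) * c := hcomm c z hc.1 z.2.1
    calc c * u * (z : H) = c * (u * (z : H)) := by group
      _ = c * (z : H) * u := by rw [h1]; group
      _ = (z : H) * (c * u) := by rw [h2]; group
  · rw [hord]
    exact Nat.Coprime.coprime_dvd_left (Subgroup.card_dvd_of_le inf_le_left) hcop
  · have h1 := Subgroup.index_mul_card (Subgroup.zpowers (⟨(z : H), hzE⟩ : EZ C P))
    rw [Nat.card_zpowers, hord, Nat.card_congr (equivEZ hcompl).symm, Nat.card_prod, hP] at h1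
    have hpos : 0 < Nat.card ↥(C ⊓ Subgroup.centralizer (P : Set H)) := Nat.card_pos
    rw [mul_comm] at h1
    exact Nat.eq_of_mul_eq_mul_left hpos h1

end setup

end Cfsg.Agent.Helper2.Brauer
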