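import Mathlib
import Cfsg.Agent.Helper2.Brauer2

/-! Quasi-elementary groups: constituents of the permutation character on `Z × P`. -/

namespace Cfsg.Agent.Helper2.Brauer

open Cfsg.Agent.Lead

universe u

theorem no_invariant {H : Type u} [Group H] [Fintype H] {C P : Subgroup H} [hC : C.Normal]
    [Fintype C] [Fintype P] [Fintype (EZ C P)]
    [Fintype ↥(C ⊓ Subgroup.centralizer (P : Set H))]
    (hcompl : Subgroup.IsComplement' C P) (hCc : IsCyclic C)
    (hcop : Nat.Coprime (Nat.card C) (Nat.card P))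
    (ψ : H → ℂ) (hψ : Cfsg.IsIrrCharacter H ψ) (hsum : ∑ e : EZ C P, ψ e ≠ 0)
    (lam : C → ℂ) (hlam : Cfsg.IsIrrCharacter C lam)
    (hcon : Cfsg.classInner (fun n : C => ψ n) lam ≠ 0)
    (hinv : ∀ (g : H) (n : C), lam ⟨g * n * g⁻¹, hC.conj_mem (n : H) n.2 g⟩ = lam n) :
    ∑ h : H, ψ h ≠ 0 := by
  classical
  haveI := hCc
  have hcommC : ∀ a b : C, a * b = b * a := by
    intro x y
    obtain ⟨g, hg⟩ := IsCyclic.exists_generator (α := C)
    obtain ⟨i, rfl⟩ := Subgroup.mem_zpowers_iff.mp (hg x)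
    obtain ⟨j, rfl⟩ := Subgroup.mem_zpowers_iff.mp (hg y)
    rw [← zpow_add, ← zpow_add, add_comm]
  have hlamch := isCharacter_of_isIrrCharacter hlam
  have hlam1 : lam 1 = 1 := by
    refine Cfsg.Agent.Helper2.Mono.linear_of_comm_ker hlam (fun x y => ?_)
    have : x * y * x⁻¹ * y⁻¹ = 1 := by
      rw [hcommC x y]; group
    rw [this]
  have hlammul := isCharacter_linear_mul hlamch hlam1
  have hmh : ∀ (c : C) (n : ℕ), lam (c ^ n) = lam c ^ n := by
    intro c n
    induction n with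
    | zero => simpa using hlam1
    | succ n ih => rw [pow_succ, hlammul, ih, pow_succ]
  have hres := Cfsg.Agent.Helper2.CharN.res_eq_smul_of_invariant C hψ hlam hcon hinv
  have ha : Cfsg.classInner (fun n : C => ψ n) lam = ψ 1 := by
    have := congrFun hres 1
    simp only [Pi.smul_apply, smul_eq_mul, hlam1, mul_one] at this
    rw [← this]
    rfl
  have hresc : ∀ c : C, ψ c = ψ 1 * lam c := by
    intro c
    have := congrFun hres c
    rw [ha] at this
    exact this
  have hlamnorm : ∀ c : C, ‖lam c‖ = 1 := by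
    intro c
    have hpow : lam c ^ orderOf c = 1 := by
      rw [← hmh, pow_orderOf_eq_one, hlam1]
    exact Complex.norm_eq_one_of_pow_eq_one hpow (orderOf_pos c).ne'
  have hscal : ∀ (c : C) (h : H), ψ ((c : H) * h) = lam c * ψ h := by
    obtain ⟨n, ρ, hirr, rfl⟩ := hψ
    haveI hnt : Nontrivial (Fin n → ℂ) := ((isIrreducible_iff ρ).mp hirr).1
    intro c h
    have hnorm : ‖ρ.character (c : H)‖ = ‖ρ.character 1‖ := by
      rw [hresc c, norm_mul, hlamnorm c, mul_one]
    obtain ⟨ω, hω⟩ := Cfsg.Agent.Helper2.Mono.scalar_of_norm_eq ρ (c : H) hnorm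
    have hch1 : ρ.character 1 ≠ 0 := by
      rw [Representation.char_one]
      exact_mod_cast (Module.finrank_pos (R := ℂ) (M := Fin n → ℂ)).ne'
    have hωc : ρ.character (c : H) = ω * ρ.character 1 := by
      show LinearMap.trace ℂ _ (ρ (c : H)) = ω * LinearMap.trace ℂ _ (ρ 1)
      rw [hω, map_smul, smul_eq_mul, map_one]
      rfl
    have hωlam : ω = lam c := by
      have := hresc c
      rw [hωc] at this
      exact mul_right_cancel₀ hch1 (by rw [this]; ring)
    show LinearMap.trace ℂ _ (ρ ((c : H) * h)) = lam c * LinearMap.trace ℂ _ (ρ h)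
    have h5 : ρ ((c : H) * h) = lam c • ρ h := by
      rw [map_mul, hω, hωlam]
      ext v
      simp
    rw [h5, map_smul, smul_eq_mul]
  have hE2 : ∑ e : EZ C P, ψ e
      = (∑ c : ↥(C ⊓ Subgroup.centralizer (P : Set H)), lam ⟨c, c.2.1⟩) * ∑ u : P, ψ u := by
    rw [sum_EZ hcompl ψ, Finset.sum_mul]
    refine Finset.sum_congr rfl (fun c _ => ?_)
    rw [Finset.mul_sum]
    refine Finset.sum_congr rfl (fun u _ => ?_)
    exact hscal ⟨c, c.2.1⟩ u
  rw [hE2] at hsum
  have hZsum : ∑ c : ↥(C ⊓ Subgroup.centralizer (P : Set H)), lam ⟨c, c.2.1⟩ ≠ 0 :=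
    left_ne_zero_of_mul hsum
  have hPsum : ∑ u : P, ψ u ≠ 0 := right_ne_zero_of_mul hsum
  have hlamZ : ∀ c : ↥(C ⊓ Subgroup.centralizer (P : Set H)), lam ⟨c, c.2.1⟩ = 1 := by
    intro c₀
    by_contra hne
    apply hZsum
    have h1 : lam ⟨c₀, c₀.2.1⟩ * ∑ c : ↥(C ⊓ Subgroup.centralizer (P : Set H)), lam ⟨c, c.2.1⟩
        = ∑ c : ↥(C ⊓ Subgroup.centralizer (P : Set H)), lam ⟨c, c.2.1⟩ := by
      rw [Finset.mul_sum]
      refine Fintype.sum_equiv (Equiv.mulLeft c₀) _ _ (fun c => ?_)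
      rw [← hlammul]
      rfl
    have h2 : (1 - lam ⟨c₀, c₀.2.1⟩)
        * ∑ c : ↥(C ⊓ Subgroup.centralizer (P : Set H)), lam ⟨c, c.2.1⟩ = 0 := by
      linear_combination -h1
    rcases mul_eq_zero.mp h2 with h | h
    · exact absurd (sub_eq_zero.mp h).symm hne
    · exact h
  have hlamC : ∀ c : C, lam c = 1 := by
    intro c
    obtain ⟨z, hzfix, hz⟩ := norm_lemma C hcommC P c
    have hzZ : (z : H) ∈ C ⊓ Subgroup.centralizer (P : Set H) := by
      refine Subgroup.mem_inf.mpr ⟨z.2, ?_⟩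
      rw [Subgroup.mem_centralizer_iff]
      intro u hu
      have := hzfix ⟨u, hu⟩
      calc u * (z : H) = u * (z : H) * u⁻¹ * u := by group
        _ = (z : H) * u := by rw [this]
    have h1 : lam z = 1 := hlamZ ⟨z, hzZ⟩
    have h2 := hz lam hlam1 hlammul (fun v x => hinv v x)
    rw [h1] at h2
    have h3 : lam c ^ Nat.card C = 1 := by
      rw [← hmh, pow_card_eq_one', hlam1]
    have ho1 : orderOf (lam c) ∣ Fintype.card P := orderOf_dvd_of_pow_eq_one h2.symm
    have ho2 : orderOf (lam c) ∣ Nat.card C := orderOf_dvd_of_pow_eq_one h3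
    rw [← Nat.card_eq_fintype_card] at ho1
    have ho := Nat.dvd_gcd ho2 ho1
    rw [Nat.Coprime.gcd_eq_one hcop] at ho
    exact orderOf_eq_one_iff.mp (Nat.dvd_one.mp ho)
  rw [sum_compl hcompl ψ]
  have h4 : ∑ c : C, ∑ u : P, ψ ((c : H) * (u : H)) = (Fintype.card C : ℂ) * ∑ u : P, ψ u := by
    have h5 : ∀ c : C, ∑ u : P, ψ ((c : H) * (u : H)) = ∑ u : P, ψ u := by
      intro c
      refine Finset.sum_congr rfl (fun u _ => ?_)
      rw [hscal c u, hlamC c, one_mul]
    rw [Finset.sum_congr rfl (fun c _ => h5 c), Finset.sum_const, Finset.card_univ, nsmul_eq_mul]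
  rw [h4]
  exact mul_ne_zero (by exact_mod_cast Fintype.card_ne_zero) hPsum

end Cfsg.Agent.Helper2.Brauer
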