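import Mathlib
import Cfsg.Agent.Helper2.Mackey

/-! Double coset decomposition of the product of two permutation characters. -/

namespace Cfsg.Agent.Helper2.Mackey

open Cfsg.Agent.Lead

universe u

variable {G : Type u} [Group G] [Fintype G]

/-- the action of `H × K` on `G` by `(h, k) • g = h * g * k⁻¹` -/
@[reducible] def dcAction (H K : Subgroup G) : MulAction (H × K) G where
  smul p g := (p.1 : G) * g * (p.2 : G)⁻¹
  one_smul g := by
    show ((1 : H × K).1 : G) * g * (((1 : H × K).2 : G))⁻¹ = g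
    simp
  mul_smul p q g := by
    show ((p * q).1 : G) * g * (((p * q).2 : G))⁻¹
      = (p.1 : G) * ((q.1 : G) * g * (q.2 : G)⁻¹) * (p.2 : G)⁻¹
    simp [mul_assoc]

theorem orbit_card (H K : Subgroup G) (g₀ : G) :
    letI := dcAction H K
    Nat.card (MulAction.orbit (H × K) g₀) * Nat.card ↥(H ⊓ cj g₀ K) = Nat.card H * Nat.card K := by
  classical
  letI := dcAction H K
  haveI : Fintype H := Fintype.ofFinite H
  haveI : Fintype K := Fintype.ofFinite K
  haveI : Fintype (MulAction.orbit (H × K) g₀) := Fintype.ofFinite _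
  haveI : Fintype (MulAction.stabilizer (H × K) g₀) := Fintype.ofFinite _
  have h1 := MulAction.card_orbit_mul_card_stabilizer_eq_card_group (H × K) g₀
  rw [← Nat.card_eq_fintype_card, ← Nat.card_eq_fintype_card, ← Nat.card_eq_fintype_card,
    Nat.card_prod] at h1
  rw [← h1]
  congr 1
  apply Nat.card_congr
  exact
    { toFun := fun u => ⟨(⟨u.1, (Subgroup.mem_inf.mp u.2).1⟩,
          ⟨g₀⁻¹ * u.1 * g₀, (mem_cj g₀ K _).mp (Subgroup.mem_inf.mp u.2).2⟩), by
        rw [MulAction.mem_stabilizer_iff]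
        show (u.1 : G) * g₀ * (g₀⁻¹ * u.1 * g₀)⁻¹ = g₀
        group⟩
      invFun := fun p => ⟨(p.1.1 : G), Subgroup.mem_inf.mpr ⟨p.1.1.2, (mem_cj g₀ K _).mpr (by
        have h := p.2
        rw [MulAction.mem_stabilizer_iff] at h
        have h' : (p.1.1 : G) * g₀ * (p.1.2 : G)⁻¹ = g₀ := h
        have h2 : g₀⁻¹ * (p.1.1 : G) * g₀ = (p.1.2 : G) := by
          calc g₀⁻¹ * (p.1.1 : G) * g₀
              = g₀⁻¹ * ((p.1.1 : G) * g₀ * (p.1.2 : G)⁻¹) * (p.1.2 : G) := by group
            _ = (p.1.2 : G) := by rw [h']; group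
        rw [h2]
        exact p.1.2.2)⟩⟩
      left_inv := fun u => rfl
      right_inv := fun p => by
        apply Subtype.ext
        apply Prod.ext
        · rfl
        · apply Subtype.ext
          have h := p.2
          rw [MulAction.mem_stabilizer_iff] at h
          have h' : (p.1.1 : G) * g₀ * (p.1.2 : G)⁻¹ = g₀ := h
          show g₀⁻¹ * (p.1.1 : G) * g₀ = (p.1.2 : G)
          calc g₀⁻¹ * (p.1.1 : G) * g₀
              = g₀⁻¹ * ((p.1.1 : G) * g₀ * (p.1.2 : G)⁻¹) * (p.1.2 : G) := by group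
            _ = (p.1.2 : G) := by rw [h']; group }

theorem main (H K : Subgroup G) :
    ∃ a : Subgroup G → ℕ, (∀ U, a U ≠ 0 → U ≤ H) ∧
      Cfsg.indFun H (fun _ => 1) * Cfsg.indFun K (fun _ => 1)
        = ∑ U : Subgroup G, (a U : ℂ) • Cfsg.indFun U (fun _ => 1) := by
  classical
  letI := dcAction H K
  haveI : Fintype (MulAction.orbitRel.Quotient (H × K) G) := Fintype.ofFinite _
  refine ⟨fun U => (Finset.univ.filter
    (fun ω : MulAction.orbitRel.Quotient (H × K) G => H ⊓ cj ω.out K = U)).card, ?_, ?_⟩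
  · intro U hU
    obtain ⟨ω, hω⟩ := Finset.card_pos.mp (Nat.pos_of_ne_zero hU)
    rw [Finset.mem_filter] at hω
    rw [← hω.2]
    exact inf_le_left
  · rw [prod_eq_sum]
    have hR : ∑ U : Subgroup G, (((Finset.univ.filter
        (fun ω : MulAction.orbitRel.Quotient (H × K) G => H ⊓ cj ω.out K = U)).card : ℕ) : ℂ) •
          Cfsg.indFun U (fun _ => (1:ℂ))
        = ∑ ω : MulAction.orbitRel.Quotient (H × K) G,
            Cfsg.indFun (H ⊓ cj ω.out K) (fun _ => (1:ℂ)) := by
      rw [← Finset.sum_fiberwise (Finset.univ)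
        (fun ω : MulAction.orbitRel.Quotient (H × K) G => H ⊓ cj ω.out K)
        (fun ω => Cfsg.indFun (H ⊓ cj ω.out K) (fun _ => (1:ℂ)))]
      refine Finset.sum_congr rfl (fun U _ => ?_)
      rw [Finset.sum_congr rfl (fun ω hω => by rw [(Finset.mem_filter.mp hω).2]),
        Finset.sum_const, Nat.cast_smul_eq_nsmul]
    rw [hR]
    rw [← Finset.sum_fiberwise (Finset.univ)
      (fun g : G => (Quotient.mk'' g : MulAction.orbitRel.Quotient (H × K) G)) _]
    refine Finset.sum_congr rfl (fun ω _ => ?_)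
    have hiff : ∀ g : G, (Quotient.mk'' g : MulAction.orbitRel.Quotient (H × K) G) = ω
        ↔ g ∈ MulAction.orbit (H × K) ω.out := by
      intro g
      rw [← MulAction.orbitRel.Quotient.mem_orbit,
        MulAction.orbitRel.Quotient.orbit_eq_orbit_out ω Quotient.out_eq']
    have hconst : ∀ g ∈ Finset.univ.filter
        (fun g : G => (Quotient.mk'' g : MulAction.orbitRel.Quotient (H × K) G) = ω),
        ((Nat.card H : ℂ)⁻¹ * (Nat.card K : ℂ)⁻¹ * (Nat.card ↥(H ⊓ cj g K) : ℂ)) •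
          Cfsg.indFun (H ⊓ cj g K) (fun _ => (1:ℂ))
        = ((Nat.card H : ℂ)⁻¹ * (Nat.card K : ℂ)⁻¹ * (Nat.card ↥(H ⊓ cj ω.out K) : ℂ)) •
          Cfsg.indFun (H ⊓ cj ω.out K) (fun _ => (1:ℂ)) := by
      intro g hg
      rw [Finset.mem_filter] at hg
      obtain ⟨p, hp⟩ := MulAction.mem_orbit_iff.mp ((hiff g).mp hg.2)
      have hp' : (p.1 : G) * ω.out * (p.2 : G)⁻¹ = g := hp
      rw [← hp', inf_cj H K ω.out p.1 p.2 p.1.2 p.2.2, indFun_cj, card_cj]
    rw [Finset.sum_congr rfl hconst, Finset.sum_const, ← Nat.cast_smul_eq_nsmul ℂ, smul_smul]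
    have hfib : (Finset.univ.filter
        (fun g : G => (Quotient.mk'' g : MulAction.orbitRel.Quotient (H × K) G) = ω)).card
        = Nat.card (MulAction.orbit (H × K) ω.out) := by
      rw [← Fintype.card_subtype, ← Nat.card_eq_fintype_card]
      apply Nat.card_congr
      exact Equiv.subtypeEquivRight hiff
    have horb := orbit_card H K ω.out
    rw [hfib]
    have hH : (Nat.card H : ℂ) ≠ 0 := natCard_ne_zero_complex _
    have hK : (Nat.card K : ℂ) ≠ 0 := natCard_ne_zero_complex _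
    have h2 : ((Nat.card (MulAction.orbit (H × K) ω.out) : ℕ) : ℂ)
        * (Nat.card ↥(H ⊓ cj ω.out K) : ℂ) = (Nat.card H : ℂ) * (Nat.card K : ℂ) := by
      exact_mod_cast horb
    have h3 : ((Nat.card (MulAction.orbit (H × K) ω.out) : ℕ) : ℂ)
        * ((Nat.card H : ℂ)⁻¹ * (Nat.card K : ℂ)⁻¹ * (Nat.card ↥(H ⊓ cj ω.out K) : ℂ)) = 1 := by
      calc ((Nat.card (MulAction.orbit (H × K) ω.out) : ℕ) : ℂ)
            * ((Nat.card H : ℂ)⁻¹ * (Nat.card K : ℂ)⁻¹ * (Nat.card ↥(H ⊓ cj ω.out K) : ℂ))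
          = (Nat.card H : ℂ)⁻¹ * (Nat.card K : ℂ)⁻¹
            * (((Nat.card (MulAction.orbit (H × K) ω.out) : ℕ) : ℂ)
              * (Nat.card ↥(H ⊓ cj ω.out K) : ℂ)) := by ring
        _ = (Nat.card H : ℂ)⁻¹ * (Nat.card K : ℂ)⁻¹ * ((Nat.card H : ℂ) * (Nat.card K : ℂ)) := by
            rw [h2]
        _ = 1 := by field_simp
    rw [h3, one_smul]

end Cfsg.Agent.Helper2.Mackey
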