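import Mathlib
import Cfsg.Prelude.Def_Characters
import Cfsg.Agent.Lead.CharCore2
import Cfsg.Agent.Lead.CharCore3
import Cfsg.Agent.Lead.CharCore5

/-! Frobenius–Schur indicator via Schur orthogonality of matrix coefficients. -/

namespace Cfsg.Agent.Helper2.FSInd

open Matrix

universe u

variable {G : Type u} [Group G] [Fintype G] {n : ℕ}

/-- matrix of `ρ g` -/
noncomputable def X (ρ : Representation ℂ G (Fin n → ℂ)) (g : G) : Matrix (Fin n) (Fin n) ℂ :=
  LinearMap.toMatrix' (ρ g)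

omit [Fintype G] in
theorem X_mul (ρ : Representation ℂ G (Fin n → ℂ)) (g h : G) : X ρ (g * h) = X ρ g * X ρ h := by
  unfold X
  rw [map_mul]
  exact LinearMap.toMatrix'_mul _ _

omit [Fintype G] in
theorem X_one (ρ : Representation ℂ G (Fin n → ℂ)) : X ρ (1 : G) = 1 := by
  unfold X
  rw [map_one]
  exact LinearMap.toMatrix'_one

omit [Fintype G] in
theorem X_inv_mul (ρ : Representation ℂ G (Fin n → ℂ)) (g : G) : X ρ g⁻¹ * X ρ g = 1 := by
  rw [← X_mul, inv_mul_cancel, X_one]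

omit [Fintype G] in
theorem X_mul_inv (ρ : Representation ℂ G (Fin n → ℂ)) (g : G) : X ρ g * X ρ g⁻¹ = 1 := by
  rw [← X_mul, mul_inv_cancel, X_one]

omit [Fintype G] in
theorem char_eq (ρ : Representation ℂ G (Fin n → ℂ)) (g : G) :
    ρ.character g = (X ρ g).trace := by
  unfold X Representation.character
  rw [LinearMap.trace_eq_matrix_trace ℂ (Pi.basisFun ℂ (Fin n)), LinearMap.toMatrix_eq_toMatrix']

omit [Fintype G] in
theorem schur_mat (ρ : Representation ℂ G (Fin n → ℂ)) (hi : ρ.IsIrreducible)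
    (T : Matrix (Fin n) (Fin n) ℂ) (hT : ∀ g, T * X ρ g = X ρ g * T) :
    ∃ c : ℂ, T = c • (1 : Matrix (Fin n) (Fin n) ℂ) := by
  obtain ⟨c, hc⟩ := Cfsg.Agent.Lead.schur_scalar ρ hi (Matrix.toLin' T) (by
    intro g
    have := congrArg Matrix.toLin' (hT g)
    rw [Matrix.toLin'_mul, Matrix.toLin'_mul] at this
    unfold X at this
    rw [Matrix.toLin'_toMatrix'] at this
    exact this)
  refine ⟨c, ?_⟩
  have := congrArg LinearMap.toMatrix' hc
  rw [LinearMap.toMatrix'_toLin', map_smul, LinearMap.toMatrix'_id] at this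
  exact this

theorem avg (ρ : Representation ℂ G (Fin n → ℂ)) (hi : ρ.IsIrreducible)
    (N : Matrix (Fin n) (Fin n) ℂ) :
    (n : ℂ) • ∑ g : G, X ρ g * N * X ρ g⁻¹
      = ((Fintype.card G : ℂ) * N.trace) • (1 : Matrix (Fin n) (Fin n) ℂ) := by
  obtain ⟨c, hc⟩ := schur_mat ρ hi (∑ g : G, X ρ g * N * X ρ g⁻¹) (by
    intro h
    rw [Finset.sum_mul, Finset.mul_sum]
    refine (Fintype.sum_equiv (Equiv.mulLeft h) _ _ (fun g => ?_)).symm
    simp only [Equiv.coe_mulLeft]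
    rw [_root_.mul_inv_rev, X_mul, X_mul]
    simp only [Matrix.mul_assoc]
    rw [X_inv_mul, Matrix.mul_one])
  have htr := congrArg Matrix.trace hc
  rw [Matrix.trace_sum, Matrix.trace_smul, Matrix.trace_one] at htr
  have h2 : ∀ g : G, (X ρ g * N * X ρ g⁻¹).trace = N.trace := by
    intro g
    rw [Matrix.trace_mul_comm, ← Matrix.mul_assoc, X_inv_mul, Matrix.one_mul]
  simp only [h2, Finset.sum_const, Finset.card_univ, nsmul_eq_mul, Fintype.card_fin,
    smul_eq_mul] at htr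
  rw [hc, smul_smul]
  congr 1
  rw [htr]
  ring

theorem mul_single_entry (A : Matrix (Fin n) (Fin n) ℂ) (j k l x : Fin n) :
    (A * Matrix.single j k (1:ℂ)) l x = if k = x then A l j else 0 := by
  by_cases h : k = x
  · subst h
    rw [Matrix.mul_single_apply_same, mul_one, if_pos rfl]
  · rw [Matrix.mul_single_apply_of_ne (1:ℂ) j k l x (Ne.symm h) A, if_neg h]

theorem sandwich_entry (A B : Matrix (Fin n) (Fin n) ℂ) (j k l i : Fin n) :
    (A * Matrix.single j k (1:ℂ) * B) l i = A l j * B k i := by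
  rw [Matrix.mul_apply]
  simp only [mul_single_entry, ite_mul, zero_mul]
  rw [Finset.sum_ite_eq]
  simp

theorem orth_entry (ρ : Representation ℂ G (Fin n → ℂ)) (hi : ρ.IsIrreducible)
    (i j k l : Fin n) :
    (n : ℂ) * ∑ g : G, X ρ g l j * X ρ g⁻¹ k i
      = if j = k ∧ l = i then (Fintype.card G : ℂ) else 0 := by
  have h := congrFun (congrFun (avg ρ hi (Matrix.single j k (1:ℂ))) l) i
  simp only [Matrix.smul_apply, Matrix.sum_apply, smul_eq_mul, Matrix.one_apply] at h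
  have h2 : ∀ g : G, (X ρ g * Matrix.single j k (1:ℂ) * X ρ g⁻¹) l i
      = X ρ g l j * X ρ g⁻¹ k i := by
    intro g
    exact sandwich_entry _ _ j k l i
  simp only [h2] at h
  rw [h]
  have h3 : (Matrix.single j k (1:ℂ)).trace = if j = k then 1 else 0 := by
    by_cases hjk : j = k
    · subst hjk
      rw [Matrix.trace_single_eq_same, if_pos rfl]
    · rw [Matrix.trace_single_eq_of_ne _ _ _ hjk, if_neg hjk]
  rw [h3]
  by_cases hjk : j = k <;> by_cases hli : l = i <;> simp [hjk, hli]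

theorem twisted_avg (ρ : Representation ℂ G (Fin n → ℂ)) (hi : ρ.IsIrreducible)
    (N : Matrix (Fin n) (Fin n) ℂ) :
    (n : ℂ) • ∑ g : G, (X ρ g⁻¹)ᵀ * N * X ρ g = (Fintype.card G : ℂ) • Nᵀ := by
  ext i j
  simp only [Matrix.smul_apply, Matrix.sum_apply, Matrix.mul_apply, Matrix.transpose_apply,
    smul_eq_mul]
  have h1 : ∀ g : G, ∑ l, (∑ k, X ρ g⁻¹ k i * N k l) * X ρ g l j
      = ∑ k, ∑ l, N k l * (X ρ g l j * X ρ g⁻¹ k i) := by
    intro g
    rw [Finset.sum_comm]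
    refine Finset.sum_congr rfl (fun l _ => ?_)
    rw [Finset.sum_mul]
    refine Finset.sum_congr rfl (fun k _ => ?_)
    ring
  simp only [h1]
  rw [Finset.sum_comm, Finset.mul_sum]
  have h2 : ∀ k : Fin n, (n : ℂ) * ∑ g : G, ∑ l, N k l * (X ρ g l j * X ρ g⁻¹ k i)
      = if j = k then (Fintype.card G : ℂ) * N k i else 0 := by
    intro k
    rw [Finset.sum_comm, Finset.mul_sum]
    have h3 : ∀ l : Fin n, (n : ℂ) * ∑ g : G, N k l * (X ρ g l j * X ρ g⁻¹ k i)
        = if l = i then (if j = k then (Fintype.card G : ℂ) * N k l else 0) else 0 := by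
      intro l
      rw [← Finset.mul_sum, mul_left_comm, orth_entry ρ hi i j k l]
      by_cases hjk : j = k <;> by_cases hli : l = i <;> simp [hjk, hli, mul_comm]
    simp only [h3]
    rw [Finset.sum_ite_eq']
    simp
  simp only [h2]
  rw [Finset.sum_ite_eq]
  simp

theorem sq_sum (ρ : Representation ℂ G (Fin n → ℂ)) (hi : ρ.IsIrreducible) :
    (n : ℂ) • ∑ g : G, X ρ (g * g)
      = (∑ g : G, ρ.character (g * g)) • (1 : Matrix (Fin n) (Fin n) ℂ) := by
  obtain ⟨c, hc⟩ := schur_mat ρ hi (∑ g : G, X ρ (g * g)) (by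
    intro h
    rw [Finset.sum_mul, Finset.mul_sum]
    refine (Fintype.sum_equiv (MulAut.conj h).toEquiv _ _ (fun g => ?_)).symm
    simp only [MulEquiv.toEquiv_eq_coe, EquivLike.coe_coe, MulAut.conj_apply]
    rw [← X_mul, ← X_mul]
    congr 1
    group)
  have htr := congrArg Matrix.trace hc
  rw [Matrix.trace_sum, Matrix.trace_smul, Matrix.trace_one, Fintype.card_fin, smul_eq_mul] at htr
  rw [hc, smul_smul]
  congr 1
  rw [Finset.sum_congr rfl (fun g _ => char_eq ρ (g * g)), htr]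
  ring

omit [Fintype G] in
theorem inv_comm (ρ : Representation ℂ G (Fin n → ℂ)) (M : Matrix (Fin n) (Fin n) ℂ)
    (hM : ∀ g, (X ρ g)ᵀ * M * X ρ g = M) (g : G) : M * X ρ g = (X ρ g⁻¹)ᵀ * M := by
  calc M * X ρ g = ((X ρ g⁻¹)ᵀ * (X ρ g)ᵀ) * M * X ρ g := by
        rw [← Matrix.transpose_mul, X_mul_inv, Matrix.transpose_one, Matrix.one_mul]
    _ = (X ρ g⁻¹)ᵀ * ((X ρ g)ᵀ * M * X ρ g) := by simp only [Matrix.mul_assoc]
    _ = (X ρ g⁻¹)ᵀ * M := by rw [hM g]

omit [Fintype G] in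
theorem n_ne_zero (ρ : Representation ℂ G (Fin n → ℂ)) (hi : ρ.IsIrreducible) : n ≠ 0 := by
  have hnt : Nontrivial (Fin n → ℂ) := ((Cfsg.Agent.Lead.isIrreducible_iff ρ).mp hi).1
  rintro rfl
  obtain ⟨a, b, hab⟩ := hnt
  exact hab (Subsingleton.elim a b)

/-- every invariant bilinear form `M` satisfies `Mᵀ = ν M`. -/
theorem transpose_eq (ρ : Representation ℂ G (Fin n → ℂ)) (hi : ρ.IsIrreducible)
    (M : Matrix (Fin n) (Fin n) ℂ) (hM : ∀ g, (X ρ g)ᵀ * M * X ρ g = M) :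
    Mᵀ = ((Nat.card G : ℂ)⁻¹ * ∑ s : G, ρ.character (s * s)) • M := by
  have hn : (n : ℂ) ≠ 0 := by exact_mod_cast n_ne_zero ρ hi
  have hG : (Fintype.card G : ℂ) ≠ 0 := by exact_mod_cast Fintype.card_ne_zero
  have h2 : M * ∑ g : G, X ρ (g * g) = ∑ g : G, (X ρ g⁻¹)ᵀ * M * X ρ g := by
    rw [Finset.mul_sum]
    refine Finset.sum_congr rfl (fun g _ => ?_)
    rw [X_mul, ← Matrix.mul_assoc, inv_comm ρ M hM g]
  have h3 := twisted_avg ρ hi M
  have h4 := sq_sum ρ hi
  have h5 : (∑ g : G, ρ.character (g * g)) • M = (Fintype.card G : ℂ) • Mᵀ := by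
    rw [← h3, ← h2, ← Matrix.mul_smul, h4, Matrix.mul_smul, Matrix.mul_one]
  rw [Nat.card_eq_fintype_card, ← smul_smul, h5, smul_smul, inv_mul_cancel₀ hG, one_smul]

theorem inv_form (ρ : Representation ℂ G (Fin n → ℂ)) (N : Matrix (Fin n) (Fin n) ℂ) (h : G) :
    (X ρ h)ᵀ * (∑ g : G, (X ρ g)ᵀ * N * X ρ g) * X ρ h = ∑ g : G, (X ρ g)ᵀ * N * X ρ g := by
  rw [Finset.mul_sum, Finset.sum_mul]
  refine Fintype.sum_equiv (Equiv.mulRight h) _ _ (fun g => ?_)
  simp only [Equiv.coe_mulRight]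
  rw [X_mul, Matrix.transpose_mul]
  simp only [Matrix.mul_assoc]

theorem entries_zero (ρ : Representation ℂ G (Fin n → ℂ))
    (h0 : ∀ N : Matrix (Fin n) (Fin n) ℂ, ∑ g : G, (X ρ g)ᵀ * N * X ρ g = 0) (i j k l : Fin n) :
    ∑ g : G, X ρ g k i * X ρ g l j = 0 := by
  have h := congrFun (congrFun (h0 (Matrix.single k l (1:ℂ))) i) j
  simp only [Matrix.sum_apply, Matrix.zero_apply] at h
  have h2 : ∀ g : G, ((X ρ g)ᵀ * Matrix.single k l (1:ℂ) * X ρ g) i j
      = X ρ g k i * X ρ g l j := by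
    intro g
    rw [sandwich_entry, Matrix.transpose_apply]
  simp only [h2] at h
  exact h

theorem exists_form_of_real (ρ : Representation ℂ G (Fin n → ℂ)) (hi : ρ.IsIrreducible)
    (hreal : ∀ g : G, (ρ.character g).im = 0) :
    ∃ M : Matrix (Fin n) (Fin n) ℂ, M ≠ 0 ∧ ∀ g, (X ρ g)ᵀ * M * X ρ g = M := by
  by_contra hcon
  have h0 : ∀ N : Matrix (Fin n) (Fin n) ℂ, ∑ g : G, (X ρ g)ᵀ * N * X ρ g = 0 :=
    fun N => by_contra (fun hne => hcon ⟨_, hne, inv_form ρ N⟩)
  have hz := entries_zero ρ h0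
  have hG : (Fintype.card G : ℂ) ≠ 0 := by exact_mod_cast Fintype.card_ne_zero
  have hirr := Cfsg.Agent.Lead.classInner_self_of_isIrrCharacter
    (Cfsg.Agent.Lead.isIrrCharacter_of_rep ρ hi)
  unfold Cfsg.classInner at hirr
  have h1 : ∑ g : G, ρ.character g * (starRingEnd ℂ) (ρ.character g) = 0 := by
    have h2 : ∀ g : G, ρ.character g * (starRingEnd ℂ) (ρ.character g)
        = ∑ i, ∑ j, X ρ g i i * X ρ g j j := by
      intro g
      rw [Complex.conj_eq_iff_im.mpr (hreal g), char_eq, Matrix.trace, Finset.sum_mul_sum]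
      rfl
    simp only [h2]
    rw [Finset.sum_comm]
    refine Finset.sum_eq_zero (fun i _ => ?_)
    rw [Finset.sum_comm]
    refine Finset.sum_eq_zero (fun j _ => ?_)
    exact hz i j i j
  rw [h1, mul_zero] at hirr
  exact zero_ne_one hirr

theorem exists_form_of_ne_zero (ρ : Representation ℂ G (Fin n → ℂ))
    (hν : ∑ s : G, ρ.character (s * s) ≠ 0) :
    ∃ M : Matrix (Fin n) (Fin n) ℂ, M ≠ 0 ∧ ∀ g, (X ρ g)ᵀ * M * X ρ g = M := by
  by_contra hcon
  have h0 : ∀ N : Matrix (Fin n) (Fin n) ℂ, ∑ g : G, (X ρ g)ᵀ * N * X ρ g = 0 :=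
    fun N => by_contra (fun hne => hcon ⟨_, hne, inv_form ρ N⟩)
  have hz := entries_zero ρ h0
  apply hν
  have h1 : ∑ g : G, X ρ (g * g) = 0 := by
    ext k j
    simp only [Matrix.sum_apply, Matrix.zero_apply, X_mul, Matrix.mul_apply]
    rw [Finset.sum_comm]
    exact Finset.sum_eq_zero (fun i _ => hz i j k i)
  rw [Finset.sum_congr rfl (fun g _ => char_eq ρ (g * g)), ← Matrix.trace_sum, h1,
    Matrix.trace_zero]

omit [Fintype G] in
theorem isUnit_of_inv (ρ : Representation ℂ G (Fin n → ℂ)) (hi : ρ.IsIrreducible)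
    (M : Matrix (Fin n) (Fin n) ℂ) (hM0 : M ≠ 0) (hM : ∀ g, (X ρ g)ᵀ * M * X ρ g = M) :
    IsUnit M := by
  rw [← Matrix.mulVec_injective_iff_isUnit]
  have hirr := (Cfsg.Agent.Lead.isIrreducible_iff ρ).mp hi
  have hW : ∀ g, ∀ v ∈ LinearMap.ker (Matrix.toLin' M), ρ g v ∈ LinearMap.ker (Matrix.toLin' M) := by
    intro g v hv
    rw [LinearMap.mem_ker, Matrix.toLin'_apply] at hv ⊢
    have e1 : ρ g v = (X ρ g).mulVec v := by
      unfold X
      rw [LinearMap.toMatrix'_mulVec]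
    rw [e1, Matrix.mulVec_mulVec, inv_comm ρ M hM g, ← Matrix.mulVec_mulVec, hv, Matrix.mulVec_zero]
  rcases hirr.2 _ hW with h | h
  · intro v w hvw
    have : v - w ∈ LinearMap.ker (Matrix.toLin' M) := by
      rw [LinearMap.mem_ker, Matrix.toLin'_apply, Matrix.mulVec_sub, hvw, sub_self]
    rw [h, Submodule.mem_bot, sub_eq_zero] at this
    exact this
  · exfalso
    apply hM0
    have h1 : Matrix.toLin' M = 0 := LinearMap.ker_eq_top.mp h
    have h2 := congrArg LinearMap.toMatrix' h1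
    rwa [LinearMap.toMatrix'_toLin', map_zero] at h2

omit [Fintype G] in
theorem char_inv_of_form (ρ : Representation ℂ G (Fin n → ℂ)) (hi : ρ.IsIrreducible)
    (M : Matrix (Fin n) (Fin n) ℂ) (hM0 : M ≠ 0) (hM : ∀ g, (X ρ g)ᵀ * M * X ρ g = M) (g : G) :
    ρ.character g⁻¹ = ρ.character g := by
  have hu := isUnit_of_inv ρ hi M hM0 hM
  have h1 := inv_comm ρ M hM g
  rw [char_eq, char_eq]
  obtain ⟨u, rfl⟩ := hu
  have h2 : X ρ g = ((u⁻¹ : (Matrix (Fin n) (Fin n) ℂ)ˣ) : Matrix (Fin n) (Fin n) ℂ)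
      * ((X ρ g⁻¹)ᵀ * (u : Matrix (Fin n) (Fin n) ℂ)) := by
    rw [← h1, ← Matrix.mul_assoc, Units.inv_mul, Matrix.one_mul]
  conv_rhs => rw [h2]
  rw [Matrix.trace_mul_comm, Matrix.mul_assoc, Units.mul_inv, Matrix.mul_one,
    Matrix.trace_transpose]

/-- the trichotomy in matrix form -/
theorem trichotomy (ρ : Representation ℂ G (Fin n → ℂ)) (hi : ρ.IsIrreducible) :
    ((Nat.card G : ℂ)⁻¹ * ∑ s : G, ρ.character (s * s) = 0
      ∨ (Nat.card G : ℂ)⁻¹ * ∑ s : G, ρ.character (s * s) = 1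
      ∨ (Nat.card G : ℂ)⁻¹ * ∑ s : G, ρ.character (s * s) = -1)
    ∧ ((Nat.card G : ℂ)⁻¹ * ∑ s : G, ρ.character (s * s) = 0 ↔ ∃ s : G, (ρ.character s).im ≠ 0) := by
  have hG : (Nat.card G : ℂ) ≠ 0 := by
    rw [Nat.card_eq_fintype_card]
    exact_mod_cast Fintype.card_ne_zero
  by_cases hreal : ∀ g : G, (ρ.character g).im = 0
  · obtain ⟨M, hM0, hM⟩ := exists_form_of_real ρ hi hreal
    have h1 := transpose_eq ρ hi M hM
    have h2 : M = ((Nat.card G : ℂ)⁻¹ * ∑ s : G, ρ.character (s * s)) •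
        (((Nat.card G : ℂ)⁻¹ * ∑ s : G, ρ.character (s * s)) • M) := by
      conv_lhs => rw [← Matrix.transpose_transpose M, h1, Matrix.transpose_smul, h1]
    have h3 : (((Nat.card G : ℂ)⁻¹ * ∑ s : G, ρ.character (s * s)) ^ 2 - 1) • M = 0 := by
      rw [sub_smul, one_smul, sq, ← smul_smul, ← h2, sub_self]
    rcases smul_eq_zero.mp h3 with h4 | h4
    · have h5 : ((Nat.card G : ℂ)⁻¹ * ∑ s : G, ρ.character (s * s) - 1)
          * ((Nat.card G : ℂ)⁻¹ * ∑ s : G, ρ.character (s * s) + 1) = 0 := by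
        linear_combination h4
      rcases mul_eq_zero.mp h5 with h6 | h6
      · have h7 := sub_eq_zero.mp h6
        refine ⟨Or.inr (Or.inl h7), ?_⟩
        rw [h7]
        constructor
        · intro h; exact absurd h one_ne_zero
        · rintro ⟨s, hs⟩; exact absurd (hreal s) hs
      · have h7 := eq_neg_of_add_eq_zero_left h6
        refine ⟨Or.inr (Or.inr h7), ?_⟩
        rw [h7]
        constructor
        · intro h; exact absurd h (neg_ne_zero.mpr one_ne_zero)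
        · rintro ⟨s, hs⟩; exact absurd (hreal s) hs
    · exact absurd h4 hM0
  · have hν : (Nat.card G : ℂ)⁻¹ * ∑ s : G, ρ.character (s * s) = 0 := by
      by_contra hne
      have hne' : ∑ s : G, ρ.character (s * s) ≠ 0 := by
        intro h0
        exact hne (by rw [h0, mul_zero])
      obtain ⟨M, hM0, hM⟩ := exists_form_of_ne_zero ρ hne'
      apply hreal
      intro g
      have h1 := char_inv_of_form ρ hi M hM0 hM g
      rw [Cfsg.Agent.Lead.isCharacter_inv (Cfsg.Agent.Lead.isCharacter_of_rep ρ) g] at h1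
      exact Complex.conj_eq_iff_im.mp h1
    refine ⟨Or.inl hν, ?_⟩
    constructor
    · intro _
      by_contra hcon
      exact hreal (fun g => by_contra (fun hg => hcon ⟨g, hg⟩))
    · intro _
      exact hν

/-- real, odd degree ⇒ indicator `1` -/
theorem odd_real (ρ : Representation ℂ G (Fin n → ℂ)) (hi : ρ.IsIrreducible)
    (hreal : ∀ g : G, (ρ.character g).im = 0) (hodd : Odd n) :
    (Nat.card G : ℂ)⁻¹ * ∑ s : G, ρ.character (s * s) = 1 := by
  obtain ⟨M, hM0, hM⟩ := exists_form_of_real ρ hi hreal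
  have h1 := transpose_eq ρ hi M hM
  rcases (trichotomy ρ hi).1 with h | h | h
  · exfalso
    obtain ⟨s, hs⟩ := (trichotomy ρ hi).2.mp h
    exact hs (hreal s)
  · exact h
  · exfalso
    rw [h] at h1
    have hu := isUnit_of_inv ρ hi M hM0 hM
    have hdet : M.det ≠ 0 := by
      have := (Matrix.isUnit_iff_isUnit_det M).mp hu
      exact this.ne_zero
    have h2 := congrArg Matrix.det h1
    rw [Matrix.det_transpose, Matrix.det_smul, Fintype.card_fin, hodd.neg_one_pow] at h2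
    have h3 : (2 : ℂ) * M.det = 0 := by linear_combination h2
    rcases mul_eq_zero.mp h3 with h4 | h4
    · exact two_ne_zero h4
    · exact hdet h4

end Cfsg.Agent.Helper2.FSInd
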