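import Mathlib
import Cfsg.Agent.Helper2.FSInd
import Cfsg.Agent.Helper2.CharKer
import Cfsg.Agent.Lead.CharCore4
import Cfsg.Agent.Lead.CharOdd

/-! Frobenius–Schur count of involutions and the Brauer–Fowler type bounds. -/

namespace Cfsg.Agent.Helper2.FSInd

universe u

variable {G : Type u} [Group G] [Fintype G]

theorem indicator_cases (χ : Cfsg.IrrCharacter G) :
    ((Nat.card G : ℂ)⁻¹ * ∑ s : G, (χ : G → ℂ) (s * s) = 0
      ∨ (Nat.card G : ℂ)⁻¹ * ∑ s : G, (χ : G → ℂ) (s * s) = 1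
      ∨ (Nat.card G : ℂ)⁻¹ * ∑ s : G, (χ : G → ℂ) (s * s) = -1)
    ∧ ((Nat.card G : ℂ)⁻¹ * ∑ s : G, (χ : G → ℂ) (s * s) = 0
        ↔ ∃ s : G, ((χ : G → ℂ) s).im ≠ 0) := by
  obtain ⟨χ, n, ρ, hi, rfl⟩ := χ
  exact trichotomy ρ hi

omit [Fintype G] in
theorem degree_eq [Finite G] (χ : Cfsg.IrrCharacter G) :
    (χ : G → ℂ) 1 = (Cfsg.charDegree (χ : G → ℂ) : ℂ) := by
  obtain ⟨K, _, _, _, _, h, _⟩ := Cfsg.Agent.Helper2.CharKer.exists_ker χ
  exact h

theorem fs_count [Fintype (Cfsg.IrrCharacter G)] :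
    ∑ χ : Cfsg.IrrCharacter G, ((Nat.card G : ℂ)⁻¹ * ∑ s : G, (χ : G → ℂ) (s * s))
        * (Cfsg.charDegree (χ : G → ℂ) : ℂ)
      = (Nat.card {s : G // s * s = 1} : ℂ) := by
  classical
  have hG : (Nat.card G : ℂ) ≠ 0 := by
    rw [Nat.card_eq_fintype_card]
    exact_mod_cast Fintype.card_ne_zero
  have h1 : ∀ s : G, ∑ χ : Cfsg.IrrCharacter G,
      (χ : G → ℂ) (s * s) * (Cfsg.charDegree (χ : G → ℂ) : ℂ)
      = if s * s = 1 then (Nat.card G : ℂ) else 0 := by
    intro s
    have h2 : ∀ χ : Cfsg.IrrCharacter G, (χ : G → ℂ) (s * s) * (Cfsg.charDegree (χ : G → ℂ) : ℂ)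
        = (χ : G → ℂ) (s * s) * (starRingEnd ℂ) ((χ : G → ℂ) 1) := by
      intro χ
      rw [degree_eq χ, Complex.conj_natCast]
    simp only [h2]
    by_cases hs : s * s = 1
    · rw [if_pos hs]
      have h3 := Cfsg.Agent.Lead.column_orth_of_isConj (G := G) (g := s * s) (h := 1)
        (by rw [hs])
      rw [finsum_eq_sum_of_fintype] at h3
      rw [h3, hs]
      have h4 : Subgroup.centralizer ({1} : Set G) = ⊤ := by
        rw [eq_top_iff]
        intro x _
        rw [Subgroup.mem_centralizer_singleton_iff]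
        simp
      rw [h4, Subgroup.card_top]
    · rw [if_neg hs]
      have h3 := Cfsg.Agent.Lead.column_orth_of_not_isConj (G := G) (g := s * s) (h := 1) (by
        rw [isConj_one_left]
        exact hs)
      rw [finsum_eq_sum_of_fintype] at h3
      exact h3
  calc ∑ χ : Cfsg.IrrCharacter G, ((Nat.card G : ℂ)⁻¹ * ∑ s : G, (χ : G → ℂ) (s * s))
          * (Cfsg.charDegree (χ : G → ℂ) : ℂ)
      = (Nat.card G : ℂ)⁻¹ * ∑ s : G, ∑ χ : Cfsg.IrrCharacter G,
          (χ : G → ℂ) (s * s) * (Cfsg.charDegree (χ : G → ℂ) : ℂ) := by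
        rw [Finset.sum_comm, Finset.mul_sum]
        refine Finset.sum_congr rfl (fun χ _ => ?_)
        rw [mul_assoc, Finset.sum_mul]
    _ = (Nat.card G : ℂ)⁻¹ * ∑ s : G, (if s * s = 1 then (Nat.card G : ℂ) else 0) := by
        simp only [h1]
    _ = (Nat.card {s : G // s * s = 1} : ℂ) := by
        rw [← Finset.sum_filter, Finset.sum_const, nsmul_eq_mul, mul_left_comm,
          inv_mul_cancel₀ hG, mul_one, Nat.card_eq_fintype_card, Fintype.card_subtype]

theorem sqrt_one_count (t : ℕ) (ht : Nat.card {x : G // orderOf x = 2} = t) :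
    Nat.card {s : G // s * s = 1} = t + 1 := by
  classical
  rw [Nat.card_eq_fintype_card, Fintype.card_subtype] at ht ⊢
  have h1 : (Finset.univ.filter (fun s : G => s * s = 1))
      = insert 1 (Finset.univ.filter (fun x : G => orderOf x = 2)) := by
    ext s
    simp only [Finset.mem_filter, Finset.mem_univ, true_and, Finset.mem_insert]
    haveI : Fact (Nat.Prime 2) := ⟨Nat.prime_two⟩
    rw [orderOf_eq_prime_iff, pow_two]
    constructor
    · intro h
      by_cases hs : s = 1
      · exact Or.inl hs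
      · exact Or.inr ⟨h, hs⟩
    · rintro (h | h)
      · rw [h, mul_one]
      · exact h.1
  rw [h1, Finset.card_insert_of_notMem, ht]
  simp

theorem comm_count :
    ∑ x : G, Nat.card (Subgroup.centralizer ({x} : Set G)) = Nat.card (ConjClasses G) * Nat.card G := by
  classical
  rw [← card_comm_eq_card_conjClasses_mul_card, Nat.card_eq_fintype_card, Fintype.card_subtype,
    Finset.card_filter, Fintype.sum_prod_type]
  refine Finset.sum_congr rfl (fun x _ => ?_)
  rw [Nat.card_eq_fintype_card, Fintype.card_subtype, Finset.card_filter]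
  refine Finset.sum_congr rfl (fun y _ => ?_)
  have : y ∈ Subgroup.centralizer ({x} : Set G) ↔ Commute x y := by
    rw [Subgroup.mem_centralizer_singleton_iff]
    constructor
    · intro h; exact h.symm
    · intro h; exact h.eq.symm
  simp only [this]

theorem brauer_fowler (heven : Even (Nat.card G)) (t : ℕ)
    (ht : Nat.card {x : G // orderOf x = 2} = t) :
    (∃ x : G, x ≠ 1 ∧ ((Subgroup.centralizer ({x} : Set G)).index : ℚ)
        ≤ (((Nat.card G : ℚ) - 1) / t) ^ 2)
    ∧ ∃ χ : Cfsg.IrrCharacter G, (χ : G → ℂ) ≠ (fun _ => 1) ∧ (∀ g : G, ((χ : G → ℂ) g).im = 0)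
      ∧ (Cfsg.charDegree (χ : G → ℂ) : ℚ) ≤ ((Nat.card G : ℚ) - 1) / t := by
  classical
  haveI : Finite (Cfsg.IrrCharacter G) := Cfsg.Agent.Lead.finite_irrCharacter G
  haveI : Fintype (Cfsg.IrrCharacter G) := Fintype.ofFinite _
  have htriv : Cfsg.IsIrrCharacter G (fun _ => (1:ℂ)) := Cfsg.Agent.Lead.isIrrCharacter_one
  obtain ⟨g', hg'⟩ : ∃ g', Nat.card G = g' + 1 :=
    ⟨Nat.card G - 1, by have := Nat.card_pos (α := G); omega⟩
  have hg'1 : 1 ≤ g' := by
    rcases heven with ⟨m, hm⟩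
    omega
  have ht1 : 1 ≤ t := by
    haveI : Fact (Nat.Prime 2) := ⟨Nat.prime_two⟩
    obtain ⟨x, hx⟩ := exists_prime_orderOf_dvd_card 2 (G := G) (by
      rw [← Nat.card_eq_fintype_card]
      exact heven.two_dvd)
    rw [← ht]
    haveI : Nonempty {x : G // orderOf x = 2} := ⟨⟨x, hx⟩⟩
    exact Nat.card_pos
  have hcount := sqrt_one_count t ht
  -- the set of real nonprincipal characters
  have hdtriv : Cfsg.charDegree ((⟨fun _ => 1, htriv⟩ : Cfsg.IrrCharacter G) : G → ℂ) = 1 := by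
    simp [Cfsg.charDegree]
  have hsq := Cfsg.Agent.Helper2.CharKer.sum_degree_sq (G := G)
  rw [hg'] at hsq
  have hF1 : t ≤ ∑ χ ∈ Finset.univ.filter (fun χ : Cfsg.IrrCharacter G =>
      χ ≠ ⟨fun _ => 1, htriv⟩ ∧ ∀ g : G, ((χ : G → ℂ) g).im = 0),
      Cfsg.charDegree (χ : G → ℂ) := by
    have h1 := fs_count (G := G)
    rw [hcount] at h1
    have h2 := congrArg Complex.re h1
    rw [Complex.re_sum] at h2
    have h3 : ∀ χ : Cfsg.IrrCharacter G,
        (((Nat.card G : ℂ)⁻¹ * ∑ s : G, (χ : G → ℂ) (s * s))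
          * (Cfsg.charDegree (χ : G → ℂ) : ℂ)).re
        ≤ ((if (∀ g : G, ((χ : G → ℂ) g).im = 0) then Cfsg.charDegree (χ : G → ℂ) else 0 : ℕ) : ℝ) := by
      intro χ
      obtain ⟨hc, hiff⟩ := indicator_cases χ
      rcases hc with h | h | h
      · rw [h, zero_mul, Complex.zero_re]
        exact Nat.cast_nonneg _
      · have hr : ∀ g : G, ((χ : G → ℂ) g).im = 0 := by
          by_contra hcon
          push_neg at hcon
          have := hiff.mpr hcon
          rw [h] at this
          exact one_ne_zero this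
        rw [h, one_mul, if_pos hr]
        simp
      · rw [h]
        have : ((-1 : ℂ) * (Cfsg.charDegree (χ : G → ℂ) : ℂ)).re
            = - (Cfsg.charDegree (χ : G → ℂ) : ℝ) := by simp
        rw [this]
        have h0 : (0:ℝ) ≤ (Cfsg.charDegree (χ : G → ℂ) : ℝ) := Nat.cast_nonneg _
        have h0' : (0:ℝ) ≤ ((if (∀ g : G, ((χ : G → ℂ) g).im = 0) then
            Cfsg.charDegree (χ : G → ℂ) else 0 : ℕ) : ℝ) := Nat.cast_nonneg _
        linarith
    have h4 : ((t + 1 : ℕ) : ℝ) ≤ ((∑ χ : Cfsg.IrrCharacter G,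
        (if (∀ g : G, ((χ : G → ℂ) g).im = 0) then Cfsg.charDegree (χ : G → ℂ) else 0) : ℕ) : ℝ) := by
      rw [Nat.cast_sum]
      have : (((t + 1 : ℕ) : ℂ)).re = ((t + 1 : ℕ) : ℝ) := Complex.natCast_re _
      rw [← this, ← h2]
      exact Finset.sum_le_sum (fun χ _ => h3 χ)
    have h5 : t + 1 ≤ ∑ χ : Cfsg.IrrCharacter G,
        (if (∀ g : G, ((χ : G → ℂ) g).im = 0) then Cfsg.charDegree (χ : G → ℂ) else 0) := by
      exact_mod_cast h4
    rw [← Finset.sum_filter] at h5
    have h6 : Finset.univ.filter (fun χ : Cfsg.IrrCharacter G => ∀ g : G, ((χ : G → ℂ) g).im = 0)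
        = insert ⟨fun _ => 1, htriv⟩ (Finset.univ.filter (fun χ : Cfsg.IrrCharacter G =>
          χ ≠ ⟨fun _ => 1, htriv⟩ ∧ ∀ g : G, ((χ : G → ℂ) g).im = 0)) := by
      ext χ
      simp only [Finset.mem_filter, Finset.mem_univ, true_and, Finset.mem_insert]
      constructor
      · intro h
        by_cases hχ : χ = ⟨fun _ => 1, htriv⟩
        · exact Or.inl hχ
        · exact Or.inr ⟨hχ, h⟩
      · rintro (h | h)
        · rw [h]
          intro g
          simp
        · exact h.2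
    rw [h6, Finset.sum_insert (by simp), hdtriv] at h5
    omega
  have hF2 : ∑ χ ∈ Finset.univ.filter (fun χ : Cfsg.IrrCharacter G =>
      χ ≠ ⟨fun _ => 1, htriv⟩ ∧ ∀ g : G, ((χ : G → ℂ) g).im = 0),
      Cfsg.charDegree (χ : G → ℂ) ^ 2 ≤ g' := by
    have h1 : ∑ χ ∈ insert (⟨fun _ => 1, htriv⟩ : Cfsg.IrrCharacter G)
        (Finset.univ.filter (fun χ : Cfsg.IrrCharacter G =>
          χ ≠ ⟨fun _ => 1, htriv⟩ ∧ ∀ g : G, ((χ : G → ℂ) g).im = 0)),
        Cfsg.charDegree (χ : G → ℂ) ^ 2 ≤ ∑ χ : Cfsg.IrrCharacter G,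
          Cfsg.charDegree (χ : G → ℂ) ^ 2 :=
      Finset.sum_le_sum_of_subset (Finset.subset_univ _)
    rw [Finset.sum_insert (by simp), hdtriv, hsq] at h1
    omega
  set R := Finset.univ.filter (fun χ : Cfsg.IrrCharacter G =>
      χ ≠ ⟨fun _ => 1, htriv⟩ ∧ ∀ g : G, ((χ : G → ℂ) g).im = 0) with hR
  constructor
  · -- (a)
    have hk : ∑ x : G, Nat.card (Subgroup.centralizer ({x} : Set G))
        = Fintype.card (Cfsg.IrrCharacter G) * (g' + 1) := by
      rw [comm_count, ← Cfsg.Agent.Lead.card_irrCharacter, hg', Nat.card_eq_fintype_card]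
    have hmem : (⟨fun _ => 1, htriv⟩ : Cfsg.IrrCharacter G) ∈ Finset.univ := Finset.mem_univ _
    have hk' : (Finset.univ.erase (⟨fun _ => 1, htriv⟩ : Cfsg.IrrCharacter G)).card + 1
        = Fintype.card (Cfsg.IrrCharacter G) := by
      rw [← Finset.card_univ]
      exact Finset.card_erase_add_one hmem
    have hCS := sq_sum_le_card_mul_sum_sq
      (s := Finset.univ.erase (⟨fun _ => 1, htriv⟩ : Cfsg.IrrCharacter G))
      (f := fun χ : Cfsg.IrrCharacter G => Cfsg.charDegree (χ : G → ℂ))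
    have hE : ∑ χ ∈ Finset.univ.erase (⟨fun _ => 1, htriv⟩ : Cfsg.IrrCharacter G),
        Cfsg.charDegree (χ : G → ℂ) ^ 2 = g' := by
      have := Finset.add_sum_erase Finset.univ
        (fun χ : Cfsg.IrrCharacter G => Cfsg.charDegree (χ : G → ℂ) ^ 2) hmem
      rw [hsq] at this
      simp only [hdtriv, one_pow] at this
      exact Nat.add_left_cancel (this.trans (Nat.add_comm g' 1))
    rw [hE] at hCS
    have hsub : R ⊆ Finset.univ.erase (⟨fun _ => 1, htriv⟩ : Cfsg.IrrCharacter G) := by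
      intro χ hχ
      rw [hR, Finset.mem_filter] at hχ
      exact Finset.mem_erase.mpr ⟨hχ.2.1, Finset.mem_univ _⟩
    have hle : t ≤ ∑ χ ∈ Finset.univ.erase (⟨fun _ => 1, htriv⟩ : Cfsg.IrrCharacter G),
        Cfsg.charDegree (χ : G → ℂ) :=
      hF1.trans (Finset.sum_le_sum_of_subset hsub)
    set k' := (Finset.univ.erase (⟨fun _ => 1, htriv⟩ : Cfsg.IrrCharacter G)).card with hk'def
    have ht2 : t ^ 2 ≤ k' * g' := (Nat.pow_le_pow_left hle 2).trans hCS
    by_contra hcon
    push_neg at hcon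
    have hx : ∀ x : G, x ≠ 1 →
        Nat.card (Subgroup.centralizer ({x} : Set G)) * g' ^ 2 < (g' + 1) * t ^ 2 := by
      intro x hx1
      have h1 := hcon x hx1
      have hcast : (Nat.card G : ℚ) - 1 = (g' : ℚ) := by
        rw [hg']
        push_cast
        ring
      rw [hcast, div_pow, div_lt_iff₀ (by positivity)] at h1
      have h2 : g' ^ 2 < (Subgroup.centralizer ({x} : Set G)).index * t ^ 2 := by
        exact_mod_cast h1
      have h3 := Subgroup.card_mul_index (Subgroup.centralizer ({x} : Set G))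
      rw [hg'] at h3
      have hpos : 0 < Nat.card (Subgroup.centralizer ({x} : Set G)) := Nat.card_pos
      calc Nat.card (Subgroup.centralizer ({x} : Set G)) * g' ^ 2
          < Nat.card (Subgroup.centralizer ({x} : Set G))
              * ((Subgroup.centralizer ({x} : Set G)).index * t ^ 2) :=
            Nat.mul_lt_mul_of_pos_left h2 hpos
        _ = (g' + 1) * t ^ 2 := by rw [← mul_assoc, h3]
    have hne : (Finset.univ.erase (1 : G)).Nonempty := by
      rw [← Finset.card_pos, Finset.card_erase_of_mem (Finset.mem_univ _), Finset.card_univ,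
        ← Nat.card_eq_fintype_card, hg']
      omega
    have hsum : ∑ x ∈ Finset.univ.erase (1 : G),
        Nat.card (Subgroup.centralizer ({x} : Set G)) * g' ^ 2
        < ∑ x ∈ Finset.univ.erase (1 : G), (g' + 1) * t ^ 2 :=
      Finset.sum_lt_sum_of_nonempty hne (fun x hx' => hx x (Finset.ne_of_mem_erase hx'))
    rw [Finset.sum_const, Finset.card_erase_of_mem (Finset.mem_univ _), Finset.card_univ,
      ← Nat.card_eq_fintype_card, hg', Nat.add_sub_cancel, smul_eq_mul, ← Finset.sum_mul] at hsum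
    have hc1 : Nat.card (Subgroup.centralizer ({(1:G)} : Set G)) = g' + 1 := by
      have h4 : Subgroup.centralizer ({1} : Set G) = ⊤ := by
        rw [eq_top_iff]
        intro x _
        rw [Subgroup.mem_centralizer_singleton_iff]
        simp
      rw [h4, Subgroup.card_top, hg']
    have hsplit := Finset.add_sum_erase Finset.univ
      (fun x : G => Nat.card (Subgroup.centralizer ({x} : Set G))) (Finset.mem_univ (1:G))
    rw [hk, hc1, ← hk'] at hsplit
    have hS : ∑ x ∈ Finset.univ.erase (1 : G), Nat.card (Subgroup.centralizer ({x} : Set G))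
        = k' * (g' + 1) := by
      have : (k' + 1) * (g' + 1) = (g' + 1) + k' * (g' + 1) := by ring
      omega
    rw [hS] at hsum
    have hfin : g' * ((g' + 1) * t ^ 2) ≤ g' * ((g' + 1) * (k' * g')) :=
      Nat.mul_le_mul_left _ (Nat.mul_le_mul_left _ ht2)
    have : k' * (g' + 1) * g' ^ 2 = g' * ((g' + 1) * (k' * g')) := by ring
    omega
  · -- (b)
    have hex : ∃ χ ∈ R, t * Cfsg.charDegree (χ : G → ℂ) ≤ g' := by
      by_contra hcon
      push_neg at hcon
      have h1 : (g' + 1) * t ≤ t * g' := by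
        calc (g' + 1) * t ≤ (g' + 1) * ∑ χ ∈ R, Cfsg.charDegree (χ : G → ℂ) :=
              Nat.mul_le_mul_left _ hF1
          _ = ∑ χ ∈ R, (g' + 1) * Cfsg.charDegree (χ : G → ℂ) := Finset.mul_sum _ _ _
          _ ≤ ∑ χ ∈ R, t * Cfsg.charDegree (χ : G → ℂ) ^ 2 := by
              refine Finset.sum_le_sum (fun χ hχ => ?_)
              have := hcon χ hχ
              calc (g' + 1) * Cfsg.charDegree (χ : G → ℂ)
                  ≤ (t * Cfsg.charDegree (χ : G → ℂ)) * Cfsg.charDegree (χ : G → ℂ) :=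
                    Nat.mul_le_mul_right _ this
                _ = t * Cfsg.charDegree (χ : G → ℂ) ^ 2 := by ring
          _ = t * ∑ χ ∈ R, Cfsg.charDegree (χ : G → ℂ) ^ 2 := (Finset.mul_sum _ _ _).symm
          _ ≤ t * g' := Nat.mul_le_mul_left _ hF2
      have h2 : t * g' < (g' + 1) * t := by
        have : (g' + 1) * t = t * g' + t := by ring
        omega
      omega
    obtain ⟨χ, hχR, hχ⟩ := hex
    rw [hR, Finset.mem_filter] at hχR
    refine ⟨χ, ?_, hχR.2.2, ?_⟩
    · intro h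
      apply hχR.2.1
      exact Subtype.ext h
    · have hcast : (Nat.card G : ℚ) - 1 = (g' : ℚ) := by
        rw [hg']
        push_cast
        ring
      rw [hcast, le_div_iff₀ (by exact_mod_cast ht1)]
      have : Cfsg.charDegree (χ : G → ℂ) * t ≤ g' := by rwa [mul_comm]
      exact_mod_cast this

end Cfsg.Agent.Helper2.FSInd
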