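import Mathlib
import Cfsg.Agent.Helper2.FSCount
import Cfsg.Agent.Helper2.CharN3
import Cfsg.Agent.S0146
import Cfsg.Agent.S0148
import Cfsg.Agent.Lead.CharOdd

/-! Real orthogonal constituents of a permutation character. -/

namespace Cfsg.Agent.Helper2.PermFS

open Cfsg.Agent.Lead Cfsg.Agent.Helper2.CharN

universe u

variable {G : Type u} [Group G] [Fintype G]

theorem ind_core_mul (H : Subgroup G) (n x : G) (hn : n ∈ H.normalCore) :
    Cfsg.indFun H (fun _ : H => (1:ℂ)) (n * x) = Cfsg.indFun H (fun _ : H => (1:ℂ)) x := by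
  rw [indFun_apply, indFun_apply]
  congr 1
  refine Finset.sum_congr rfl (fun y _ => ?_)
  have h1 : y⁻¹ * (n * x) * y = (y⁻¹ * n * y) * (y⁻¹ * x * y) := by group
  have h2 : y⁻¹ * n * y ∈ H := by
    have h3 := (inferInstance : H.normalCore.Normal).conj_mem n hn y⁻¹
    rw [inv_inv] at h3
    exact Subgroup.normalCore_le H h3
  by_cases hx : y⁻¹ * x * y ∈ H
  · rw [extendByZero_mem H _ hx, extendByZero_mem H _ (by rw [h1]; exact H.mul_mem h2 hx)]
  · rw [extendByZero_not_mem H _ hx, extendByZero_not_mem H _ (by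
      rw [h1]
      intro h
      exact hx ((H.mul_mem_cancel_left h2).mp h))]

theorem const_on_cosets (K : Subgroup G) [hK : K.Normal] (f : G → ℂ)
    (hf : ∀ n ∈ K, ∀ x, f (n * x) = f x)
    {χ : G → ℂ} (hχ : Cfsg.IsIrrCharacter G χ) (hne : Cfsg.classInner f χ ≠ 0) :
    ∀ n ∈ K, ∀ g : G, χ (n * g) = χ g := by
  classical
  haveI : Fintype K := Fintype.ofFinite K
  obtain ⟨h1, h2⟩ := sum_coset_irr K hχ
  by_cases h0 : ∑ n : K, χ n = 0
  · exfalso
    apply hne
    have h3 := h2 h0
    unfold Cfsg.classInner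
    have h4 : (Fintype.card K : ℂ) * ∑ x : G, f x * (starRingEnd ℂ) (χ x) = 0 := by
      calc (Fintype.card K : ℂ) * ∑ x : G, f x * (starRingEnd ℂ) (χ x)
          = ∑ n : K, ∑ x : G, f x * (starRingEnd ℂ) (χ x) := by
            rw [Finset.sum_const, Finset.card_univ, nsmul_eq_mul]
        _ = ∑ n : K, ∑ x : G, f ((n : G) * x) * (starRingEnd ℂ) (χ ((n : G) * x)) := by
            refine Finset.sum_congr rfl (fun n _ => ?_)
            exact (Fintype.sum_equiv (Equiv.mulLeft (n : G))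
              (fun x => f ((n : G) * x) * (starRingEnd ℂ) (χ ((n : G) * x)))
              (fun x => f x * (starRingEnd ℂ) (χ x)) (fun x => rfl)).symm
        _ = ∑ x : G, f x * (starRingEnd ℂ) (∑ n : K, χ ((n : G) * x)) := by
            rw [Finset.sum_comm]
            refine Finset.sum_congr rfl (fun x _ => ?_)
            rw [map_sum, Finset.mul_sum]
            refine Finset.sum_congr rfl (fun n _ => ?_)
            rw [hf n n.2 x]
        _ = 0 := by
            refine Finset.sum_eq_zero (fun x _ => ?_)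
            rw [h3 x, map_zero, mul_zero]
    have hK0 : (Fintype.card K : ℂ) ≠ 0 := by exact_mod_cast Fintype.card_ne_zero
    rw [(mul_eq_zero.mp h4).resolve_left hK0, mul_zero]
  · intro n hn g
    exact h1 h0 ⟨n, hn⟩ g

theorem sum_mk (K : Subgroup G) [Fintype K] [Fintype (G ⧸ K)] (F : G ⧸ K → ℂ) :
    ∑ g : G, F (QuotientGroup.mk g) = (Fintype.card K : ℂ) * ∑ q : G ⧸ K, F q := by
  classical
  have hbij : Function.Bijective (fun p : (G ⧸ K) × K => p.1.out * (p.2 : G)) := by
    constructor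
    · rintro ⟨q, k⟩ ⟨q', k'⟩ h
      simp only at h
      have hq : q = q' := by
        have h1 : (QuotientGroup.mk (q.out * (k : G)) : G ⧸ K)
            = QuotientGroup.mk (q'.out * (k' : G)) := by rw [h]
        rwa [QuotientGroup.mk_mul_of_mem _ k.2, QuotientGroup.mk_mul_of_mem _ k'.2,
          QuotientGroup.out_eq', QuotientGroup.out_eq'] at h1
      subst hq
      have h2 : (k : G) = k' := mul_left_cancel h
      rw [Subtype.ext h2]
    · intro g
      refine ⟨(QuotientGroup.mk g, ⟨(QuotientGroup.mk g : G ⧸ K).out⁻¹ * g, ?_⟩), ?_⟩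
      · exact QuotientGroup.eq.mp (QuotientGroup.out_eq' _)
      · simp
  rw [← Fintype.sum_bijective _ hbij (fun p => F p.1) (fun g => F (QuotientGroup.mk g)) ?_,
    Fintype.sum_prod_type]
  · rw [Finset.mul_sum]
    refine Finset.sum_congr rfl (fun q _ => ?_)
    show ∑ _y : K, F q = _
    rw [Finset.sum_const, Finset.card_univ, nsmul_eq_mul]
  · rintro ⟨q, k⟩
    simp only
    rw [QuotientGroup.mk_mul_of_mem _ k.2, QuotientGroup.out_eq']

theorem sum_sq_eq (K : Subgroup G) [hK : K.Normal] (hodd : Odd K.index) (χ : G → ℂ)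
    (hχ : ∀ n ∈ K, ∀ g : G, χ (n * g) = χ g) :
    ∑ g : G, χ (g * g) = ∑ g : G, χ g := by
  classical
  haveI : Fintype K := Fintype.ofFinite K
  haveI : Fintype (G ⧸ K) := Fintype.ofFinite _
  have hχb : ∀ g : G, χ g = χ (QuotientGroup.mk g : G ⧸ K).out := by
    intro g
    obtain ⟨k, hk⟩ := QuotientGroup.mk_out_eq_mul K g
    rw [hk]
    have h1 : g * (k : G) = (g * k * g⁻¹) * g := by group
    rw [h1, hχ _ (hK.conj_mem k k.2 g)]
  have h1 : ∑ g : G, χ (g * g)
      = ∑ g : G, (fun q : G ⧸ K => χ (q * q).out) (QuotientGroup.mk g) := by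
    refine Finset.sum_congr rfl (fun g _ => ?_)
    rw [hχb (g * g)]
    rfl
  have h2 : ∑ g : G, χ g = ∑ g : G, (fun q : G ⧸ K => χ q.out) (QuotientGroup.mk g) :=
    Finset.sum_congr rfl (fun g _ => hχb g)
  rw [h1, h2, sum_mk K (fun q : G ⧸ K => χ (q * q).out), sum_mk K (fun q : G ⧸ K => χ q.out)]
  congr 1
  have hcop : Nat.Coprime (Nat.card (G ⧸ K)) 2 := by
    rw [← Subgroup.index_eq_card]
    exact Nat.Coprime.symm (Nat.coprime_two_left.mpr hodd)
  exact Fintype.sum_equiv (powCoprime hcop) _ _ (fun q => by simp [powCoprime, pow_two])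

open Classical in
theorem sum_ind_sq (H : Subgroup G) :
    ∑ g : G, Cfsg.indFun H (fun _ : H => (1:ℂ)) (g * g)
      = (Nat.card H : ℂ)⁻¹ * ((Nat.card G : ℂ)
          * ((Finset.univ.filter (fun g : G => g * g ∈ H)).card : ℂ)) := by
  simp only [indFun_apply]
  rw [← Finset.mul_sum, Finset.sum_comm]
  congr 1
  have h1 : ∀ x : G, ∑ g : G, Cfsg.extendByZero H (fun _ : H => (1:ℂ)) (x⁻¹ * (g * g) * x)
      = ((Finset.univ.filter (fun g : G => g * g ∈ H)).card : ℂ) := by
    intro x
    rw [Fintype.sum_equiv (MulAut.conj x⁻¹).toEquiv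
      (fun g => Cfsg.extendByZero H (fun _ : H => (1:ℂ)) (x⁻¹ * (g * g) * x))
      (fun g => if g * g ∈ H then (1:ℂ) else 0) ?_]
    · rw [Finset.sum_ite, Finset.sum_const_zero, add_zero, Finset.sum_const, nsmul_eq_mul,
        mul_one]
    · intro g
      simp only [MulEquiv.toEquiv_eq_coe, EquivLike.coe_coe, MulAut.conj_apply, inv_inv]
      have h2 : x⁻¹ * (g * g) * x = (x⁻¹ * g * x) * (x⁻¹ * g * x) := by group
      rw [h2]
      by_cases h : (x⁻¹ * g * x) * (x⁻¹ * g * x) ∈ H
      · rw [extendByZero_mem H _ h, if_pos h]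
      · rw [extendByZero_not_mem H _ h, if_neg h]
  rw [Finset.sum_congr rfl (fun x _ => h1 x), Finset.sum_const, Finset.card_univ, nsmul_eq_mul,
    Nat.card_eq_fintype_card]

end Cfsg.Agent.Helper2.PermFS
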