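import Mathlib
import Cfsg.Agent.Helper2.PermFS

/-! Solomon's local lemma: a `p`-quasi-elementary subgroup whose permutation character does not
vanish mod `p` at a given element. -/

namespace Cfsg.Agent.Helper2.Solomon

universe u

/-- counting the elements lying over a subset of the coset space -/
theorem card_preimage {N : Type u} [Group N] [Finite N] (H : Subgroup N) (F : Set (N ⧸ H)) :
    Nat.card {y : N // (QuotientGroup.mk y : N ⧸ H) ∈ F} = Nat.card H * Nat.card F := by
  classical
  haveI : Fintype N := Fintype.ofFinite N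
  haveI : Fintype H := Fintype.ofFinite H
  haveI : Fintype (N ⧸ H) := Fintype.ofFinite _
  have h := Cfsg.Agent.Helper2.PermFS.sum_mk H (fun q : N ⧸ H => if q ∈ F then (1:ℂ) else 0)
  rw [Finset.sum_boole, Finset.sum_boole] at h
  have e1 : Nat.card {y : N // (QuotientGroup.mk y : N ⧸ H) ∈ F}
      = (Finset.univ.filter (fun y : N => (QuotientGroup.mk y : N ⧸ H) ∈ F)).card := by
    rw [Nat.card_eq_fintype_card, Fintype.card_subtype]
  have e2 : Nat.card F = (Finset.univ.filter (fun q : N ⧸ H => q ∈ F)).card := by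
    rw [Nat.card_eq_fintype_card]
    exact Fintype.card_subtype _
  have e3 : Nat.card H = Fintype.card H := Nat.card_eq_fintype_card
  rw [e1, e2, e3]
  exact_mod_cast h

theorem lemmaA {N : Type u} [Group N] [Finite N] (p : ℕ) [Fact p.Prime] (C : Subgroup N)
    [C.Normal] (x c t : N) (hc : c ∈ C) (hx : x = c * t)
    (ht : IsPGroup p (Subgroup.zpowers t)) :
    ∃ H : Subgroup N, C ≤ H ∧ (∃ k : ℕ, C.relIndex H = p ^ k) ∧
      (∀ h ∈ H, (orderOf h).Coprime p → h ∈ C) ∧
      ∃ n : ℕ, ¬ p ∣ n ∧ Nat.card {y : N // y⁻¹ * x * y ∈ H} = Nat.card H * n := by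
  classical
  have hp : p.Prime := Fact.out
  obtain ⟨S, hS⟩ := ht.exists_le_sylow
  have hrel : ∃ k : ℕ, C.relIndex (C ⊔ (S : Subgroup N)) = p ^ k := by
    have h1 : C.relIndex (C ⊔ (S : Subgroup N)) = C.relIndex (S : Subgroup N) :=
      Subgroup.relIndex_sup_left (S : Subgroup N) C
    have h2 : C.relIndex (S : Subgroup N) ∣ Nat.card (S : Subgroup N) :=
      Subgroup.relIndex_dvd_card _ _
    obtain ⟨n, hn⟩ := IsPGroup.iff_card.mp S.isPGroup'
    rw [hn] at h2
    obtain ⟨k, _, hk⟩ := (Nat.dvd_prime_pow hp).mp h2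
    exact ⟨k, h1.trans hk⟩
  refine ⟨C ⊔ S, le_sup_left, hrel, ?_, ?_⟩
  · intro h hh hcop
    obtain ⟨k, hk⟩ := hrel
    have h1 : C.relIndex (Subgroup.zpowers h) ∣ orderOf h := by
      rw [← Nat.card_zpowers]
      exact Subgroup.relIndex_dvd_card _ _
    have h2 : C.relIndex (Subgroup.zpowers h ⊔ C) = C.relIndex (Subgroup.zpowers h) :=
      Subgroup.relIndex_sup_right _ C
    have h3 : Subgroup.zpowers h ⊔ C ≤ C ⊔ (S : Subgroup N) :=
      sup_le ((Subgroup.zpowers_le).mpr hh) le_sup_left
    have h4 := Subgroup.relIndex_mul_relIndex C (Subgroup.zpowers h ⊔ C) (C ⊔ (S : Subgroup N))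
      le_sup_right h3
    rw [h2, hk] at h4
    have h5 : C.relIndex (Subgroup.zpowers h) ∣ p ^ k := Dvd.intro _ h4
    have h6 : C.relIndex (Subgroup.zpowers h) = 1 := by
      have h7 : (C.relIndex (Subgroup.zpowers h)).Coprime (p ^ k) :=
        Nat.Coprime.pow_right k (Nat.Coprime.coprime_dvd_left h1 hcop)
      exact Nat.Coprime.eq_one_of_dvd h7 h5
    exact (Subgroup.relIndex_eq_one.mp h6) (Subgroup.mem_zpowers h)
  · have hX : ¬ p ∣ Nat.card (N ⧸ (C ⊔ (S : Subgroup N))) := by
      have h1 := Subgroup.index_dvd_of_le (le_sup_right : (S : Subgroup N) ≤ C ⊔ S)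
      intro hdiv
      rw [← Subgroup.index_eq_card] at hdiv
      exact S.not_dvd_index (hdiv.trans h1)
    have hfix := ht.card_modEq_card_fixedPoints (N ⧸ (C ⊔ (S : Subgroup N)))
    refine ⟨Nat.card (MulAction.fixedPoints (Subgroup.zpowers t) (N ⧸ (C ⊔ (S : Subgroup N)))),
      ?_, ?_⟩
    · intro hdiv
      apply hX
      exact (Nat.modEq_zero_iff_dvd.mp (hfix.trans (Nat.modEq_zero_iff_dvd.mpr hdiv)))
    · rw [← card_preimage]
      apply Nat.card_congr
      apply Equiv.subtypeEquivRight
      intro y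
      have hcy : y⁻¹ * c * y ∈ C ⊔ (S : Subgroup N) := by
        have h1 := (inferInstance : C.Normal).conj_mem c hc y⁻¹
        rw [inv_inv] at h1
        exact le_sup_left (a := C) h1
      have hxy : y⁻¹ * x * y = (y⁻¹ * c * y) * (y⁻¹ * t * y) := by
        rw [hx]
        group
      rw [hxy, Subgroup.mul_mem_cancel_left _ hcy]
      constructor
      · intro h
        rw [MulAction.mem_fixedPoints]
        rintro ⟨k, hk⟩
        have hstab : t ∈ MulAction.stabilizer N (QuotientGroup.mk y : N ⧸ (C ⊔ (S : Subgroup N))) := by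
          rw [MulAction.mem_stabilizer_iff]
          show (QuotientGroup.mk (t * y) : N ⧸ (C ⊔ (S : Subgroup N))) = QuotientGroup.mk y
          rw [QuotientGroup.eq]
          have h2 : (t * y)⁻¹ * y = (y⁻¹ * t * y)⁻¹ := by group
          rw [h2]
          exact inv_mem h
        have h3 := (Subgroup.zpowers_le.mpr hstab) hk
        rw [MulAction.mem_stabilizer_iff] at h3
        exact h3
      · intro h
        rw [MulAction.mem_fixedPoints] at h
        have h1 := h ⟨t, Subgroup.mem_zpowers t⟩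
        have h2 : (QuotientGroup.mk (t * y) : N ⧸ (C ⊔ (S : Subgroup N))) = QuotientGroup.mk y := h1
        rw [QuotientGroup.eq] at h2
        have h3 : y⁻¹ * t * y = ((t * y)⁻¹ * y)⁻¹ := by group
        rw [h3]
        exact inv_mem h2

end Cfsg.Agent.Helper2.Solomon
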