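import Mathlib
import Cfsg.Agent.Helper2.Solomon
import Cfsg.Agent.Lead.IndFun

/-! Solomon's local lemma, stated in the ambient group. -/

namespace Cfsg.Agent.Helper2.Solomon

open Cfsg.Agent.Lead

universe u

theorem conj_pow' {G : Type u} [Group G] (y x : G) (k : ℕ) :
    (y⁻¹ * x * y) ^ k = y⁻¹ * x ^ k * y := by
  have h := conj_pow (a := y⁻¹) (b := x) (i := k)
  rwa [inv_inv] at h

theorem conj_zpow' {G : Type u} [Group G] (y x : G) (k : ℤ) :
    (y⁻¹ * x * y) ^ k = y⁻¹ * x ^ k * y := by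
  have h := conj_zpow (a := y⁻¹) (b := x) (i := k)
  rwa [inv_inv] at h

theorem main {G : Type u} [Group G] [Fintype G] (x : G) (p : ℕ) (hp : p.Prime) :
    ∃ H : Subgroup G, (∃ C : Subgroup G, C ≤ H ∧ H ≤ Subgroup.normalizer (C : Set G) ∧
      IsCyclic C ∧ Nat.Coprime (Nat.card C) p ∧ ∃ k : ℕ, C.relIndex H = p ^ k) ∧
      ∃ n : ℕ, Cfsg.indFun H (fun _ => 1) x = (n : ℂ) ∧ ¬ p ∣ n := by
  classical
  haveI : Fact p.Prime := ⟨hp⟩
  have hox : orderOf x ≠ 0 := (orderOf_pos x).ne'
  obtain ⟨a, m, hm, hom⟩ := Nat.exists_eq_pow_mul_and_not_dvd hox p hp.ne_one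
  have hpm : Nat.Coprime p m := (Nat.Prime.coprime_iff_not_dvd hp).mpr hm
  have hcop : Nat.Coprime (p ^ a) m := Nat.Coprime.pow_left a hpm
  obtain ⟨u, v, huv⟩ := Nat.isCoprime_iff_coprime.mpr hcop
  have hmpos : 0 < m := by
    rcases Nat.eq_zero_or_pos m with h | h
    · rw [h, mul_zero] at hom
      exact absurd hom hox
    · exact h
  obtain ⟨c, hc⟩ : ∃ c : G, c = x ^ (p ^ a) := ⟨_, rfl⟩
  have hcm : c ^ m = 1 := by
    rw [hc, ← pow_mul, ← hom]
    exact pow_orderOf_eq_one x
  have hcx : c ∈ Subgroup.zpowers x := by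
    rw [hc]
    exact Subgroup.pow_mem _ (Subgroup.mem_zpowers x) _
  -- the normalizer contains the powers of x
  have hxN : Subgroup.zpowers x ≤ Subgroup.normalizer ((Subgroup.zpowers c : Subgroup G) : Set G) := by
    intro y hy
    apply Subgroup.mem_normalizer_fintype
    intro n hn
    have hn' : n ∈ Subgroup.zpowers x := (Subgroup.zpowers_le.mpr hcx) hn
    obtain ⟨i, rfl⟩ := Subgroup.mem_zpowers_iff.mp hy
    obtain ⟨j, rfl⟩ := Subgroup.mem_zpowers_iff.mp hn'
    have h1 : x ^ i * x ^ j * (x ^ i)⁻¹ = x ^ j := by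
      rw [← zpow_neg, ← zpow_add, ← zpow_add]
      congr 1
      ring
    rw [h1]
    exact hn
  have hxmem : x ∈ Subgroup.normalizer ((Subgroup.zpowers c : Subgroup G) : Set G) :=
    hxN (Subgroup.mem_zpowers x)
  haveI : ((Subgroup.zpowers c).subgroupOf
      (Subgroup.normalizer ((Subgroup.zpowers c : Subgroup G) : Set G))).Normal :=
    Subgroup.normal_in_normalizer
  obtain ⟨xN, hxNdef⟩ : ∃ xN : Subgroup.normalizer ((Subgroup.zpowers c : Subgroup G) : Set G),
      (xN : G) = x := ⟨⟨x, hxmem⟩, rfl⟩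
  have hcN : (xN ^ (p ^ a)) ^ u ∈ (Subgroup.zpowers c).subgroupOf
      (Subgroup.normalizer ((Subgroup.zpowers c : Subgroup G) : Set G)) := by
    rw [Subgroup.mem_subgroupOf]
    have h1 : (((xN ^ (p ^ a)) ^ u : Subgroup.normalizer
        ((Subgroup.zpowers c : Subgroup G) : Set G)) : G) = c ^ u := by
      rw [Subgroup.coe_zpow, Subgroup.coe_pow, hxNdef, hc]
    rw [h1]
    exact Subgroup.zpow_mem _ (Subgroup.mem_zpowers _) u
  have hxdec : xN = (xN ^ (p ^ a)) ^ u * (xN ^ m) ^ v := by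
    calc xN = xN ^ (1 : ℤ) := (zpow_one _).symm
      _ = xN ^ (u * ((p ^ a : ℕ) : ℤ) + v * (m : ℤ)) := by rw [huv]
      _ = (xN ^ (p ^ a)) ^ u * (xN ^ m) ^ v := by
        rw [zpow_add, mul_comm u, zpow_mul, mul_comm v, zpow_mul, zpow_natCast, zpow_natCast]
  have hxNpow : xN ^ (p ^ a * m) = 1 := by
    apply Subtype.ext
    rw [Subgroup.coe_pow, hxNdef, Subgroup.coe_one, ← hom]
    exact pow_orderOf_eq_one x
  have htN : ((xN ^ m) ^ v) ^ (p ^ a) = 1 := by
    rw [← zpow_natCast, ← zpow_mul, mul_comm, zpow_mul, zpow_natCast, ← pow_mul, mul_comm m,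
      hxNpow, one_zpow]
  have hpg : IsPGroup p (Subgroup.zpowers ((xN ^ m) ^ v)) := by
    rintro ⟨g, hg⟩
    obtain ⟨j, rfl⟩ := Subgroup.mem_zpowers_iff.mp hg
    refine ⟨a, Subtype.ext ?_⟩
    show (((xN ^ m) ^ v) ^ j) ^ (p ^ a) = 1
    rw [← zpow_natCast, ← zpow_mul, mul_comm, zpow_mul, zpow_natCast, htN, one_zpow]
  obtain ⟨HN, hCH, ⟨k, hk⟩, hpreg, n, hn, hcount⟩ := lemmaA p
    ((Subgroup.zpowers c).subgroupOf
      (Subgroup.normalizer ((Subgroup.zpowers c : Subgroup G) : Set G)))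
    xN ((xN ^ (p ^ a)) ^ u) ((xN ^ m) ^ v) hcN hxdec hpg
  have hmapsub : (HN.map (Subgroup.normalizer
      ((Subgroup.zpowers c : Subgroup G) : Set G)).subtype).subgroupOf
      (Subgroup.normalizer ((Subgroup.zpowers c : Subgroup G) : Set G)) = HN :=
    Subgroup.comap_map_eq_self_of_injective (Subgroup.subtype_injective _) HN
  have hHle : HN.map (Subgroup.normalizer
      ((Subgroup.zpowers c : Subgroup G) : Set G)).subtype
      ≤ Subgroup.normalizer ((Subgroup.zpowers c : Subgroup G) : Set G) :=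
    Subgroup.map_subtype_le HN
  refine ⟨HN.map (Subgroup.normalizer
      ((Subgroup.zpowers c : Subgroup G) : Set G)).subtype,
    ⟨Subgroup.zpowers c, ?_, hHle, inferInstance, ?_, k, ?_⟩, n, ?_, hn⟩
  · have hCN : Subgroup.zpowers c
        ≤ Subgroup.normalizer ((Subgroup.zpowers c : Subgroup G) : Set G) :=
      Subgroup.le_normalizer
    exact (Subgroup.map_subgroupOf_eq_of_le hCN).symm.le.trans (Subgroup.map_mono hCH)
  · rw [Nat.card_zpowers]
    have h1 : orderOf c ∣ m := orderOf_dvd_of_pow_eq_one hcm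
    exact Nat.Coprime.coprime_dvd_left h1 hpm.symm
  · rw [← Subgroup.relIndex_subgroupOf hHle, hmapsub]
    exact hk
  · have hHcard : Nat.card (HN.map (Subgroup.normalizer
        ((Subgroup.zpowers c : Subgroup G) : Set G)).subtype) = Nat.card HN :=
      Subgroup.card_map_of_injective (Subgroup.subtype_injective _)
    have hyN : ∀ y : G, y⁻¹ * x * y ∈ HN.map (Subgroup.normalizer
        ((Subgroup.zpowers c : Subgroup G) : Set G)).subtype →
        y ∈ Subgroup.normalizer ((Subgroup.zpowers c : Subgroup G) : Set G) := by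
      intro y hy
      have h1 : y⁻¹ * c * y ∈ HN.map (Subgroup.normalizer
          ((Subgroup.zpowers c : Subgroup G) : Set G)).subtype := by
        have h0 : y⁻¹ * c * y = (y⁻¹ * x * y) ^ (p ^ a) := by rw [hc, conj_pow']
        rw [h0]
        exact Subgroup.pow_mem _ hy _
      obtain ⟨z, hz, hzeq⟩ := Subgroup.mem_map.mp h1
      have hzeq' : (z : G) = y⁻¹ * c * y := hzeq
      have h2 : (orderOf z).Coprime p := by
        have h3 : z ^ m = 1 := by
          apply Subtype.ext
          rw [Subgroup.coe_pow, hzeq', conj_pow', hcm, Subgroup.coe_one]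
          group
        exact Nat.Coprime.coprime_dvd_left (orderOf_dvd_of_pow_eq_one h3) hpm.symm
      have h3 := hpreg z hz h2
      rw [Subgroup.mem_subgroupOf, hzeq'] at h3
      have h4 : y⁻¹ ∈ Subgroup.normalizer
          ((Subgroup.zpowers c : Subgroup G) : Set G) := by
        apply Subgroup.mem_normalizer_fintype
        intro n hn
        obtain ⟨j, rfl⟩ := Subgroup.mem_zpowers_iff.mp hn
        have h5 : y⁻¹ * c ^ j * y⁻¹⁻¹ = (y⁻¹ * c * y) ^ j := by
          rw [inv_inv, conj_zpow']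
        rw [h5]
        exact Subgroup.zpow_mem _ h3 j
      exact (Subgroup.inv_mem_iff _).mp h4
    have hcnt : (Finset.univ.filter (fun y : G => y⁻¹ * x * y ∈ HN.map (Subgroup.normalizer
        ((Subgroup.zpowers c : Subgroup G) : Set G)).subtype)).card
        = Nat.card HN * n := by
      rw [← hcount, ← Fintype.card_subtype, ← Nat.card_eq_fintype_card]
      apply Nat.card_congr
      refine
        { toFun := fun y => ⟨⟨y.1, hyN y.1 y.2⟩, ?_⟩
          invFun := fun y => ⟨(y.1 : G), ?_⟩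
          left_inv := fun y => rfl
          right_inv := fun y => rfl }
      · have h1 := y.2
        have h2 : y.1⁻¹ * x * y.1 = (Subgroup.normalizer
            ((Subgroup.zpowers c : Subgroup G) : Set G)).subtype
            ((⟨y.1, hyN y.1 y.2⟩ : Subgroup.normalizer
              ((Subgroup.zpowers c : Subgroup G) : Set G))⁻¹ * xN * ⟨y.1, hyN y.1 y.2⟩) := by
          simp [hxNdef]
        rw [h2, Subgroup.mem_map_iff_mem (Subgroup.subtype_injective _)] at h1
        exact h1
      · have h1 := y.2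
        have h2 : (y.1 : G)⁻¹ * x * (y.1 : G) = (Subgroup.normalizer
            ((Subgroup.zpowers c : Subgroup G) : Set G)).subtype
            (y.1⁻¹ * xN * y.1) := by
          simp [hxNdef]
        rw [h2, Subgroup.mem_map_iff_mem (Subgroup.subtype_injective _)]
        exact h1
    rw [indFun_apply]
    have h1 : ∀ y : G, Cfsg.extendByZero (HN.map (Subgroup.normalizer
        ((Subgroup.zpowers c : Subgroup G) : Set G)).subtype) (fun _ => (1:ℂ))
        (y⁻¹ * x * y) = if y⁻¹ * x * y ∈ HN.map (Subgroup.normalizer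
        ((Subgroup.zpowers c : Subgroup G) : Set G)).subtype then 1 else 0 := by
      intro y
      by_cases h : y⁻¹ * x * y ∈ HN.map (Subgroup.normalizer
        ((Subgroup.zpowers c : Subgroup G) : Set G)).subtype
      · rw [extendByZero_mem _ _ h, if_pos h]
      · rw [extendByZero_not_mem _ _ h, if_neg h]
    rw [Finset.sum_congr rfl (fun y _ => h1 y), Finset.sum_boole, hcnt, hHcard]
    have hH0 : (Nat.card HN : ℂ) ≠ 0 := natCard_ne_zero_complex _
    rw [Nat.cast_mul, ← mul_assoc, inv_mul_cancel₀ hH0, one_mul]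

end Cfsg.Agent.Helper2.Solomon
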