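import Mathlib
import Cfsg.Agent.Helper2.Solomon2
import Cfsg.Agent.Helper2.Mackey2

/-! Solomon's induction theorem, local form: an integer prime to `p` is an integral
combination of permutation characters of `p`-quasi-elementary subgroups. -/

namespace Cfsg.Agent.Helper2.Solomon

open Cfsg.Agent.Lead

universe u

variable {G : Type u} [Group G] [Fintype G]

/-- `p`-quasi-elementary subgroups (in the form of the statements). -/
def QE (p : ℕ) (H : Subgroup G) : Prop :=
  ∃ C : Subgroup G, C ≤ H ∧ H ≤ Subgroup.normalizer (C : Set G) ∧ IsCyclic C ∧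
    Nat.Coprime (Nat.card C) p ∧ ∃ k : ℕ, C.relIndex H = p ^ k

theorem QE.mono {p : ℕ} (hp : p.Prime) {H U : Subgroup G} (hU : U ≤ H) (h : QE p H) :
    QE p U := by
  obtain ⟨C, hCH, hHN, hcyc, hcop, k, hk⟩ := h
  refine ⟨C ⊓ U, inf_le_right, ?_, ?_, ?_, ?_⟩
  · intro u hu
    have hn := hHN (hU hu)
    rw [Subgroup.mem_normalizer_iff] at hn ⊢
    intro h
    constructor
    · rintro ⟨h1, h2⟩
      exact ⟨(hn h).mp h1, U.mul_mem (U.mul_mem hu h2) (U.inv_mem hu)⟩
    · rintro ⟨h1, h2⟩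
      refine ⟨(hn h).mpr h1, ?_⟩
      have : h = u⁻¹ * (u * h * u⁻¹) * u := by group
      rw [this]
      exact U.mul_mem (U.mul_mem (U.inv_mem hu) h2) hu
  · haveI := hcyc
    have e := Subgroup.subgroupOfEquivOfLe (inf_le_left : C ⊓ U ≤ C)
    haveI : IsCyclic ((C ⊓ U).subgroupOf C) := inferInstance
    exact isCyclic_of_surjective e e.surjective
  · exact Nat.Coprime.coprime_dvd_left (Subgroup.card_dvd_of_le inf_le_left) hcop
  · rw [Subgroup.inf_relIndex_right]
    haveI : (C.subgroupOf H).Normal := Subgroup.normal_subgroupOf_of_le_normalizer hHN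
    have h1 : C.relIndex U ∣ C.relIndex H := by
      have := Subgroup.relIndex_dvd_index_of_normal (C.subgroupOf H) (U.subgroupOf H)
      rwa [Subgroup.relIndex_subgroupOf hU] at this
    rw [hk] at h1
    obtain ⟨j, _, hj⟩ := (Nat.dvd_prime_pow hp).mp h1
    exact ⟨j, hj⟩

/-- integral combinations of permutation characters of `p`-quasi-elementary subgroups -/
def R (p : ℕ) : Set (G → ℂ) :=
  {f | ∃ a : Subgroup G → ℤ, (∀ H, a H ≠ 0 → QE p H) ∧
      f = ∑ H : Subgroup G, (a H : ℂ) • Cfsg.indFun H (fun _ => 1)}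

theorem R.zero (p : ℕ) : (0 : G → ℂ) ∈ R p :=
  ⟨fun _ => 0, by simp, by simp⟩

theorem R.add {p : ℕ} {f g : G → ℂ} (hf : f ∈ R p) (hg : g ∈ R p) : f + g ∈ R p := by
  obtain ⟨a, ha, rfl⟩ := hf
  obtain ⟨b, hb, rfl⟩ := hg
  refine ⟨fun H => a H + b H, ?_, ?_⟩
  · intro H hH
    by_cases h : a H = 0
    · exact hb H (by simpa [h] using hH)
    · exact ha H h
  · rw [← Finset.sum_add_distrib]
    refine Finset.sum_congr rfl (fun H _ => ?_)
    push_cast
    rw [add_smul]

theorem R.zsmul {p : ℕ} (n : ℤ) {f : G → ℂ} (hf : f ∈ R p) : (n : ℂ) • f ∈ R p := by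
  obtain ⟨a, ha, rfl⟩ := hf
  refine ⟨fun H => n * a H, ?_, ?_⟩
  · intro H hH
    exact ha H (fun h => hH (by simp [h]))
  · rw [Finset.smul_sum]
    refine Finset.sum_congr rfl (fun H _ => ?_)
    push_cast
    rw [mul_smul]

theorem R.gen {p : ℕ} {H : Subgroup G} (hH : QE p H) :
    Cfsg.indFun H (fun _ => (1:ℂ)) ∈ R p := by
  classical
  refine ⟨fun U => if U = H then 1 else 0, ?_, ?_⟩
  · intro U hU
    by_cases h : U = H
    · rw [h]; exact hH
    · simp [h] at hU
  · rw [Finset.sum_eq_single H]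
    · simp
    · intro U _ hU; simp [hU]
    · intro h; exact absurd (Finset.mem_univ _) h

theorem R.sum {p : ℕ} {ι : Type*} (s : Finset ι) (f : ι → G → ℂ) (h : ∀ i ∈ s, f i ∈ R p) :
    ∑ i ∈ s, f i ∈ R p := by
  classical
  induction s using Finset.induction_on with
  | empty => simpa using R.zero p
  | insert i s hi ih =>
    rw [Finset.sum_insert hi]
    exact R.add (h i (Finset.mem_insert_self i s))
      (ih (fun j hj => h j (Finset.mem_insert_of_mem hj)))

theorem R.mul {p : ℕ} (hp : p.Prime) {f g : G → ℂ} (hf : f ∈ R p) (hg : g ∈ R p) :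
    f * g ∈ R p := by
  obtain ⟨a, ha, rfl⟩ := hf
  obtain ⟨b, hb, rfl⟩ := hg
  rw [Finset.sum_mul]
  refine R.sum _ _ (fun H _ => ?_)
  rw [Finset.mul_sum]
  refine R.sum _ _ (fun K _ => ?_)
  rw [smul_mul_smul_comm]
  by_cases hH : a H = 0
  · rw [hH]
    simpa using R.zero (G := G) p
  · obtain ⟨c, hc, hprod⟩ := Cfsg.Agent.Helper2.Mackey.main H K
    rw [hprod]
    have hcast : ((a H : ℂ) * (b K : ℂ)) = ((a H * b K : ℤ) : ℂ) := by push_cast; rfl
    rw [hcast]
    refine R.zsmul _ (R.sum _ _ (fun U _ => ?_))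
    by_cases hU : c U = 0
    · rw [hU]
      simpa using R.zero (G := G) p
    · have := R.zsmul (c U : ℤ) (R.gen (QE.mono hp (hc U hU) (ha H hH)))
      simpa using this

theorem local_main (p : ℕ) (hp : p.Prime) :
    ∃ (m : ℤ), ¬ (p : ℤ) ∣ m ∧ (fun _ : G => (m : ℂ)) ∈ R p := by
  classical
  choose Hx hQE n hn hpn using fun x : G => main x p hp
  obtain ⟨m, hm⟩ : ∃ m : ℕ, m = ∏ x : G, n x := ⟨_, rfl⟩
  have hpm : ¬ p ∣ m := by
    intro h
    rw [hm, Prime.dvd_finset_prod_iff (Nat.prime_iff.mp hp)] at h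
    obtain ⟨x, _, hx⟩ := h
    exact hpn x hx
  obtain ⟨g, hg⟩ : ∃ g : G → G → ℂ, g = fun x =>
      ((∏ y ∈ Finset.univ.erase x, n y : ℕ) : ℂ) • Cfsg.indFun (Hx x) (fun _ => 1) := ⟨_, rfl⟩
  have hgR : ∀ x, g x ∈ R p := fun x => by
    have := R.zsmul (p := p) ((∏ y ∈ Finset.univ.erase x, n y : ℕ) : ℤ) (R.gen (hQE x))
    rw [hg]
    simpa using this
  have hgx : ∀ x, g x x = (m : ℂ) := fun x => by
    rw [hg]
    simp only [Pi.smul_apply, smul_eq_mul, hn x]
    rw [← Nat.cast_mul, hm, Finset.prod_erase_mul _ _ (Finset.mem_univ x)]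
  have key : ∀ T : Finset G, ∃ r ∈ R p,
      ∏ x ∈ T, ((fun _ => (m:ℂ)) - g x) = (fun _ : G => ((m ^ T.card : ℕ) : ℂ)) + r := by
    intro T
    induction T using Finset.induction_on with
    | empty =>
      refine ⟨0, R.zero p, ?_⟩
      funext y
      simp
    | insert x T hx ih =>
      obtain ⟨r, hr, hprod⟩ := ih
      rw [Finset.prod_insert hx, hprod, Finset.card_insert_of_notMem hx]
      refine ⟨((m : ℤ) : ℂ) • r + ((-(m ^ T.card : ℕ) : ℤ) : ℂ) • g x
        + ((-1 : ℤ) : ℂ) • (g x * r), ?_, ?_⟩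
      · exact R.add (R.add (R.zsmul _ hr) (R.zsmul _ (hgR x)))
          (R.zsmul _ (R.mul hp (hgR x) hr))
      · funext y
        simp only [Pi.mul_apply, Pi.sub_apply, Pi.add_apply, Pi.smul_apply, smul_eq_mul]
        push_cast
        ring
  obtain ⟨r, hr, hprod⟩ := key Finset.univ
  have hzero : ∏ x : G, ((fun _ => (m:ℂ)) - g x) = 0 := by
    funext y
    rw [Finset.prod_apply]
    exact Finset.prod_eq_zero (Finset.mem_univ y) (by simp [hgx y])
  refine ⟨((m ^ (Finset.univ : Finset G).card : ℕ) : ℤ), ?_, ?_⟩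
  · intro h
    exact hpm (hp.dvd_of_dvd_pow (Int.natCast_dvd_natCast.mp h))
  · have h1 : (fun _ : G => ((m ^ (Finset.univ : Finset G).card : ℕ) : ℂ)) + r = 0 := by
      rw [← hprod, hzero]
    have h2 : (fun _ : G => ((((m ^ (Finset.univ : Finset G).card : ℕ) : ℤ)) : ℂ))
        = ((-1 : ℤ) : ℂ) • r := by
      funext y
      have := congrFun h1 y
      simp only [Pi.add_apply, Pi.zero_apply] at this
      simp only [Pi.smul_apply, smul_eq_mul]
      push_cast at this ⊢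
      linear_combination this
    rw [h2]
    exact R.zsmul _ hr

theorem solomon_local (p : ℕ) (hp : p.Prime) :
    ∃ (m : ℤ) (a : Subgroup G → ℤ), ¬ (p : ℤ) ∣ m ∧
      (∀ H, a H ≠ 0 → (∃ C : Subgroup G, C ≤ H ∧ H ≤ Subgroup.normalizer (C : Set G) ∧
        IsCyclic C ∧ Nat.Coprime (Nat.card C) p ∧ ∃ k : ℕ, C.relIndex H = p ^ k)) ∧
      (fun _ : G => (m : ℂ)) = ∑ H : Subgroup G, (a H : ℂ) • Cfsg.indFun H (fun _ => 1) := by
  obtain ⟨m, hm, a, ha, hsum⟩ := local_main (G := G) p hp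
  exact ⟨m, a, hm, ha, hsum⟩

end Cfsg.Agent.Helper2.Solomon
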