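import Mathlib
import Cfsg.Agent.Helper2.Brauer3
import Cfsg.Agent.Helper2.Solomon3
import Cfsg.Agent.S0146
import Cfsg.Agent.S0854

/-! Brauer's induction theorem, local form. -/

namespace Cfsg.Agent.Helper2.Brauer

open Cfsg.Agent.Lead

universe u

/-- `p`-quasi-elementary groups -/
def QEt (p : ℕ) (H : Type u) [Group H] : Prop :=
  ∃ C : Subgroup H, C.Normal ∧ IsCyclic C ∧ Nat.Coprime (Nat.card C) p ∧
    ∃ k : ℕ, C.index = p ^ k

theorem QEt_subgroup {p : ℕ} (hp : p.Prime) {H : Type u} [Group H] [Finite H]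
    (h : QEt p H) (T : Subgroup H) : QEt p T := by
  obtain ⟨C, hCn, hCc, hcop, k, hk⟩ := h
  haveI := hCn
  haveI := hCc
  let f : C.subgroupOf T →* C :=
    { toFun := fun x => ⟨((x : T) : H), Subgroup.mem_subgroupOf.mp x.2⟩
      map_one' := rfl
      map_mul' := fun _ _ => rfl }
  have hf : Function.Injective f := by
    intro x y hxy
    have h1 : ((x : T) : H) = ((y : T) : H) := congrArg (fun c : C => (c : H)) hxy
    exact Subtype.ext (Subtype.ext h1)
  refine ⟨C.subgroupOf T, Subgroup.normal_subgroupOf, isCyclic_of_injective f hf, ?_, ?_⟩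
  · exact Nat.Coprime.coprime_dvd_left (Subgroup.card_dvd_of_injective f hf) hcop
  · have h1 : C.relIndex T ∣ C.index := Subgroup.relIndex_dvd_index_of_normal C T
    rw [hk] at h1
    obtain ⟨j, _, hj⟩ := (Nat.dvd_prime_pow hp).mp h1
    exact ⟨j, hj⟩

theorem QEt_of_QE {G : Type u} [Group G] [Finite G] {p : ℕ} {H : Subgroup G}
    (h : Cfsg.Agent.Helper2.Solomon.QE p H) : QEt p H := by
  obtain ⟨C, hCH, hHN, hcyc, hcop, k, hk⟩ := h
  haveI := hcyc
  have e := Subgroup.subgroupOfEquivOfLe hCH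
  refine ⟨C.subgroupOf H, Subgroup.normal_subgroupOf_of_le_normalizer hHN,
    isCyclic_of_surjective e.symm e.symm.surjective, ?_, k, hk⟩
  rw [Nat.card_congr e.toEquiv]
  exact hcop

theorem qe_one (p : ℕ) (hp : p.Prime) : ∀ (n : ℕ) (H : Type u) [Group H] [Fintype H],
    Fintype.card H ≤ n → QEt p H → (fun _ : H => (1:ℂ)) ∈ (BSpan p : Set (H → ℂ)) := by
  intro n
  induction n with
  | zero =>
    intro H _ _ hcard
    have := Fintype.card_pos (α := H)
    omega
  | succ n ih =>
    intro H _ _ hcard hQE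
    classical
    obtain ⟨C, hCn, hCc, hcopp, k, hk⟩ := hQE
    haveI := hCn
    have hcop' : Nat.Coprime (Nat.card C) C.index := by
      rw [hk]; exact Nat.Coprime.pow_right k hcopp
    obtain ⟨P, hcompl⟩ := Subgroup.exists_right_complement'_of_coprime hcop'
    have hPcard : Nat.card P = p ^ k := by
      rw [← hk]; exact (hcompl.symm.index_eq_card).symm
    have hcopCP : Nat.Coprime (Nat.card C) (Nat.card P) := by
      rw [hPcard]; exact Nat.Coprime.pow_right k hcopp
    have hE : Cfsg.IsElementary p (EZ C P) := isElementary_EZ hcompl hCc hcopp hPcard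
    have hχ₀ : Cfsg.IsCharacter H (Cfsg.indFun (EZ C P) (fun _ => (1:ℂ))) :=
      Cfsg.Agent.S0148.result (EZ C P) _ isCharacter_one
    obtain ⟨m, hm⟩ := exists_multiset_irr hχ₀
    obtain ⟨one, hone⟩ : ∃ o : Cfsg.IrrCharacter H, (o : H → ℂ) = fun _ => (1:ℂ) :=
      ⟨⟨_, isIrrCharacter_one⟩, rfl⟩
    have hfrob : ∀ ψ : Cfsg.IrrCharacter H,
        Cfsg.classInner (Cfsg.indFun (EZ C P) (fun _ => (1:ℂ))) (ψ : H → ℂ)
          = Cfsg.classInner (fun _ : EZ C P => (1:ℂ)) (fun e : EZ C P => (ψ : H → ℂ) e) :=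
      fun ψ => Cfsg.Agent.S0146.result (EZ C P) _ _
        (isCharacter_isClassFunction (isCharacter_of_isIrrCharacter ψ.2))
    have hcountψ : ∀ ψ : Cfsg.IrrCharacter H,
        Cfsg.classInner (Cfsg.indFun (EZ C P) (fun _ => (1:ℂ))) (ψ : H → ℂ)
          = (m.count ψ : ℂ) := by
      intro ψ
      rw [hm]
      exact classInner_multiset_irr m ψ
    have hcount1 : m.count one = 1 := by
      have h1 := hcountψ one
      rw [hfrob one, hone] at h1
      have h2 : Cfsg.classInner (fun _ : EZ C P => (1:ℂ)) (fun _ : EZ C P => (1:ℂ)) = 1 :=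
        classInner_self_of_isIrrCharacter (isIrrCharacter_one (G := EZ C P))
      rw [h2] at h1
      exact_mod_cast h1.symm
    have hmem1 : one ∈ m := Multiset.count_pos.mp (by omega)
    have hcons : one ::ₘ m.erase one = m := Multiset.cons_erase hmem1
    have hnot : one ∉ m.erase one := by
      intro h
      have := Multiset.count_pos.mpr h
      rw [Multiset.count_erase_self] at this
      omega
    have hclaim : ∀ ψ ∈ m.erase one, (ψ : H → ℂ) ∈ (BSpan p : Set (H → ℂ)) := by
      intro ψ hψmem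
      have hψne : ψ ≠ one := fun h => hnot (h ▸ hψmem)
      have hψm : ψ ∈ m := Multiset.mem_of_mem_erase hψmem
      have hinner : Cfsg.classInner (fun _ : EZ C P => (1:ℂ))
          (fun e : EZ C P => (ψ : H → ℂ) e) ≠ 0 := by
        rw [← hfrob ψ, hcountψ ψ]
        exact_mod_cast (Multiset.count_pos.mpr hψm).ne'
      have hkey : Cfsg.classInner (fun _ : EZ C P => (1:ℂ)) (fun e : EZ C P => (ψ : H → ℂ) e)
          = (Nat.card (EZ C P) : ℂ)⁻¹ * (starRingEnd ℂ) (∑ e : EZ C P, (ψ : H → ℂ) e) := by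
        unfold Cfsg.classInner
        congr 1
        rw [map_sum]
        refine Finset.sum_congr rfl (fun e _ => ?_)
        simp
      have hsumE : ∑ e : EZ C P, (ψ : H → ℂ) e ≠ 0 := by
        intro h0
        apply hinner
        rw [hkey, h0, map_zero, mul_zero]
      by_cases hall : ∀ lam : C → ℂ, Cfsg.IsIrrCharacter C lam →
          Cfsg.classInner (fun n : C => (ψ : H → ℂ) n) lam ≠ 0 →
          Cfsg.Agent.Helper2.Mono.stab C lam = ⊤
      · exfalso
        have hex : ∃ lam : Cfsg.IrrCharacter C,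
            Cfsg.classInner (fun n : C => (ψ : H → ℂ) n) (lam : C → ℂ) ≠ 0 := by
          by_contra hno
          push_neg at hno
          have hz := classFunction_eq_zero_of_orth (fun n : C => (ψ : H → ℂ) n)
            (isCharacter_isClassFunction
              (isCharacter_res C (isCharacter_of_isIrrCharacter ψ.2))) hno
          obtain ⟨d, hd, hd1⟩ := isIrrCharacter_one_eq_nat ψ.2
          have h1 : (ψ : H → ℂ) 1 = 0 := congrFun hz 1
          rw [hd1] at h1
          exact hd.ne' (by exact_mod_cast h1)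
        obtain ⟨lam, hlamcon⟩ := hex
        have hstab := hall lam lam.2 hlamcon
        have hinv : ∀ (g : H) (n : C),
            (lam : C → ℂ) ⟨g * n * g⁻¹, hCn.conj_mem (n : H) n.2 g⟩ = (lam : C → ℂ) n := by
          intro g
          have hg : g ∈ Cfsg.Agent.Helper2.Mono.stab C (lam : C → ℂ) := by
            rw [hstab]; exact Subgroup.mem_top g
          exact (Cfsg.Agent.Helper2.Mono.mem_stab C _ g).mp hg
        have hsumH := no_invariant hcompl hCc hcopCP (ψ : H → ℂ) ψ.2 hsumE (lam : C → ℂ)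
          lam.2 hlamcon hinv
        have h1 := classInner_irr ψ one
        rw [if_neg hψne, hone] at h1
        have h2 : Cfsg.classInner (ψ : H → ℂ) (fun _ : H => (1:ℂ))
            = (Nat.card H : ℂ)⁻¹ * ∑ g : H, (ψ : H → ℂ) g := by
          unfold Cfsg.classInner
          congr 1
          refine Finset.sum_congr rfl (fun g _ => ?_)
          simp
        rw [h2] at h1
        rcases mul_eq_zero.mp h1 with h | h
        · exact natCard_ne_zero_complex H (inv_eq_zero.mp h)
        · exact hsumH h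
      · push_neg at hall
        obtain ⟨lam, hlam, hlamcon, hstab⟩ := hall
        haveI : Fintype (Cfsg.Agent.Helper2.Mono.stab C lam) := Fintype.ofFinite _
        have hCT : C ≤ Cfsg.Agent.Helper2.Mono.stab C lam :=
          Cfsg.Agent.Helper2.Mono.le_stab C lam
            (isCharacter_isClassFunction (isCharacter_of_isIrrCharacter hlam))
        obtain ⟨ψ', hψ', hind, -⟩ := Cfsg.Agent.S0854.result C lam hlam
          (Cfsg.Agent.Helper2.Mono.stab C lam)
          (fun g => Cfsg.Agent.Helper2.Mono.mem_stab C lam g) hCT (ψ : H → ℂ) ψ.2 hlamcon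
        have hlt : Fintype.card (Cfsg.Agent.Helper2.Mono.stab C lam) < Fintype.card H := by
          have hle : Nat.card (Cfsg.Agent.Helper2.Mono.stab C lam) ≤ Nat.card H :=
            Subgroup.card_le_card_group _
          have hne : Nat.card (Cfsg.Agent.Helper2.Mono.stab C lam) ≠ Nat.card H :=
            fun h => hstab (Subgroup.eq_top_of_card_eq _ h)
          rw [Nat.card_eq_fintype_card, Nat.card_eq_fintype_card] at hle hne
          omega
        have hT1 := ih (Cfsg.Agent.Helper2.Mono.stab C lam) (by omega)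
          (QEt_subgroup hp ⟨C, hCn, hCc, hcopp, k, hk⟩ _)
        have hT2 := BSpan.mul_char hT1 (isCharacter_of_isIrrCharacter hψ')
        have hT3 : ((fun _ : Cfsg.Agent.Helper2.Mono.stab C lam => (1:ℂ)) * ψ') = ψ' := by
          funext t
          simp
        rw [hT3] at hT2
        have hT4 := BSpan.ind (Cfsg.Agent.Helper2.Mono.stab C lam) hT2
        rw [hind] at hT4
        exact hT4
    have hsum1 : ((m.erase one).map (fun ψ : Cfsg.IrrCharacter H => (ψ : H → ℂ))).sum
        ∈ (BSpan p : Set (H → ℂ)) := by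
      refine BSpan.multiset_sum _ (fun f hf => ?_)
      obtain ⟨ψ, hψ, rfl⟩ := Multiset.mem_map.mp hf
      exact hclaim ψ hψ
    have hχ₀B : Cfsg.indFun (EZ C P) (fun _ => (1:ℂ)) ∈ (BSpan p : Set (H → ℂ)) :=
      BSpan.gen _ hE _ isCharacter_one
    have hdecomp : Cfsg.indFun (EZ C P) (fun _ => (1:ℂ)) = (fun _ : H => (1:ℂ))
        + ((m.erase one).map (fun ψ : Cfsg.IrrCharacter H => (ψ : H → ℂ))).sum := by
      conv_lhs => rw [hm, ← hcons]
      rw [Multiset.map_cons, Multiset.sum_cons, hone]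
    have hfinal : (fun _ : H => (1:ℂ)) = Cfsg.indFun (EZ C P) (fun _ => (1:ℂ))
        + ((-1 : ℤ) : ℂ) • ((m.erase one).map (fun ψ : Cfsg.IrrCharacter H => (ψ : H → ℂ))).sum := by
      rw [hdecomp]
      simp
    rw [hfinal]
    exact BSpan.add hχ₀B (BSpan.zsmul _ hsum1)

theorem brauer_local {G : Type u} [Group G] [Fintype G] (p : ℕ) (hp : p.Prime) :
    ∃ (m : ℤ) (l : List ((E : Subgroup G) × ((E → ℂ) × ℤ))), ¬ (p : ℤ) ∣ m ∧
      (∀ t ∈ l, Cfsg.IsElementary p t.1 ∧ Cfsg.IsCharacter t.1 t.2.1) ∧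
      (fun _ : G => (m : ℂ)) = (l.map fun t => (t.2.2 : ℂ) • Cfsg.indFun t.1 t.2.1).sum := by
  classical
  obtain ⟨m, hm, a, ha, hsum⟩ := Cfsg.Agent.Helper2.Solomon.local_main (G := G) p hp
  have hB : (fun _ : G => (m : ℂ)) ∈ (BSpan p : Set (G → ℂ)) := by
    rw [hsum]
    refine BSpan.sum _ _ (fun H _ => ?_)
    by_cases hH : a H = 0
    · rw [hH]
      simpa using BSpan.zero (H := G) (p := p)
    · refine BSpan.zsmul _ ?_
      have h1 := qe_one p hp (Fintype.card H) H le_rfl (QEt_of_QE (ha H hH))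
      exact BSpan.ind H h1
  obtain ⟨l, hl, hl2⟩ := hB
  exact ⟨m, l, hm, hl, hl2⟩

end Cfsg.Agent.Helper2.Brauer
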