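import Mathlib
import Cfsg.Agent.Helper2.Brauer4
import Cfsg.Agent.Helper2.Mono2
import Cfsg.Agent.Helper2.LinExt

/-! Brauer's induction theorem. -/

namespace Cfsg.Agent.Helper2.Brauer

open Cfsg.Agent.Lead

universe u

theorem zpowers_normal_of_center {E : Type u} [Group E] {x : E} (hx : x ∈ Subgroup.center E) :
    Subgroup.zpowers x ≤ Subgroup.center E ∧ (Subgroup.zpowers x).Normal := by
  have hzc : Subgroup.zpowers x ≤ Subgroup.center E := by
    rw [Subgroup.zpowers_le]; exact hx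
  refine ⟨hzc, ⟨fun n hn g => ?_⟩⟩
  have h1 : g * n * g⁻¹ = n := by
    have := Subgroup.mem_center_iff.mp (hzc hn) g
    rw [this]; group
  rw [h1]
  exact hn

theorem isElementary_subgroup {p : ℕ} (hp : p.Prime) {E : Type u} [Group E] [Finite E]
    (h : Cfsg.IsElementary p E) (S : Subgroup E) : Cfsg.IsElementary p S := by
  obtain ⟨x, hx, hcop, k, hk⟩ := h
  obtain ⟨hzc, hzn⟩ := zpowers_normal_of_center hx
  haveI := hzn
  let f : (Subgroup.zpowers x).subgroupOf S →* Subgroup.zpowers x :=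
    { toFun := fun y => ⟨((y : S) : E), Subgroup.mem_subgroupOf.mp y.2⟩
      map_one' := rfl
      map_mul' := fun _ _ => rfl }
  have hf : Function.Injective f := by
    intro a b hab
    have h1 : ((a : S) : E) = ((b : S) : E) :=
      congrArg (fun c : Subgroup.zpowers x => (c : E)) hab
    exact Subtype.ext (Subtype.ext h1)
  haveI : IsCyclic ((Subgroup.zpowers x).subgroupOf S) := isCyclic_of_injective f hf
  obtain ⟨g, hg⟩ := IsCyclic.exists_generator (α := (Subgroup.zpowers x).subgroupOf S)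
  have hgz : Subgroup.zpowers (g : S) = (Subgroup.zpowers x).subgroupOf S := by
    apply le_antisymm
    · rw [Subgroup.zpowers_le]; exact g.2
    · intro s hs
      obtain ⟨i, hi⟩ := Subgroup.mem_zpowers_iff.mp (hg ⟨s, hs⟩)
      rw [Subgroup.mem_zpowers_iff]
      refine ⟨i, ?_⟩
      have := congrArg (fun c : (Subgroup.zpowers x).subgroupOf S => (c : S)) hi
      simpa using this
  refine ⟨(g : S), ?_, ?_, ?_⟩
  · rw [Subgroup.mem_center_iff]
    intro s
    apply Subtype.ext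
    have hgE : ((g : S) : E) ∈ Subgroup.center E := hzc (Subgroup.mem_subgroupOf.mp g.2)
    exact Subgroup.mem_center_iff.mp hgE (s : E)
  · have h1 : orderOf (g : S) = orderOf ((g : S) : E) := (Subgroup.orderOf_coe (g : S)).symm
    rw [h1]
    exact Nat.Coprime.coprime_dvd_left
      (orderOf_dvd_of_mem_zpowers (Subgroup.mem_subgroupOf.mp g.2)) hcop
  · rw [hgz]
    have h1 : (Subgroup.zpowers x).relIndex S ∣ (Subgroup.zpowers x).index :=
      Subgroup.relIndex_dvd_index_of_normal _ S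
    rw [hk] at h1
    obtain ⟨j, _, hj⟩ := (Nat.dvd_prime_pow hp).mp h1
    exact ⟨j, hj⟩

theorem isNilpotent_of_isElementary {p : ℕ} (hp : p.Prime) {E : Type u} [Group E] [Finite E]
    (h : Cfsg.IsElementary p E) : Group.IsNilpotent E := by
  obtain ⟨x, hx, hcop, k, hk⟩ := h
  obtain ⟨hzc, hzn⟩ := zpowers_normal_of_center hx
  haveI := hzn
  haveI : Fact p.Prime := ⟨hp⟩
  have hpg : IsPGroup p (E ⧸ Subgroup.zpowers x) := IsPGroup.of_card (n := k) (by rw [← hk]; rfl)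
  haveI hnil : Group.IsNilpotent (E ⧸ Subgroup.zpowers x) := hpg.isNilpotent
  refine Subgroup.isNilpotent_of_ker_le_center (QuotientGroup.mk' (Subgroup.zpowers x)) ?_
  rw [QuotientGroup.ker_mk']
  exact hzc

variable {G : Type u} [Group G] [Fintype G]

/-- integral combinations of characters induced from linear characters of elementary
subgroups -/
def ESpan : Set (G → ℂ) :=
  {f | ∃ l : List ((E : Subgroup G) × ((E →* ℂˣ) × ℤ)),
      (∀ t ∈ l, ∃ p : ℕ, p.Prime ∧ Cfsg.IsElementary p t.1) ∧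
      f = (l.map fun t => (t.2.2 : ℂ) • Cfsg.indFun t.1 (fun e => (t.2.1 e : ℂ))).sum}

theorem ESpan.zero : (0 : G → ℂ) ∈ (ESpan : Set (G → ℂ)) :=
  ⟨[], by simp, by simp⟩

theorem ESpan.add {f g : G → ℂ} (hf : f ∈ (ESpan : Set (G → ℂ)))
    (hg : g ∈ (ESpan : Set (G → ℂ))) : f + g ∈ (ESpan : Set (G → ℂ)) := by
  obtain ⟨l₁, h₁, rfl⟩ := hf
  obtain ⟨l₂, h₂, rfl⟩ := hg
  refine ⟨l₁ ++ l₂, ?_, ?_⟩
  · intro t ht
    rcases List.mem_append.mp ht with h | h
    · exact h₁ t h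
    · exact h₂ t h
  · rw [List.map_append, List.sum_append]

theorem ESpan.zsmul (n : ℤ) {f : G → ℂ} (hf : f ∈ (ESpan : Set (G → ℂ))) :
    (n : ℂ) • f ∈ (ESpan : Set (G → ℂ)) := by
  obtain ⟨l, h, rfl⟩ := hf
  refine ⟨l.map (fun t => ⟨t.1, (t.2.1, n * t.2.2)⟩), ?_, ?_⟩
  · intro t ht
    obtain ⟨s, hs, rfl⟩ := List.mem_map.mp ht
    exact h s hs
  · rw [List.map_map, List.smul_sum, List.map_map]
    congr 1
    refine List.map_congr_left (fun t _ => ?_)
    simp only [Function.comp]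
    push_cast
    rw [mul_smul]

theorem ESpan.gen (E : Subgroup G) (hE : ∃ p : ℕ, p.Prime ∧ Cfsg.IsElementary p E)
    (lam : E →* ℂˣ) : Cfsg.indFun E (fun e => (lam e : ℂ)) ∈ (ESpan : Set (G → ℂ)) := by
  refine ⟨[⟨E, (lam, 1)⟩], ?_, ?_⟩
  · intro t ht
    rw [List.mem_singleton] at ht
    rw [ht]
    exact hE
  · simp

theorem ESpan.of_char {p : ℕ} (hp : p.Prime) (E : Subgroup G) (hE : Cfsg.IsElementary p E)
    (φ : E → ℂ) (hφ : Cfsg.IsCharacter E φ) :
    Cfsg.indFun E φ ∈ (ESpan : Set (G → ℂ)) := by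
  classical
  haveI : Fintype E := Fintype.ofFinite E
  obtain ⟨m, rfl⟩ := exists_multiset_irr hφ
  clear hφ
  induction m using Multiset.induction_on with
  | empty =>
    rw [Multiset.map_zero, Multiset.sum_zero, Cfsg.Agent.Helper2.Artin.indFun_zero']
    exact ESpan.zero
  | cons ψ m ih =>
    rw [Multiset.map_cons, Multiset.sum_cons, Cfsg.Agent.Helper2.Artin.indFun_add']
    refine ESpan.add ?_ ih
    haveI := isNilpotent_of_isElementary hp hE
    obtain ⟨S, lam, hlam⟩ := Cfsg.Agent.Helper2.Mono.nilpotent_monomial (Fintype.card E) E le_rfl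
      (ψ : E → ℂ) ψ.2
    rw [hlam, Cfsg.Agent.Helper2.Mono.indFun_trans]
    exact ESpan.gen _ ⟨p, hp, isElementary_of_equiv
      (S.equivMapOfInjective E.subtype E.subtype_injective) (isElementary_subgroup hp hE S)⟩
      (lam.comp (S.equivMapOfInjective E.subtype E.subtype_injective).symm.toMonoidHom)

theorem ESpan.of_BSpan {p : ℕ} (hp : p.Prime) {f : G → ℂ}
    (hf : f ∈ (BSpan p : Set (G → ℂ))) : f ∈ (ESpan : Set (G → ℂ)) := by
  refine BSpan.induction (p := p) (fun f => f ∈ (ESpan : Set (G → ℂ))) ESpan.zero ?_ f hf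
  intro E φ c f hE hφ hQ
  exact ESpan.add (ESpan.zsmul c (ESpan.of_char hp E hE φ hφ)) hQ

theorem ESpan.mul_char {f χ : G → ℂ} (hf : f ∈ (ESpan : Set (G → ℂ)))
    (hχ : Cfsg.IsCharacter G χ) : f * χ ∈ (ESpan : Set (G → ℂ)) := by
  obtain ⟨l, hl, rfl⟩ := hf
  induction l with
  | nil => simpa using ESpan.zero (G := G)
  | cons t l ih =>
    rw [List.map_cons, List.sum_cons, add_mul, smul_mul_assoc]
    refine ESpan.add (ESpan.zsmul _ ?_) (ih (fun s hs => hl s (List.mem_cons_of_mem _ hs)))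
    obtain ⟨p, hp, hE⟩ := hl t List.mem_cons_self
    have h3 := Cfsg.Agent.Helper2.CharN.indFun_mul_res t.1 (fun e => ((t.2.1 e : ℂˣ) : ℂ))
      (fun h : t.1 => χ h) (isCharacter_isClassFunction hχ) (fun n => rfl)
    rw [← h3]
    exact ESpan.of_char hp t.1 hE _
      (isCharacter_mul (Cfsg.Agent.Helper2.LinExt.isCharacter_of_hom t.2.1).1
        (isCharacter_res t.1 hχ))

theorem one_mem_ESpan : (fun _ : G => (1:ℂ)) ∈ (ESpan : Set (G → ℂ)) := by
  classical
  have hloc : ∀ p : ℕ, p.Prime →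
      ∃ m : ℤ, ¬ (p : ℤ) ∣ m ∧ (fun _ : G => (m : ℂ)) ∈ (ESpan : Set (G → ℂ)) := by
    intro p hp
    obtain ⟨m, l, hm, hl, hsum⟩ := brauer_local (G := G) p hp
    exact ⟨m, hm, ESpan.of_BSpan hp ⟨l, hl, hsum⟩⟩
  have hex : ∃ n : ℕ, 0 < n ∧ (fun _ : G => ((n : ℤ) : ℂ)) ∈ (ESpan : Set (G → ℂ)) := by
    obtain ⟨m, hm, hmem⟩ := hloc 2 Nat.prime_two
    have hm0 : m ≠ 0 := by
      rintro rfl
      exact hm (dvd_zero _)
    refine ⟨m.natAbs, Int.natAbs_pos.mpr hm0, ?_⟩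
    rcases Int.natAbs_eq m with h | h
    · rw [← h]
      exact hmem
    · have h1 := ESpan.zsmul (-1) hmem
      have h2 : ((-1 : ℤ) : ℂ) • (fun _ : G => (m : ℂ))
          = fun _ : G => ((m.natAbs : ℤ) : ℂ) := by
        funext g
        simp only [Pi.smul_apply, smul_eq_mul]
        have h3 : (m.natAbs : ℤ) = -m := by omega
        rw [h3]
        push_cast
        ring
      rw [h2] at h1
      exact h1
  obtain ⟨D, hDpos, hDmem, hDmin⟩ : ∃ D : ℕ, 0 < D ∧
      (fun _ : G => ((D : ℤ) : ℂ)) ∈ (ESpan : Set (G → ℂ)) ∧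
      ∀ n : ℕ, (0 < n ∧ (fun _ : G => ((n : ℤ) : ℂ)) ∈ (ESpan : Set (G → ℂ))) → D ≤ n :=
    ⟨Nat.find hex, (Nat.find_spec hex).1, (Nat.find_spec hex).2,
      fun n hn => Nat.find_min' hex hn⟩
  by_cases hD1 : D = 1
  · rw [hD1] at hDmem
    simpa using hDmem
  · exfalso
    obtain ⟨p, hp, hpd⟩ := Nat.exists_prime_and_dvd hD1
    obtain ⟨m, hm, hmem⟩ := hloc p hp
    have hg := Int.gcd_eq_gcd_ab (D : ℤ) m
    have hgmem : (fun _ : G => (((Int.gcd (D : ℤ) m : ℕ) : ℤ) : ℂ)) ∈ (ESpan : Set (G → ℂ)) := by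
      have h1 := ESpan.add (ESpan.zsmul (Int.gcdA (D : ℤ) m) hDmem)
        (ESpan.zsmul (Int.gcdB (D : ℤ) m) hmem)
      have h2 : ((Int.gcdA (D : ℤ) m : ℤ) : ℂ) • (fun _ : G => ((D : ℤ) : ℂ))
          + ((Int.gcdB (D : ℤ) m : ℤ) : ℂ) • (fun _ : G => (m : ℂ))
          = fun _ : G => (((Int.gcd (D : ℤ) m : ℕ) : ℤ) : ℂ) := by
        funext g
        simp only [Pi.add_apply, Pi.smul_apply, smul_eq_mul]
        rw [hg]
        push_cast
        ring
      rw [h2] at h1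
      exact h1
    have hgpos : 0 < Int.gcd (D : ℤ) m :=
      Int.gcd_pos_of_ne_zero_left _ (by exact_mod_cast hDpos.ne')
    have hle : D ≤ Int.gcd (D : ℤ) m := hDmin _ ⟨hgpos, hgmem⟩
    have hdvd : (Int.gcd (D : ℤ) m : ℤ) ∣ (D : ℤ) := Int.gcd_dvd_left _ _
    have hdvd' : Int.gcd (D : ℤ) m ∣ D := Int.natCast_dvd_natCast.mp hdvd
    have heq : Int.gcd (D : ℤ) m = D := Nat.le_antisymm (Nat.le_of_dvd hDpos hdvd') hle
    have hDm : (D : ℤ) ∣ m := by
      have := Int.gcd_dvd_right (D : ℤ) m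
      rwa [heq] at this
    exact hm (dvd_trans (Int.natCast_dvd_natCast.mpr hpd) hDm)

theorem brauer_induction (χ : G → ℂ) (hχ : Cfsg.IsCharacter G χ) :
    ∃ l : List ((E : Subgroup G) × ((E →* ℂˣ) × ℤ)),
      (∀ t ∈ l, ∃ p : ℕ, p.Prime ∧ Cfsg.IsElementary p t.1) ∧
      χ = (l.map fun t => (t.2.2 : ℂ) • Cfsg.indFun t.1 (fun e => (t.2.1 e : ℂ))).sum := by
  have h := ESpan.mul_char (one_mem_ESpan (G := G)) hχ
  have h2 : ((fun _ : G => (1:ℂ)) * χ) = χ := by
    funext g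
    simp
  rw [h2] at h
  exact h

end Cfsg.Agent.Helper2.Brauer
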