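import Mathlib
import Cfsg.Agent.Helper2.Brauer5

/-! Brauer's characterisation of characters. -/

namespace Cfsg.Agent.Helper2.Brauer

open Cfsg.Agent.Lead

universe u

section gc
variable {G : Type u} [Group G]

theorem gc_zero : Cfsg.IsGeneralizedCharacter G (0 : G → ℂ) :=
  ⟨0, 0, isCharacter_zero, isCharacter_zero, by simp⟩

theorem gc_of_char {χ : G → ℂ} (h : Cfsg.IsCharacter G χ) : Cfsg.IsGeneralizedCharacter G χ :=
  ⟨χ, 0, h, isCharacter_zero, by simp⟩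

theorem gc_add {f g : G → ℂ} (hf : Cfsg.IsGeneralizedCharacter G f)
    (hg : Cfsg.IsGeneralizedCharacter G g) : Cfsg.IsGeneralizedCharacter G (f + g) := by
  obtain ⟨a, b, ha, hb, rfl⟩ := hf
  obtain ⟨c, d, hc, hd, rfl⟩ := hg
  exact ⟨a + c, b + d, isCharacter_add ha hc, isCharacter_add hb hd, by ring⟩

theorem gc_neg {f : G → ℂ} (hf : Cfsg.IsGeneralizedCharacter G f) :
    Cfsg.IsGeneralizedCharacter G (-f) := by
  obtain ⟨a, b, ha, hb, rfl⟩ := hf
  exact ⟨b, a, hb, ha, by ring⟩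

theorem gc_sub {f g : G → ℂ} (hf : Cfsg.IsGeneralizedCharacter G f)
    (hg : Cfsg.IsGeneralizedCharacter G g) : Cfsg.IsGeneralizedCharacter G (f - g) := by
  rw [sub_eq_add_neg]
  exact gc_add hf (gc_neg hg)

theorem gc_nsmul (k : ℕ) {f : G → ℂ} (hf : Cfsg.IsGeneralizedCharacter G f) :
    Cfsg.IsGeneralizedCharacter G ((k : ℂ) • f) := by
  obtain ⟨a, b, ha, hb, rfl⟩ := hf
  exact ⟨(k : ℂ) • a, (k : ℂ) • b, isCharacter_nsmul k ha, isCharacter_nsmul k hb, by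
    rw [smul_sub]⟩

theorem gc_zsmul (n : ℤ) {f : G → ℂ} (hf : Cfsg.IsGeneralizedCharacter G f) :
    Cfsg.IsGeneralizedCharacter G ((n : ℂ) • f) := by
  obtain ⟨k, hk | hk⟩ : ∃ k : ℕ, n = k ∨ n = -k := ⟨n.natAbs, Int.natAbs_eq n⟩
  · subst hk
    have := gc_nsmul k hf
    simpa using this
  · subst hk
    have := gc_neg (gc_nsmul k hf)
    have h2 : ((-(k : ℤ) : ℤ) : ℂ) • f = -((k : ℂ) • f) := by
      push_cast
      rw [neg_smul]
    rw [h2]
    exact this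

theorem gc_mul_char {f χ : G → ℂ} (hf : Cfsg.IsGeneralizedCharacter G f)
    (hχ : Cfsg.IsCharacter G χ) : Cfsg.IsGeneralizedCharacter G (f * χ) := by
  obtain ⟨a, b, ha, hb, rfl⟩ := hf
  exact ⟨a * χ, b * χ, isCharacter_mul ha hχ, isCharacter_mul hb hχ, by rw [sub_mul]⟩

end gc

variable {G : Type u} [Group G] [Fintype G]

theorem gc_ind (E : Subgroup G) {φ : E → ℂ} (hφ : Cfsg.IsGeneralizedCharacter E φ) :
    Cfsg.IsGeneralizedCharacter G (Cfsg.indFun E φ) := by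
  obtain ⟨a, b, ha, hb, rfl⟩ := hφ
  refine ⟨Cfsg.indFun E a, Cfsg.indFun E b, Cfsg.Agent.S0148.result E a ha,
    Cfsg.Agent.S0148.result E b hb, ?_⟩
  have h := Cfsg.Agent.Helper2.Artin.indFun_add' E (a - b) b
  rw [sub_add_cancel] at h
  rw [h, add_sub_cancel_right]

theorem brauer_char (θ : G → ℂ) (hθ : Cfsg.IsClassFunction G θ)
    (hE : ∀ (E : Subgroup G) (p : ℕ), p.Prime → Cfsg.IsElementary p E →
      Cfsg.IsGeneralizedCharacter E (fun e : E => θ e)) :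
    Cfsg.IsGeneralizedCharacter G θ := by
  obtain ⟨l, hl, hsum⟩ := one_mem_ESpan (G := G)
  have h1 : θ = (fun _ : G => (1:ℂ)) * θ := by
    funext g
    simp
  rw [h1, hsum]
  clear hsum h1
  induction l with
  | nil => simpa using gc_zero (G := G)
  | cons t l ih =>
    rw [List.map_cons, List.sum_cons, add_mul, smul_mul_assoc]
    refine gc_add (gc_zsmul _ ?_) (ih (fun s hs => hl s (List.mem_cons_of_mem _ hs)))
    obtain ⟨p, hp, hEt⟩ := hl t List.mem_cons_self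
    have h3 := Cfsg.Agent.Helper2.CharN.indFun_mul_res t.1 (fun e => ((t.2.1 e : ℂˣ) : ℂ))
      (fun h : t.1 => θ h) hθ (fun n => rfl)
    rw [← h3]
    apply gc_ind
    obtain ⟨α, β, hα, hβ, hαβ⟩ := hE t.1 p hp hEt
    refine ⟨(fun e => ((t.2.1 e : ℂˣ) : ℂ)) * α, (fun e => ((t.2.1 e : ℂˣ) : ℂ)) * β,
      isCharacter_mul (Cfsg.Agent.Helper2.LinExt.isCharacter_of_hom t.2.1).1 hα,
      isCharacter_mul (Cfsg.Agent.Helper2.LinExt.isCharacter_of_hom t.2.1).1 hβ, ?_⟩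
    rw [hαβ, mul_sub]

end Cfsg.Agent.Helper2.Brauer
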