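import Mathlib

set_option autoImplicit false

namespace Cfsg.Agent.Helper2

open scoped Pointwise

variable {G : Type*} [Group G]

lemma mem_map_conj_iff (H : Subgroup G) (g x : G) :
    x ∈ H.map (MulAut.conj g).toMonoidHom ↔ g⁻¹ * x * g ∈ H := by
  constructor
  · rintro ⟨y, hy, rfl⟩
    have : g⁻¹ * ((MulAut.conj g).toMonoidHom y) * g = y := by
      simp only [MulEquiv.toMonoidHom_eq_coe, MonoidHom.coe_coe, MulAut.conj_apply]
      group
    rw [this]; exact hy
  · intro h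
    refine ⟨g⁻¹ * x * g, h, ?_⟩
    simp [MulAut.conj_apply, mul_assoc]

lemma conj_mem_map_conj (H : Subgroup G) (g : G) {y : G} (hy : y ∈ H) :
    g * y * g⁻¹ ∈ H.map (MulAut.conj g).toMonoidHom := by
  rw [mem_map_conj_iff]
  have : g⁻¹ * (g * y * g⁻¹) * g = y := by group
  rw [this]; exact hy

/-- Sylow subgroups are conjugate, elementwise form. -/
lemma sylow_exists_conj {p : ℕ} [Fact p.Prime] [Finite G] (P Q : Sylow p G) :
    ∃ g : G, ∀ x : G, x ∈ Q ↔ g⁻¹ * x * g ∈ P := by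
  obtain ⟨g, hg⟩ := MulAction.exists_smul_eq G P Q
  refine ⟨g, fun x => ?_⟩
  have h1 : (Q : Subgroup G) = MulAut.conj g • (P : Subgroup G) := by
    rw [← hg]; exact Sylow.coe_subgroup_smul
  have h2 : x ∈ (Q : Subgroup G) ↔ g⁻¹ * x * g ∈ (P : Subgroup G) := by
    rw [h1, Subgroup.mem_pointwise_smul_iff_inv_smul_mem, MulAut.smul_def, MulAut.conj_inv_apply]
  exact h2

/-- A `p`-subgroup is conjugate into a given Sylow `p`-subgroup. -/
lemma pgroup_exists_conj_le_sylow {p : ℕ} [Fact p.Prime] [Finite G] {R : Subgroup G} (hR : IsPGroup p R)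
    (P : Sylow p G) : ∃ g : G, ∀ x ∈ R, g * x * g⁻¹ ∈ P := by
  obtain ⟨Q, hQ⟩ := hR.exists_le_sylow
  obtain ⟨g, hg⟩ := sylow_exists_conj P Q
  refine ⟨g⁻¹, fun x hx => ?_⟩
  have := (hg x).mp (hQ hx)
  simpa using this

/-- If conjugation by `g` maps a finite subgroup into itself then so does conjugation by `g⁻¹`. -/
lemma conj_inv_mem_of_conj_mem [Finite G] (A : Subgroup G) (g : G) (h : ∀ a ∈ A, g * a * g⁻¹ ∈ A) :
    ∀ a ∈ A, g⁻¹ * a * g ∈ A := by
  let φ : A → A := fun a => ⟨g * a * g⁻¹, h a a.2⟩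
  have hinj : Function.Injective φ := by
    intro a b hab
    have : g * (a : G) * g⁻¹ = g * (b : G) * g⁻¹ := congrArg Subtype.val hab
    have h2 : (a : G) = b := by
      have := congrArg (fun t => g⁻¹ * t * g) this
      simpa [mul_assoc] using this
    exact Subtype.ext h2
  have hsurj : Function.Surjective φ := Finite.injective_iff_surjective.mp hinj
  intro a ha
  obtain ⟨b, hb⟩ := hsurj ⟨a, ha⟩
  have hb' : g * (b : G) * g⁻¹ = a := congrArg Subtype.val hb
  have : g⁻¹ * a * g = b := by rw [← hb']; group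
  rw [this]; exact b.2

lemma comm_of_isMulCommutative {A : Subgroup G} (h : IsMulCommutative A) {x y : G} (hx : x ∈ A)
    (hy : y ∈ A) : x * y = y * x := by
  have := h.is_comm.comm (⟨x, hx⟩ : A) ⟨y, hy⟩
  exact congrArg Subtype.val this

lemma eq_one_of_mem_inf_eq_bot {H K : Subgroup G} (h : H ⊓ K = ⊥) {x : G} (hx : x ∈ H) (hy : x ∈ K) :
    x = 1 := by
  have : x ∈ H ⊓ K := Subgroup.mem_inf.mpr ⟨hx, hy⟩
  rw [h] at this
  exact Subgroup.mem_bot.mp this

end Cfsg.Agent.Helper2
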