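import Mathlib
import Cfsg.Prelude.Def_TwoFusion
import Cfsg.Agent.Helper2.Isolated3

/-! Isolated involutions: the order formula `|G| = |C| |C_K(sz)| |C_K(s)|`. -/

namespace Cfsg.Agent.Helper2.Iso

open Cfsg.Agent.Helper2

variable {G : Type*} [Group G] [Finite G]

theorem card_class_eq {z s : G} (hz : Cfsg.IsIsolatedInvolution z) (hs : orderOf s = 2)
    (hsz : Commute s z) :
    Nat.card {d : G // IsConj z d} =
      Nat.card {d : G // IsConj z d ∧ Commute d s} *
        Nat.card {d : G // IsConj z d ∧ Commute d (s * z)} := by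
  classical
  have hss : s * s = 1 := by
    have := pow_orderOf_eq_one s
    rw [hs, pow_two] at this
    exact this
  have hsinv : s⁻¹ = s := inv_eq_self_of_mul_self hss
  have hzz := isolated_mul_self hz
  have hmid : ∀ d : {d : G // IsConj z d},
      ∃ m : G, IsConj z m ∧ m * d.1 * m⁻¹ = s * d.1 * s⁻¹ :=
    fun d => exists_mid hz d.2 (d.2.trans (isConj_iff.mpr ⟨s, rfl⟩))
  have hmid_comm : ∀ (d : G) (m : G), IsConj z d → IsConj z m →
      m * d * m⁻¹ = s * d * s⁻¹ → Commute m s := by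
    intro d m hd hm hmd
    have hmi := isolated_of_isConj hz hm
    have hmm := isolated_mul_self hmi
    have hminv := inv_eq_self_of_mul_self hmm
    have hd' : IsConj z (s * d * s⁻¹) := hd.trans (isConj_iff.mpr ⟨s, rfl⟩)
    have h1 : m * (s * d * s⁻¹) * m⁻¹ = d := by
      rw [← hmd, hminv]
      calc m * (m * d * m) * m = (m * m) * d * (m * m) := by group
        _ = d := by rw [hmm, one_mul, mul_one]
    have h2 : (s * m * s⁻¹) * (s * d * s⁻¹) * (s * m * s⁻¹)⁻¹ = d := by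
      calc (s * m * s⁻¹) * (s * d * s⁻¹) * (s * m * s⁻¹)⁻¹ = s * (m * d * m⁻¹) * s⁻¹ := by group
        _ = s * (s * d * s⁻¹) * s⁻¹ := by rw [hmd]
        _ = (s * s) * d * (s * s)⁻¹ := by group
        _ = d := by rw [hss]; group
    have h3 := mid_unique hz hd' hm (hm.trans (isConj_iff.mpr ⟨s, rfl⟩)) h1 h2
    show m * s = s * m
    calc m * s = (s * m * s⁻¹) * s := by rw [← h3]
      _ = s * m := by group
  have hconj : ∀ m : {d : G // IsConj z d ∧ Commute d s},
      ∃ c : G, Commute c s ∧ c * z * c⁻¹ = m.1 := by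
    intro m
    obtain ⟨g, hg⟩ := isConj_iff.mp m.2.1
    obtain ⟨c, hc, hcz⟩ := Cfsg.Agent.S1180.result z hz (Subgroup.centralizer ({s} : Set G))
      (by
        rw [Subgroup.mem_centralizer_iff]
        intro y hy
        rw [Set.mem_singleton_iff] at hy
        rw [hy]; exact hsz) g
      (by
        rw [hg, Subgroup.mem_centralizer_iff]
        intro y hy
        rw [Set.mem_singleton_iff] at hy
        rw [hy]; exact m.2.2.symm)
    refine ⟨c, ?_, hcz.trans hg⟩
    exact (Subgroup.mem_centralizer_iff.mp hc s rfl).symm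
  choose mid hmid1 hmid2 using hmid
  choose cc hcc1 hcc2 using hconj
  -- d commutes with s * m when m is the midpoint of d and its s-conjugate
  have hcomm_sm : ∀ (d m : G), m * d * m⁻¹ = s * d * s⁻¹ → (s * m) * d = d * (s * m) := by
    intro d m hmd
    calc (s * m) * d = s * (m * d * m⁻¹) * m := by group
      _ = s * (s * d * s⁻¹) * m := by rw [hmd]
      _ = (s * s) * d * (s⁻¹ * m) := by group
      _ = d * (s * m) := by rw [hss, one_mul, hsinv]
  let M : {d : G // IsConj z d} → {d : G // IsConj z d ∧ Commute d s} :=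
    fun d => ⟨mid d, hmid1 d, hmid_comm d.1 (mid d) d.2 (hmid1 d) (hmid2 d)⟩
  have hsz_eq : ∀ m : {d : G // IsConj z d ∧ Commute d s},
      s * z = (cc m)⁻¹ * (s * m.1) * cc m := by
    intro m
    have h1 : cc m * s = s * cc m := hcc1 m
    rw [← hcc2 m]
    calc s * z = (cc m)⁻¹ * (cc m * s) * z := by group
      _ = (cc m)⁻¹ * (s * cc m) * z := by rw [h1]
      _ = (cc m)⁻¹ * (s * (cc m * z * (cc m)⁻¹)) * cc m := by group
  let F : {d : G // IsConj z d} →
      {d : G // IsConj z d ∧ Commute d s} × {d : G // IsConj z d ∧ Commute d (s * z)} :=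
    fun d => (M d, ⟨(cc (M d))⁻¹ * d.1 * cc (M d),
      d.2.trans (isConj_iff.mpr ⟨(cc (M d))⁻¹, by rw [inv_inv]⟩), by
        show (cc (M d))⁻¹ * d.1 * cc (M d) * (s * z) = s * z * ((cc (M d))⁻¹ * d.1 * cc (M d))
        rw [hsz_eq (M d)]
        have h1 := hcomm_sm d.1 (mid d) (hmid2 d)
        have h2 : (M d).1 = mid d := rfl
        rw [h2]
        calc (cc (M d))⁻¹ * d.1 * cc (M d) * ((cc (M d))⁻¹ * (s * mid d) * cc (M d))
            = (cc (M d))⁻¹ * (d.1 * (s * mid d)) * cc (M d) := by group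
          _ = (cc (M d))⁻¹ * ((s * mid d) * d.1) * cc (M d) := by rw [h1]
          _ = (cc (M d))⁻¹ * (s * mid d) * cc (M d) * ((cc (M d))⁻¹ * d.1 * cc (M d)) := by
            group⟩)
  let Ginv : {d : G // IsConj z d ∧ Commute d s} × {d : G // IsConj z d ∧ Commute d (s * z)} →
      {d : G // IsConj z d} :=
    fun p => ⟨cc p.1 * p.2.1 * (cc p.1)⁻¹, p.2.2.1.trans (isConj_iff.mpr ⟨cc p.1, rfl⟩)⟩
  have hleft : ∀ d, Ginv (F d) = d := by
    intro d
    apply Subtype.ext
    show cc (M d) * ((cc (M d))⁻¹ * d.1 * cc (M d)) * (cc (M d))⁻¹ = d.1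
    group
  have hright : ∀ p, F (Ginv p) = p := by
    intro p
    have hfirst : M (Ginv p) = p.1 := by
      apply Subtype.ext
      show mid (Ginv p) = p.1.1
      have hd : IsConj z (Ginv p).1 := (Ginv p).2
      -- p.1 is a midpoint of `Ginv p` and its `s`-conjugate
      have hcomm : (p.2.1) * (s * z) = (s * z) * p.2.1 := p.2.2.2
      have h1 : p.1.1 * (Ginv p).1 * (p.1.1)⁻¹ = s * (Ginv p).1 * s⁻¹ := by
        show p.1.1 * (cc p.1 * p.2.1 * (cc p.1)⁻¹) * (p.1.1)⁻¹ =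
          s * (cc p.1 * p.2.1 * (cc p.1)⁻¹) * s⁻¹
        have hc1 : cc p.1 * s = s * cc p.1 := hcc1 p.1
        have hc2 : cc p.1 * z * (cc p.1)⁻¹ = p.1.1 := hcc2 p.1
        have hc1' : (cc p.1)⁻¹ * s = s * (cc p.1)⁻¹ := by
          calc (cc p.1)⁻¹ * s = (cc p.1)⁻¹ * (s * cc p.1) * (cc p.1)⁻¹ := by group
            _ = (cc p.1)⁻¹ * (cc p.1 * s) * (cc p.1)⁻¹ := by rw [hc1]
            _ = s * (cc p.1)⁻¹ := by group
        have hzinv : z⁻¹ = z := inv_eq_self_of_mul_self hzz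
        -- z d' z⁻¹ = s d' s⁻¹ from d' commuting with s z
        have h2 : z * p.2.1 * z⁻¹ = s * p.2.1 * s⁻¹ := by
          have h3 : (s * z) * p.2.1 * (s * z)⁻¹ = p.2.1 := by
            rw [← hcomm]; group
          calc z * p.2.1 * z⁻¹ = s⁻¹ * ((s * z) * p.2.1 * (s * z)⁻¹) * s := by group
            _ = s⁻¹ * p.2.1 * s := by rw [h3]
            _ = s * p.2.1 * s⁻¹ := by rw [hsinv]
        rw [← hc2]
        calc cc p.1 * z * (cc p.1)⁻¹ * (cc p.1 * p.2.1 * (cc p.1)⁻¹) * (cc p.1 * z * (cc p.1)⁻¹)⁻¹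
            = cc p.1 * (z * p.2.1 * z⁻¹) * (cc p.1)⁻¹ := by group
          _ = cc p.1 * (s * p.2.1 * s⁻¹) * (cc p.1)⁻¹ := by rw [h2]
          _ = (cc p.1 * s) * p.2.1 * (cc p.1 * s)⁻¹ := by group
          _ = (s * cc p.1) * p.2.1 * (s * cc p.1)⁻¹ := by rw [hc1]
          _ = s * (cc p.1 * p.2.1 * (cc p.1)⁻¹) * s⁻¹ := by group
      exact mid_unique hz hd (hmid1 (Ginv p)) p.1.2.1 (hmid2 (Ginv p)) h1
    apply Prod.ext
    · exact hfirst
    · apply Subtype.ext
      show (cc (M (Ginv p)))⁻¹ * (Ginv p).1 * cc (M (Ginv p)) = p.2.1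
      rw [hfirst]
      show (cc p.1)⁻¹ * (cc p.1 * p.2.1 * (cc p.1)⁻¹) * cc p.1 = p.2.1
      group
  rw [Nat.card_congr (Equiv.mk F Ginv hleft hright), Nat.card_prod]

theorem card_formula {z : G} (hz : Cfsg.IsIsolatedInvolution z) (s : G) (hs : orderOf s = 2)
    (hsz : Commute s z) :
    Nat.card G = Nat.card (Subgroup.centralizer ({z} : Set G)) *
      Nat.card {k : G // Odd (orderOf k) ∧ z * k * z⁻¹ = k⁻¹ ∧ Commute k (s * z)} *
      Nat.card {k : G // Odd (orderOf k) ∧ z * k * z⁻¹ = k⁻¹ ∧ Commute k s} := by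
  rw [card_eq_centralizer_mul_class z, card_class_eq hz hs hsz, card_K_eq hz s hsz,
    card_K_eq hz (s * z) (hsz.mul_left (Commute.refl z))]
  ring

end Cfsg.Agent.Helper2.Iso
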