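import Mathlib

namespace Cfsg.Agent.Helper2

/-- A Sylow `s`-subgroup of a group of order `s * m` with `s ∤ m` has order `s`. -/
theorem card_sylow_eq_prime {G : Type*} [Group G] [Finite G] (s m : ℕ) [Fact s.Prime]
    (hG : Nat.card G = s * m) (hm : ¬ s ∣ m) (S : Sylow s G) :
    Nat.card (S : Subgroup G) = s := by
  have hs : s.Prime := Fact.out
  have hm0 : m ≠ 0 := by
    rintro rfl
    exact hm (dvd_zero s)
  rw [Sylow.card_eq_multiplicity, hG, Nat.factorization_mul hs.ne_zero hm0]
  simp [hs.factorization_self, Nat.factorization_eq_zero_of_not_dvd hm]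

/-- If the number of Sylow subgroups is one, the Sylow subgroup is normal. -/
theorem sylow_normal_of_card_eq_one {G : Type*} [Group G] [Finite G] (s : ℕ) [Fact s.Prime]
    (S : Sylow s G) (h : Nat.card (Sylow s G) = 1) : (S : Subgroup G).Normal := by
  haveI : Subsingleton (Sylow s G) := (Nat.card_eq_one_iff_unique.mp h).1
  exact Sylow.normal_of_subsingleton S

/-- A prime `q` smaller than the prime `r` is not congruent to `1` modulo `r`
unless the count is one: the Sylow count, dividing a prime `q < r`, is one. -/
theorem card_sylow_eq_one_of_index_prime_lt {G : Type*} [Group G] [Finite G] (r q : ℕ)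
    [Fact r.Prime] (hq : q.Prime) (hqr : q < r) (S : Sylow r G)
    (hidx : (S : Subgroup G).index = q) : Nat.card (Sylow r G) = 1 := by
  have hr : r.Prime := Fact.out
  have h1 := card_sylow_modEq_one r G
  have h2 := Sylow.card_dvd_index S
  rw [hidx] at h2
  rcases (Nat.dvd_prime hq).mp h2 with h | h
  · exact h
  · exfalso
    rw [h] at h1
    unfold Nat.ModEq at h1
    rw [Nat.mod_eq_of_lt hqr, Nat.mod_eq_of_lt hr.one_lt] at h1
    exact hq.ne_one h1

end Cfsg.Agent.Helper2
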