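import Mathlib
import Cfsg.Agent.Helper2.Brauer6
import Cfsg.Agent.Helper2.Mono2
import Cfsg.Agent.Helper2.GalAM2
import Cfsg.Agent.Helper3.GenChar
import Cfsg.Agent.Lead.CharCore6
import Cfsg.Agent.S0148

set_option autoImplicit false

namespace Cfsg.Agent.Helper2.Twist

open Cfsg Cfsg.Agent.Lead Cfsg.Agent.Helper2.Brauer

universe u

theorem indFun_twist {G : Type u} [Group G] [Fintype G] (H : Subgroup G) (f : H → ℂ) (k : ℕ)
    (hk : Nat.Coprime k (Nat.card G)) (g : G) :
    Cfsg.indFun H f (g ^ k) = Cfsg.indFun H (fun h => f (h ^ k)) g := by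
  unfold Cfsg.indFun
  congr 1
  refine Finset.sum_congr rfl (fun x _ => ?_)
  have h1 : x⁻¹ * g ^ k * x = (x⁻¹ * g * x) ^ k := by
    have h2 := conj_pow (a := x⁻¹) (b := g) (i := k)
    rw [inv_inv] at h2
    exact h2.symm
  rw [h1]
  by_cases hy : x⁻¹ * g * x ∈ H
  · rw [extendByZero_mem H f (H.pow_mem hy k), extendByZero_mem H _ hy]
    rfl
  · have hk' : k.Coprime (Fintype.card G) := by rwa [← Nat.card_eq_fintype_card]
    rw [extendByZero_not_mem H f (Cfsg.Agent.Helper2.GalAM.pow_not_mem H hy hk'),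
      extendByZero_not_mem H _ hy]

/-- twists of characters of nilpotent groups are characters -/
theorem twist_nilpotent {E : Type u} [Group E] [Fintype E] [Group.IsNilpotent E] (k : ℕ)
    (hk : Nat.Coprime k (Nat.card E)) {χ : E → ℂ} (hχ : Cfsg.IsCharacter E χ) :
    Cfsg.IsCharacter E (fun e => χ (e ^ k)) := by
  obtain ⟨m, rfl⟩ := exists_multiset_irr hχ
  clear hχ
  induction m using Multiset.induction_on with
  | empty =>
    have h0 : (fun e : E => ((0 : Multiset (Cfsg.IrrCharacter E)).map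
        (fun ψ : Cfsg.IrrCharacter E => (ψ : E → ℂ))).sum (e ^ k)) = 0 := by
      funext e
      simp
    rw [h0]
    exact isCharacter_zero
  | cons ψ m ih =>
    have h1 : (fun e : E => ((ψ ::ₘ m).map (fun ψ : Cfsg.IrrCharacter E => (ψ : E → ℂ))).sum
        (e ^ k))
        = (fun e => (ψ : E → ℂ) (e ^ k))
          + (fun e => (m.map (fun ψ : Cfsg.IrrCharacter E => (ψ : E → ℂ))).sum (e ^ k)) := by
      funext e
      rw [Multiset.map_cons, Multiset.sum_cons]
      rfl
    rw [h1]
    refine isCharacter_add ?_ ih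
    obtain ⟨H, lam, hψ⟩ := Cfsg.Agent.Helper2.Mono.nilpotent_monomial (Fintype.card E) E le_rfl
      (ψ : E → ℂ) ψ.2
    have h2 : (fun e => (ψ : E → ℂ) (e ^ k))
        = Cfsg.indFun H (fun h => (((lam ^ k) h : ℂˣ) : ℂ)) := by
      funext e
      rw [hψ, indFun_twist H _ k hk e]
      congr 1
      funext h
      simp
    rw [h2]
    exact Cfsg.Agent.S0148.result H _ (Cfsg.Agent.Helper2.LinExt.isCharacter_of_hom (lam ^ k)).1

theorem twist_genChar {G : Type u} [Group G] [Fintype G] (k : ℕ)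
    (hk : Nat.Coprime k (Nat.card G)) {χ : G → ℂ} (hχ : Cfsg.IsCharacter G χ) :
    Cfsg.IsGeneralizedCharacter G (fun g => χ (g ^ k)) := by
  refine brauer_char _ ?_ ?_
  · intro g h
    show χ ((h * g * h⁻¹) ^ k) = χ (g ^ k)
    rw [conj_pow]
    exact isCharacter_isClassFunction hχ (g ^ k) h
  · intro E p hp hE
    haveI : Fintype E := Fintype.ofFinite E
    haveI : Group.IsNilpotent E := isNilpotent_of_isElementary hp hE
    have hkE : Nat.Coprime k (Nat.card E) :=
      Nat.Coprime.coprime_dvd_right (Subgroup.card_subgroup_dvd_card E) hk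
    have h1 := twist_nilpotent k hkE (isCharacter_res E hχ)
    exact gc_of_char h1

theorem twist_irr {G : Type u} [Group G] [Fintype G] (k : ℕ) (hk : Nat.Coprime k (Nat.card G))
    {χ : G → ℂ} (hχ : Cfsg.IsIrrCharacter G χ) :
    Cfsg.IsIrrCharacter G (fun g => χ (g ^ k)) := by
  have hgc := twist_genChar k hk (isCharacter_of_isIrrCharacter hχ)
  have hnorm : Cfsg.classInner (fun g => χ (g ^ k)) (fun g => χ (g ^ k)) = 1 := by
    have h1 : Cfsg.classInner χ χ = 1 := classInner_self_of_isIrrCharacter hχ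
    unfold Cfsg.classInner at h1 ⊢
    rw [← h1]
    congr 1
    exact Equiv.sum_comp (powCoprime hk.symm) (fun g => χ g * (starRingEnd ℂ) (χ g))
  obtain ⟨ψ, s, hs, hθ⟩ := Cfsg.Agent.Helper3.genChar_norm_one hgc hnorm
  rcases hs with rfl | rfl
  · rw [hθ, one_smul]
    exact ψ.2
  · exfalso
    have h1 := congrFun hθ 1
    simp only [one_pow, Pi.smul_apply, smul_eq_mul] at h1
    obtain ⟨n, hn, hn1⟩ := isIrrCharacter_one_eq_nat hχ
    obtain ⟨m, hm, hm1⟩ := isIrrCharacter_one_eq_nat ψ.2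
    rw [hn1, hm1] at h1
    have h2 : (n : ℂ) + (m : ℂ) = 0 := by rw [h1]; ring
    have h3 : n + m = 0 := by exact_mod_cast h2
    omega

theorem twist_char {G : Type u} [Group G] [Fintype G] (k : ℕ) (hk : Nat.Coprime k (Nat.card G))
    {χ : G → ℂ} (hχ : Cfsg.IsCharacter G χ) : Cfsg.IsCharacter G (fun g => χ (g ^ k)) := by
  obtain ⟨m, rfl⟩ := exists_multiset_irr hχ
  clear hχ
  induction m using Multiset.induction_on with
  | empty =>
    have h0 : (fun e : G => ((0 : Multiset (Cfsg.IrrCharacter G)).map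
        (fun ψ : Cfsg.IrrCharacter G => (ψ : G → ℂ))).sum (e ^ k)) = 0 := by
      funext e
      simp
    rw [h0]
    exact isCharacter_zero
  | cons ψ m ih =>
    have h1 : (fun e : G => ((ψ ::ₘ m).map (fun ψ : Cfsg.IrrCharacter G => (ψ : G → ℂ))).sum
        (e ^ k))
        = (fun e => (ψ : G → ℂ) (e ^ k))
          + (fun e => (m.map (fun ψ : Cfsg.IrrCharacter G => (ψ : G → ℂ))).sum (e ^ k)) := by
      funext e
      rw [Multiset.map_cons, Multiset.sum_cons]
      rfl
    rw [h1]
    exact isCharacter_add (isCharacter_of_isIrrCharacter (twist_irr k hk ψ.2)) ih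

end Cfsg.Agent.Helper2.Twist
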