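import Mathlib
import Cfsg.Agent.Helper2.Twist
import Cfsg.Agent.Lead.CharClifford
import Cfsg.Agent.Lead.CharConj2

set_option autoImplicit false

namespace Cfsg.Agent.Helper2.Twist

open Cfsg Cfsg.Agent.Lead

universe u

/-- the number of conjugates of `θ` is the index of the stabilizer -/
theorem card_range_conjFun {G : Type u} [Group G] (N : Subgroup G) [hN : N.Normal]
    (θ : N → ℂ) :
    Nat.card (Set.range (conjFun N θ)) = (Cfsg.Agent.Helper2.Mono.stab N θ).index := by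
  unfold Subgroup.index
  symm
  apply Nat.card_congr
  have hwd : ∀ a b : G, (QuotientGroup.leftRel (Cfsg.Agent.Helper2.Mono.stab N θ)) a b →
      conjFun N θ a⁻¹ = conjFun N θ b⁻¹ := by
    intro a b hab
    rw [QuotientGroup.leftRel_apply] at hab
    have h1 : conjFun N θ (a⁻¹ * b) = θ := by
      funext n
      exact (Cfsg.Agent.Helper2.Mono.mem_stab N θ _).mp hab n
    calc conjFun N θ a⁻¹ = conjFun N θ (a⁻¹ * b * b⁻¹) := by rw [mul_inv_cancel_right]
      _ = conjFun N (conjFun N θ (a⁻¹ * b)) b⁻¹ := (conjFun_conjFun N θ _ _).symm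
      _ = conjFun N θ b⁻¹ := by rw [h1]
  refine Equiv.ofBijective (fun q => Quotient.liftOn' q
    (fun g => (⟨conjFun N θ g⁻¹, ⟨g⁻¹, rfl⟩⟩ : Set.range (conjFun N θ)))
    (fun a b hab => Subtype.ext (hwd a b hab))) ⟨?_, ?_⟩
  · intro q₁ q₂ h
    induction q₁ using Quotient.inductionOn' with | h a =>
    induction q₂ using Quotient.inductionOn' with | h b =>
    have h2 : conjFun N θ a⁻¹ = conjFun N θ b⁻¹ := congrArg Subtype.val h
    apply Quotient.sound'
    rw [QuotientGroup.leftRel_apply, Cfsg.Agent.Helper2.Mono.mem_stab]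
    intro n
    have h3 : conjFun N θ (a⁻¹ * b) = θ := by
      rw [← conjFun_conjFun, h2, conjFun_conjFun, inv_mul_cancel, conjFun_one]
    exact congrFun h3 n
  · rintro ⟨ψ, g, rfl⟩
    refine ⟨Quotient.mk'' g⁻¹, ?_⟩
    apply Subtype.ext
    show conjFun N θ (g⁻¹)⁻¹ = conjFun N θ g
    rw [inv_inv]

theorem galois_fixed_constituent {G : Type u} [Group G] [Fintype G] (p : ℕ) [Fact p.Prime]
    (N : Subgroup G) [hN : N.Normal] [Fintype N] (hidx : ¬ p ∣ N.index) (k e : ℕ)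
    (hk : Nat.Coprime k (Nat.card G)) (hke : k ^ (p ^ e) ≡ 1 [MOD Nat.card G])
    (χ : Cfsg.IrrCharacter G) (hχ : ∀ g : G, (χ : G → ℂ) (g ^ k) = (χ : G → ℂ) g)
    (θ : Cfsg.IrrCharacter N)
    (hθ : Cfsg.classInner (fun n : N => (χ : G → ℂ) n) (θ : N → ℂ) ≠ 0) :
    ∀ n : N, (θ : N → ℂ) (n ^ k) = (θ : N → ℂ) n := by
  classical
  have hkN : Nat.Coprime k (Nat.card N) :=
    Nat.Coprime.coprime_dvd_right (Subgroup.card_subgroup_dvd_card N) hk
  have htw_irr : Cfsg.IsIrrCharacter N (fun n => (θ : N → ℂ) (n ^ k)) := twist_irr k hkN θ.2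
  have htw_con : Cfsg.classInner (fun n : N => (χ : G → ℂ) n)
      (fun n => (θ : N → ℂ) (n ^ k)) ≠ 0 := by
    have h1 : Cfsg.classInner (fun n : N => (χ : G → ℂ) n) (fun n => (θ : N → ℂ) (n ^ k))
        = Cfsg.classInner (fun n : N => (χ : G → ℂ) n) (θ : N → ℂ) := by
      unfold Cfsg.classInner
      congr 1
      have h2 : ∀ n : N, (χ : G → ℂ) n * (starRingEnd ℂ) ((θ : N → ℂ) (n ^ k))
          = (fun m : N => (χ : G → ℂ) m * (starRingEnd ℂ) ((θ : N → ℂ) m)) (n ^ k) := by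
        intro n
        show _ = (χ : G → ℂ) ((n ^ k : N) : G) * _
        rw [Subgroup.coe_pow, hχ]
      rw [Finset.sum_congr rfl (fun n _ => h2 n)]
      exact Equiv.sum_comp (powCoprime hkN.symm)
        (fun m : N => (χ : G → ℂ) m * (starRingEnd ℂ) ((θ : N → ℂ) m))
    rw [h1]
    exact hθ
  have horb := clifford_orbit N χ.2 θ.2 hθ ⟨_, htw_irr⟩
  obtain ⟨g₁, hg₁⟩ : ∃ g : G, (fun n => (θ : N → ℂ) (n ^ k)) = conjFun N (θ : N → ℂ) g := by
    by_contra hne
    rw [if_neg hne] at horb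
    exact htw_con horb
  have hcomm : ∀ (ψ : N → ℂ) (g : G),
      (fun n => conjFun N ψ g (n ^ k)) = conjFun N (fun n => ψ (n ^ k)) g := by
    intro ψ g
    funext n
    unfold conjFun
    congr 1
    apply Subtype.ext
    simp only [Subgroup.coe_pow, conj_pow]
  haveI : Finite (Set.range (conjFun N (θ : N → ℂ))) := (Set.finite_range _).to_subtype
  haveI : Fintype (Set.range (conjFun N (θ : N → ℂ))) := Fintype.ofFinite _
  have hmap : ∀ ψ : Set.range (conjFun N (θ : N → ℂ)),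
      (fun n => (ψ : N → ℂ) (n ^ k)) ∈ Set.range (conjFun N (θ : N → ℂ)) := by
    rintro ⟨ψ, g, rfl⟩
    refine ⟨g₁ * g, ?_⟩
    show conjFun N (θ : N → ℂ) (g₁ * g) = fun n => conjFun N (θ : N → ℂ) g (n ^ k)
    rw [hcomm, hg₁, conjFun_conjFun]
  obtain ⟨f, hf⟩ : ∃ f : Function.End (Set.range (conjFun N (θ : N → ℂ))),
      ∀ ψ, ((f ψ : Set.range (conjFun N (θ : N → ℂ))) : N → ℂ)
        = fun n => (ψ : N → ℂ) (n ^ k) :=
    ⟨fun ψ => ⟨fun n => (ψ : N → ℂ) (n ^ k), hmap ψ⟩, fun ψ => rfl⟩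
  have hiter : ∀ (j : ℕ) (ψ : Set.range (conjFun N (θ : N → ℂ))),
      (((f ^ j) ψ : Set.range (conjFun N (θ : N → ℂ))) : N → ℂ)
        = fun n => (ψ : N → ℂ) (n ^ (k ^ j)) := by
    intro j
    induction j with
    | zero =>
      intro ψ
      funext n
      simp
      rfl
    | succ j ih =>
      intro ψ
      rw [pow_succ]
      show (((f ^ j) (f ψ) : Set.range (conjFun N (θ : N → ℂ))) : N → ℂ) = _
      rw [ih (f ψ), hf ψ]
      funext n
      show (ψ : N → ℂ) ((n ^ (k ^ j)) ^ k) = (ψ : N → ℂ) (n ^ (k ^ (j + 1)))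
      rw [← pow_mul, ← pow_succ]
  have hfp : f ^ p ^ e = 1 := by
    funext ψ
    apply Subtype.ext
    rw [hiter]
    funext n
    show (ψ : N → ℂ) (n ^ (k ^ p ^ e)) = (ψ : N → ℂ) n
    congr 1
    have h1 : n ^ (k ^ p ^ e) = n ^ 1 := by
      rw [pow_eq_pow_iff_modEq]
      refine Nat.ModEq.of_dvd ?_ hke
      exact dvd_trans (orderOf_dvd_natCard n) (Subgroup.card_subgroup_dvd_card N)
    rw [h1, pow_one]
  have hmod := Equiv.Perm.card_fixedPoints_modEq (f := f) (p := p) (n := e) hfp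
  rw [Fintype.card_eq_nat_card, Fintype.card_eq_nat_card] at hmod
  have hcard : ¬ p ∣ Nat.card (Set.range (conjFun N (θ : N → ℂ))) := by
    rw [card_range_conjFun N (θ : N → ℂ)]
    intro hdvd
    apply hidx
    exact dvd_trans hdvd (Subgroup.index_dvd_of_le
      (Cfsg.Agent.Helper2.Mono.le_stab N (θ : N → ℂ)
        (isCharacter_isClassFunction (isCharacter_of_isIrrCharacter θ.2))))
  have hfix : Nat.card (Function.fixedPoints f) ≠ 0 := by
    intro h0
    rw [h0] at hmod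
    exact hcard ((Nat.modEq_zero_iff_dvd).mp hmod)
  obtain ⟨⟨⟨ψ₀, g₀, rfl⟩, hψ₀⟩⟩ := (Nat.card_ne_zero.mp hfix).1
  have h5 : (fun n => conjFun N (θ : N → ℂ) g₀ (n ^ k)) = conjFun N (θ : N → ℂ) g₀ := by
    have h6 := congrArg Subtype.val hψ₀
    rw [hf] at h6
    exact h6
  rw [hcomm] at h5
  have h6 := congrArg (fun ψ => conjFun N ψ g₀⁻¹) h5
  simp only [conjFun_conjFun, mul_inv_cancel, conjFun_one] at h6
  intro n
  exact congrFun h6 n

end Cfsg.Agent.Helper2.Twist
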